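import Cfsg.Agent.Lib.Helper10.BR0
import Cfsg.Agent.Lib.Helper79.Blk2

/-!
# S0999 piece BR-X1 (helper90 for helper10): the trivial character lies in `X` with sign `1`
-/

set_option autoImplicit false

namespace Cfsg.Agent.Lib.Helper10.BR

open Cfsg
open Cfsg.Agent.Lib.Helper83 (trivIrr)
open scoped commutatorElement

namespace BRX1aux

theorem perfect_of_simple {G : Type*} [Group G] [IsSimpleGroup G] (hG : ¬ IsCyclic G) :
    commutator G = ⊤ := by
  rcases (inferInstance : (commutator G).Normal).eq_bot_or_eq_top with h | h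
  · exfalso
    have hcomm : ∀ a b : G, a * b = b * a := by
      intro a b
      have h1 : ⁅a, b⁆ ∈ commutator G :=
        Subgroup.commutator_mem_commutator (Subgroup.mem_top a) (Subgroup.mem_top b)
      rw [h, Subgroup.mem_bot] at h1
      exact commutatorElement_eq_one_iff_mul_comm.mp h1
    let _ : CommGroup G := { ‹Group G› with mul_comm := hcomm }
    exact hG IsSimpleGroup.isCyclic
  · exact h

end BRX1aux

/-- BR-X1 -/
theorem triv_mem {G : Type*} [Group G] [Fintype G] [IsSimpleGroup G] (hG : ¬ IsCyclic G)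
    (p : ℕ) (M : Ideal AlgInt) (hM : IsPModular p M) (P : Subgroup G) (hP : Nat.card P = p)
    (e : ℕ) (X Y : Set (IrrCharacter G)) (εX : IrrCharacter G → ℤ) (ε : ℤ)
    (hD : DOut G p M P e X Y εX ε) (ht : 2 ≤ (p - 1) / e) :
    trivIrr G ∈ X ∧ εX (trivIrr G) = 1 := by
  classical
  have hp : p.Prime := hM.1
  have h1 : trivIrr G ∈ X ∪ Y := by
    rw [← hD.block]
    exact Cfsg.Agent.Lib.Helper79.trivIrr_mem_principalBlock hM
  have hreg : ¬ p ∣ orderOf (1 : G) := by
    rw [orderOf_one]
    exact fun h => hp.one_lt.ne' (Nat.dvd_one.mp h)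
  have hX : trivIrr G ∈ X := by
    rcases h1 with h | h
    · exact h
    · exfalso
      have hcard : 2 ≤ Nat.card Y := by rw [hD.cardY]; exact ht
      obtain ⟨θ', hθ', hne⟩ : ∃ θ' ∈ Y, θ' ≠ trivIrr G := by
        by_contra hcon
        push Not at hcon
        have hss : Subsingleton Y :=
          ⟨fun a b => Subtype.ext ((hcon a.1 a.2).trans (hcon b.1 b.2).symm)⟩
        have hsub : Nat.card Y ≤ 1 := Finite.card_le_one_iff_subsingleton.mpr hss
        omega
      have h2 := hD.regY θ' hθ' (trivIrr G) h 1 hreg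
      have h3 : (θ' : G → ℂ) 1 = 1 := h2
      apply hne
      apply Subtype.ext
      funext g
      have hg : g ∈ commutator G := by
        rw [BRX1aux.perfect_of_simple hG]
        exact Subgroup.mem_top g
      exact Cfsg.Agent.Lib.Helper83.irr_linear_commutator θ'.2 h3 hg
  refine ⟨hX, ?_⟩
  have hPcard : 1 < Nat.card P := by rw [hP]; exact hp.one_lt
  have hPfin : Finite P := Nat.finite_of_card_ne_zero (by omega)
  obtain ⟨x, hx⟩ : ∃ x : P, x ≠ 1 := by
    have hnt : Nontrivial P := Finite.one_lt_card_iff_nontrivial.mp hPcard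
    exact exists_ne 1
  have h4 := hD.valX (trivIrr G) hX x x.2 (fun h => hx (Subtype.ext h)) 1
    (Subgroup.one_mem _) hreg
  have h5 : (1 : ℂ) = ((εX (trivIrr G) : ℤ) : ℂ) := h4
  exact_mod_cast h5.symm

end Cfsg.Agent.Lib.Helper10.BR
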