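import Cfsg.Agent.Lib.Helper90.Crit2

set_option autoImplicit false

namespace Cfsg.Agent.Lib.Helper90

open Cfsg Cfsg.FusionSystem

variable {Ω : Type*} [Group Ω] {S : Subgroup Ω} {F : FusionSystem S} {P Q : Subgroup Ω}
  {f g : Ω → Ω}

/-- Alperin-style induction (by order) for saturated fusion systems over a finite `p`-group: a class of maps
that is closed under restriction, composition and inverses and contains the automorphisms of each
fully automized receptive subgroup `P` as soon as it contains all maps with a larger source,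
contains every map. -/
theorem alperin_induction_card [Finite S] {p : ℕ} [Fact p.Prime] (hS : IsPGroup p S)
    (hF : F.IsSaturated p) (good : Subgroup Ω → (Ω → Ω) → Prop)
    (h_congr : ∀ (P : Subgroup Ω) (f g : Ω → Ω), good P f → (∀ x ∈ P, f x = g x) → good P g)
    (h_res : ∀ (P P₀ : Subgroup Ω) (f : Ω → Ω), Mor F P f → good P f → P₀ ≤ P → good P₀ f)
    (h_comp : ∀ (P Q : Subgroup Ω) (f g : Ω → Ω), Mor F P f → Mor F Q g → (∀ x ∈ P, f x ∈ Q) →
      good P f → good Q g → good P (g ∘ f))
    (h_inv : ∀ (P : Subgroup Ω) (f : Ω → Ω), Mor F P f → good P f → good (img P f) (invFn P f))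
    (h_aut : ∀ P : Subgroup Ω, F.IsFullyAutomized p P → F.IsReceptive P →
      (∀ (P₂ : Subgroup Ω) (f : Ω → Ω), Nat.card P < Nat.card P₂ → Mor F P₂ f → good P₂ f) →
      ∀ f : Ω → Ω, Mor F P f → (∀ x ∈ P, f x ∈ P) → good P f) :
    ∀ (P : Subgroup Ω) (f : Ω → Ω), Mor F P f → good P f := by
  intro P f hf
  induction hn : Nat.card S - Nat.card P using Nat.strong_induction_on generalizing P f with
  | _ n ih =>
  have hP : P ≤ S := hf.le
  have hcardle : ∀ R : Subgroup Ω, R ≤ S → Nat.card R ≤ Nat.card S := fun R hR =>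
    Subgroup.card_le_of_le hR
  rcases eq_or_lt_of_le hP with heq | hlt
  · -- `P = S`
    have hfr : F.IsFullyAutomized p P ∧ F.IsReceptive P := by
      rw [heq]
      exact top_fullyAutomized_receptive hF
    refine h_aut P hfr.1 hfr.2 ?_ f hf ?_
    · intro P₂ f₂ hlt hf₂
      have h2 := hcardle _ hf₂.le
      rw [heq] at hlt
      omega
    · intro x hx
      rw [heq]
      exact hf.mem hx
  · obtain ⟨P', hconj, hfa, hrec⟩ := hF P hP
    obtain ⟨c, hc, hcimg⟩ := isConj_iff.mp hconj
    have hP' : P' ≤ S := hfa.1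
    have hf1 : Mor F (img P f) (invFn P f) := hf.inv
    have hc1 : Mor F (img P f) (c ∘ invFn P f) := hf1.comp hc (fun y hy => hf.invFn_mem hy)
    have hc1img : img (img P f) (c ∘ invFn P f) = P' := by
      rw [Mor.img_comp hf1 hc (fun y hy => hf.invFn_mem hy), hf.img_inv, hcimg]
    obtain ⟨θ, hθ, hθimg⟩ := exists_normalizer_map hS hfa hrec hc hcimg
    obtain ⟨θ₁, hθ₁, hθ₁img⟩ := exists_normalizer_map hS hfa hrec hc1 hc1img
    have hcardP' : Nat.card P' = Nat.card P := by rw [← hcimg, hc.card_img]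
    have hcardP₁ : Nat.card (img P f) = Nat.card P := hf.card_img
    have hlt1 : img P f < S := by
      refine lt_of_le_of_ne hf.img_le ?_
      intro h
      have h2 : Nat.card P < Nat.card S := card_lt_of_lt hlt
      rw [← h, hcardP₁] at h2
      exact lt_irrefl _ h2
    have hN : P < normalizerIn S P := lt_normalizerIn hS hlt
    have hN1 : img P f < normalizerIn S (img P f) := lt_normalizerIn hS hlt1
    have hNS : normalizerIn S P ≤ S := inf_le_left
    have hN1S : normalizerIn S (img P f) ≤ S := inf_le_left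
    have : Finite (normalizerIn S P) := finite_of_le hNS
    have : Finite (normalizerIn S (img P f)) := finite_of_le hN1S
    have hcN : Nat.card P < Nat.card (normalizerIn S P) := card_lt_of_lt hN
    have hcN1 : Nat.card (img P f) < Nat.card (normalizerIn S (img P f)) := card_lt_of_lt hN1
    have hPS : Nat.card P ≤ Nat.card S := hcardle P hP
    have gθ : good (normalizerIn S P) θ :=
      ih (Nat.card S - Nat.card (normalizerIn S P)) (by
        have := hcardle _ hNS
        omega) _ _ hθ rfl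
    have gθ₁ : good (normalizerIn S (img P f)) θ₁ :=
      ih (Nat.card S - Nat.card (normalizerIn S (img P f))) (by
        have := hcardle _ hN1S
        omega) _ _ hθ₁ rfl
    have gθP : good P θ := h_res _ _ _ hθ gθ hN.le
    have gθ₁P : good (img P f) θ₁ := h_res _ _ _ hθ₁ gθ₁ hN1.le
    have hθP : Mor F P θ := hθ.restrict hN.le
    have hθ₁P : Mor F (img P f) θ₁ := hθ₁.restrict hN1.le
    have hθinv : Mor F P' (invFn P θ) := by
      have := hθP.inv
      rwa [hθimg] at this
    have hinvmem : ∀ y ∈ P', invFn P θ y ∈ P := fun y hy => hθP.invFn_mem (hθimg ▸ hy)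
    have ha : Mor F P' (θ₁ ∘ f ∘ invFn P θ) :=
      (hθinv.comp hf hinvmem).comp hθ₁P (fun y hy => hf.mem_img_of_mem (hinvmem y hy))
    have ha_self : ∀ y ∈ P', (θ₁ ∘ f ∘ invFn P θ) y ∈ P' := by
      intro y hy
      rw [← hθ₁img]
      exact hθ₁P.mem_img_of_mem (hf.mem_img_of_mem (hinvmem y hy))
    have ga : good P' (θ₁ ∘ f ∘ invFn P θ) := by
      refine h_aut P' hfa hrec ?_ _ ha ha_self
      intro P₂ f₂ h1 hf₂
      have h2 := hcardle _ hf₂.le
      exact ih (Nat.card S - Nat.card P₂) (by omega) _ _ hf₂ rfl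
    have hθmem : ∀ x ∈ P, θ x ∈ P' := fun x hx => hθimg ▸ hθP.mem_img_of_mem hx
    have g1 : good P ((θ₁ ∘ f ∘ invFn P θ) ∘ θ) := h_comp P P' θ _ hθP ha hθmem gθP ga
    have ginv : good P' (invFn (img P f) θ₁) := by
      have := h_inv _ _ hθ₁P gθ₁P
      rwa [hθ₁img] at this
    have hθ₁inv : Mor F P' (invFn (img P f) θ₁) := by
      have := hθ₁P.inv
      rwa [hθ₁img] at this
    have g2 : good P (invFn (img P f) θ₁ ∘ ((θ₁ ∘ f ∘ invFn P θ) ∘ θ)) :=
      h_comp P P' _ _ (hθP.comp ha hθmem) hθ₁inv (fun x hx => ha_self _ (hθmem x hx)) g1 ginv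
    refine h_congr _ _ _ g2 ?_
    intro x hx
    show invFn (img P f) θ₁ (θ₁ (f (invFn P θ (θ x)))) = f x
    rw [hθP.invFn_apply hx, hθ₁P.invFn_apply (hf.mem_img_of_mem hx)]


end Cfsg.Agent.Lib.Helper90
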