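import Cfsg.Agent.Lib.Helper90.EssIndexP
import Cfsg.Agent.Lib.Helper41.Crit

set_option autoImplicit false

namespace Cfsg.Agent.Lib.Helper90

section Crit2

open scoped commutatorElement

variable {H : Type*} [Group H]

/-- Invariance of a subgroup under all automorphisms of the group. -/
def AutInv (K : Subgroup H) : Prop := ∀ φ : MulAut H, ∀ x ∈ K, φ x ∈ K

theorem AutInv.normal {K : Subgroup H} (hK : AutInv K) : K.Normal :=
  ⟨fun x hx g => hK (MulAut.conj g) x hx⟩

theorem AutInv.centralizer {K : Subgroup H} (hK : AutInv K) :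
    AutInv (Subgroup.centralizer (K : Set H)) := by
  intro φ x hx
  rw [Subgroup.mem_centralizer_iff] at hx ⊢
  intro k hk
  have h1 := hx (φ⁻¹ k) (hK φ⁻¹ k hk)
  have h2 := congrArg φ h1
  simpa using h2

theorem AutInv.inf {K L : Subgroup H} (hK : AutInv K) (hL : AutInv L) : AutInv (K ⊓ L) :=
  fun φ x hx => ⟨hK φ x hx.1, hL φ x hx.2⟩

theorem exists_max_char_abelian [Finite H] :
    ∃ M : Subgroup H, AutInv M ∧ (∀ a ∈ M, ∀ b ∈ M, a * b = b * a) ∧
      ∀ M' : Subgroup H, AutInv M' → (∀ a ∈ M', ∀ b ∈ M', a * b = b * a) → M ≤ M' → M' = M := by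
  obtain ⟨M, hM⟩ := Set.Finite.exists_maximal
    (s := {M : Subgroup H | AutInv M ∧ ∀ a ∈ M, ∀ b ∈ M, a * b = b * a}) (Set.toFinite _)
    ⟨⊥, fun φ x hx => by rw [Subgroup.mem_bot] at hx ⊢; rw [hx, map_one], fun a ha b hb => by
      rw [Subgroup.mem_bot] at ha hb; rw [ha, hb]⟩
  refine ⟨M, hM.prop.1, hM.prop.2, fun M' h1 h2 hle => ?_⟩
  exact le_antisymm (hM.le_of_ge ⟨h1, h2⟩ hle) hle

/-- **Thompson's critical subgroup**, in the form needed for detecting automorphisms of order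
prime to `p`: a characteristic subgroup all of whose elements have order dividing `p` (dividing
`4` when `p = 2`) on which every nontrivial automorphism of order prime to `p` acts
nontrivially. -/
theorem exists_small_crit [Finite H] {p : ℕ} [hp : Fact p.Prime] (hH : IsPGroup p H) :
    ∃ D₁ : Subgroup H, AutInv D₁ ∧ (∀ x ∈ D₁, x ^ p = 1 ∨ (p = 2 ∧ x ^ 4 = 1)) ∧
      ∀ c : MulAut H, Nat.Coprime (orderOf c) p → (∀ x ∈ D₁, c x = x) → c = 1 := by
  obtain ⟨M, hMinv, hMab, hMmax⟩ := exists_max_char_abelian (H := H)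
  have hMn : M.Normal := hMinv.normal
  obtain ⟨C, hC⟩ : ∃ C : Subgroup H, C = Subgroup.centralizer (M : Set H) := ⟨_, rfl⟩
  have hCmem : ∀ x, x ∈ C ↔ ∀ m ∈ M, m * x = x * m := by
    intro x
    rw [hC, Subgroup.mem_centralizer_iff]
    exact Iff.rfl
  have hCinv : AutInv C := hC ▸ hMinv.centralizer
  have hMC : M ≤ C := fun a ha => (hCmem a).mpr (fun b hb => hMab b hb a ha)
  obtain ⟨U, hU⟩ : ∃ U : Subgroup H, U = Subgroup.upperCentralSeriesStep M := ⟨_, rfl⟩
  have hUmem : ∀ x, x ∈ U ↔ ∀ y, ⁅x, y⁆ ∈ M := by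
    intro x
    rw [hU, Subgroup.mem_upperCentralSeriesStep]
  have hUinv : AutInv U := by
    intro φ x hx
    rw [hUmem] at hx ⊢
    intro y
    have h1 := hMinv φ _ (hx (φ⁻¹ y))
    simpa [commutatorElement_def] using h1
  have hMU : M ≤ U := by
    intro m hm
    rw [hUmem]
    intro y
    have h1 : y * m⁻¹ * y⁻¹ ∈ M := hMn.conj_mem _ (M.inv_mem hm) y
    have h2 := M.mul_mem hm h1
    have h3 : ⁅m, y⁆ = m * (y * m⁻¹ * y⁻¹) := by rw [commutatorElement_def]; group
    rw [h3]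
    exact h2
  -- the basic commutation facts for two elements of `C ⊓ U`
  have hkey : ∀ x y, x ∈ C → y ∈ C → y ∈ U →
      ⁅y, x⁆ ∈ M ∧ Commute ⁅y, x⁆ x ∧ Commute ⁅y, x⁆ y ∧ y * x = ⁅y, x⁆ * x * y := by
    intro x y hxC hyC hyU
    have hc : ⁅y, x⁆ ∈ M := (hUmem y).mp hyU x
    refine ⟨hc, (hCmem x).mp hxC _ hc, (hCmem y).mp hyC _ hc, ?_⟩
    rw [commutatorElement_def]
    group
  let D : Subgroup H :=
    { carrier := {x | x ∈ C ∧ x ∈ U ∧ x ^ p ∈ M}
      one_mem' := ⟨C.one_mem, U.one_mem, by rw [one_pow]; exact M.one_mem⟩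
      mul_mem' := by
        rintro x y ⟨hxC, hxU, hxp⟩ ⟨hyC, hyU, hyp⟩
        refine ⟨C.mul_mem hxC hyC, U.mul_mem hxU hyU, ?_⟩
        obtain ⟨hc, hcx, hcy, h1⟩ := hkey x y hxC hyC hyU
        rw [mul_pow_of_central h1 hcx hcy p]
        exact M.mul_mem (M.mul_mem hxp hyp) (M.pow_mem hc _)
      inv_mem' := by
        rintro x ⟨hxC, hxU, hxp⟩
        refine ⟨C.inv_mem hxC, U.inv_mem hxU, ?_⟩
        rw [inv_pow]
        exact M.inv_mem hxp }
  have hDmem : ∀ x, x ∈ D ↔ x ∈ C ∧ x ∈ U ∧ x ^ p ∈ M := fun x => Iff.rfl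
  have hMD : M ≤ D := fun m hm => ⟨hMC hm, hMU hm, M.pow_mem hm _⟩
  have hDinv : AutInv D := by
    intro φ x hx
    obtain ⟨hxC, hxU, hxp⟩ := hx
    refine ⟨hCinv φ x hxC, hUinv φ x hxU, ?_⟩
    rw [← map_pow]
    exact hMinv φ _ hxp
  have hDn : D.Normal := hDinv.normal
  -- the centre of `D` is `M`
  have hZD : D ⊓ Subgroup.centralizer (D : Set H) = M := by
    apply hMmax _ (hDinv.inf hDinv.centralizer)
    · intro a ha b hb
      exact (Subgroup.mem_centralizer_iff.mp ha.2 b hb.1).symm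
    · intro m hm
      refine Subgroup.mem_inf.mpr ⟨hMD hm, ?_⟩
      rw [Subgroup.mem_centralizer_iff]
      intro d hd
      exact ((hCmem d).mp hd.1 m hm).symm
  -- the centralizer of `D` is contained in `M`
  have hcent : Subgroup.centralizer (D : Set H) ≤ M := by
    by_contra hcon
    obtain ⟨b₀, hb₀E, hb₀M⟩ := SetLike.not_le_iff_exists.mp hcon
    have hEinv : AutInv (Subgroup.centralizer (D : Set H)) := hDinv.centralizer
    have hEn : (Subgroup.centralizer (D : Set H)).Normal := hEinv.normal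
    have hEC : Subgroup.centralizer (D : Set H) ≤ C := by
      rw [hC]
      exact Subgroup.centralizer_le hMD
    have hnil : Group.IsNilpotent H := hH.isNilpotent
    obtain ⟨k, hk⟩ := Group.IsNilpotent.nilpotent H
    have hex : ∃ i, ∃ b ∈ Subgroup.centralizer (D : Set H), b ∉ M ∧
        b ∈ Subgroup.upperCentralSeries H i :=
      ⟨k, b₀, hb₀E, hb₀M, by rw [hk]; exact Subgroup.mem_top _⟩
    classical
    obtain ⟨b, hbE, hbM, hbZ⟩ := Nat.find_spec hex
    have hi0 : Nat.find hex ≠ 0 := by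
      intro h0
      rw [h0, Subgroup.upperCentralSeries_zero, Subgroup.mem_bot] at hbZ
      exact hbM (hbZ ▸ M.one_mem)
    obtain ⟨j, hj⟩ := Nat.exists_eq_succ_of_ne_zero hi0
    rw [hj] at hbZ
    have hbU : b ∈ U := by
      rw [hUmem]
      intro y
      by_contra hnot
      have h1 : ⁅b, y⁆ ∈ Subgroup.upperCentralSeries H j :=
        Subgroup.mem_upperCentralSeries_succ_iff.mp hbZ y
      have h2 : ⁅b, y⁆ ∈ Subgroup.centralizer (D : Set H) := by
        have h3 : y * b⁻¹ * y⁻¹ ∈ Subgroup.centralizer (D : Set H) :=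
          hEn.conj_mem _ (Subgroup.inv_mem _ hbE) y
        have h4 := Subgroup.mul_mem _ hbE h3
        have h5 : ⁅b, y⁆ = b * (y * b⁻¹ * y⁻¹) := by rw [commutatorElement_def]; group
        rw [h5]
        exact h4
      exact Nat.find_min hex (show j < Nat.find hex by omega) ⟨_, h2, hnot, h1⟩
    -- adjust by a power
    have hex2 : ∃ n, b ^ (p ^ n) ∈ M := by
      obtain ⟨n, hn⟩ := hH b
      exact ⟨n, hn ▸ M.one_mem⟩
    have hn0 : Nat.find hex2 ≠ 0 := by
      intro h0
      have := Nat.find_spec hex2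
      rw [h0, pow_zero, pow_one] at this
      exact hbM this
    obtain ⟨n₁, hn₁⟩ := Nat.exists_eq_succ_of_ne_zero hn0
    have hh1 : b ^ (p ^ n₁) ∉ M := Nat.find_min hex2 (show n₁ < Nat.find hex2 by omega)
    have hh2 : (b ^ (p ^ n₁)) ^ p ∈ M := by
      have := Nat.find_spec hex2
      rw [hn₁, pow_succ, pow_mul] at this
      exact this
    have hhD : b ^ (p ^ n₁) ∈ D :=
      ⟨C.pow_mem (hEC hbE) _, U.pow_mem hbU _, hh2⟩
    have hhM : b ^ (p ^ n₁) ∈ D ⊓ Subgroup.centralizer (D : Set H) :=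
      ⟨hhD, Subgroup.pow_mem _ hbE _⟩
    rw [hZD] at hhM
    exact hh1 hhM
  -- automorphisms of order prime to `p` are detected on `D`
  have hcrit : ∀ c : MulAut H, Nat.Coprime (orderOf c) p → (∀ x ∈ D, c x = x) → c = 1 := by
    intro c hcop hc
    ext q
    show c q = q
    obtain ⟨k, hk⟩ := hH (q⁻¹ * c q)
    have hz : q⁻¹ * c q ∈ Subgroup.centralizer (D : Set H) := by
      rw [Subgroup.mem_centralizer_iff]
      intro d hd
      have h1 : q * d * q⁻¹ ∈ D := hDn.conj_mem d hd q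
      have h2 := hc _ h1
      rw [map_mul, map_mul, hc d hd, map_inv] at h2
      calc d * (q⁻¹ * c q) = q⁻¹ * (q * d * q⁻¹) * c q := by group
        _ = q⁻¹ * (c q * d * (c q)⁻¹) * c q := by rw [h2]
        _ = q⁻¹ * c q * d := by group
    have hzD : q⁻¹ * c q ∈ D := hMD (hcent hz)
    exact aut_fix_of_fix_comm c hcop q (hc _ hzD) (by rw [pow_orderOf_eq_one]; rfl) hk
  -- the elements of small order
  obtain ⟨e, he⟩ : ∃ e : ℕ, e = if p = 2 then 4 else p := ⟨_, rfl⟩
  have hchoose : ∀ c : H, c ^ p = 1 → c ^ (e.choose 2) = 1 := by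
    intro c hc
    by_cases h2 : p = 2
    · rw [he, if_pos h2]
      have h6 : (4 : ℕ).choose 2 = 2 * 3 := by decide
      rw [h6, pow_mul, ← h2, hc, one_pow]
    · rw [he, if_neg h2]
      have hdvd : p ∣ p.choose 2 :=
        hp.1.dvd_choose_self (by norm_num) (lt_of_le_of_ne hp.1.two_le (Ne.symm h2))
      obtain ⟨t, ht⟩ := hdvd
      rw [ht, pow_mul, hc, one_pow]
  let D₁ : Subgroup H :=
    { carrier := {x | x ∈ D ∧ x ^ e = 1}
      one_mem' := ⟨D.one_mem, one_pow _⟩
      mul_mem' := by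
        rintro x y ⟨hxD, hxe⟩ ⟨hyD, hye⟩
        refine ⟨D.mul_mem hxD hyD, ?_⟩
        obtain ⟨hxC, hxU, hxp⟩ := hxD
        obtain ⟨hyC, hyU, hyp⟩ := hyD
        obtain ⟨hc, hcx, hcy, h1⟩ := hkey x y hxC hyC hyU
        have h2 := pow_mul_of_central h1 hcx hcy p
        have h3 : y ^ p * x = x * y ^ p := (hCmem x).mp hxC _ hyp
        have hcp : ⁅y, x⁆ ^ p = 1 := by
          have h4 : ⁅y, x⁆ ^ p * (x * y ^ p) = x * y ^ p := by rw [← mul_assoc, ← h2, h3]
          exact mul_eq_right.mp h4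
        rw [mul_pow_of_central h1 hcx hcy e, hxe, hye, hchoose _ hcp]
        simp
      inv_mem' := by
        rintro x ⟨hxD, hxe⟩
        exact ⟨D.inv_mem hxD, by rw [inv_pow, hxe, inv_one]⟩ }
  have hD₁mem : ∀ x, x ∈ D₁ ↔ x ∈ D ∧ x ^ e = 1 := fun x => Iff.rfl
  refine ⟨D₁, ?_, ?_, ?_⟩
  · intro φ x hx
    refine ⟨hDinv φ x hx.1, ?_⟩
    rw [← map_pow, hx.2, map_one]
  · intro x hx
    have hxe := hx.2
    by_cases h2 : p = 2
    · right
      rw [he, if_pos h2] at hxe
      exact ⟨h2, hxe⟩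
    · left
      rw [he, if_neg h2] at hxe
      exact hxe
  · intro c hcop hc1
    apply hcrit c hcop
    by_contra hne
    push Not at hne
    obtain ⟨x₀, hx₀D, hx₀⟩ := hne
    have hDp : IsPGroup p D := hH.to_subgroup D
    let φ : ↥D →* ↥D := (c.toMonoidHom.comp D.subtype).codRestrict D (fun x => hDinv c x x.2)
    have hφ : ∀ x : ↥D, ((φ x : ↥D) : H) = c x := fun x => rfl
    have hφiter : ∀ (n : ℕ) (x : ↥D), ((φ^[n] x : ↥D) : H) = (c ^ n) x := by
      intro n
      induction n with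
      | zero => intro x; simp
      | succ n ih =>
        intro x
        rw [Function.iterate_succ_apply', hφ, ih, pow_succ']
        rfl
    obtain ⟨D', hinv, hgen, hexp, hne'⟩ := Cfsg.Agent.Lib.Helper41.exists_minimal_invariant hDp φ
      (orderOf c) hcop (fun x => Subtype.ext (by rw [hφiter, pow_orderOf_eq_one]; rfl))
      ⟨⟨x₀, hx₀D⟩, fun h => hx₀ (congrArg Subtype.val h)⟩
    apply hne'
    rw [eq_bot_iff]
    refine hgen.trans ?_
    rw [Subgroup.closure_le]
    rintro _ ⟨d, hd, rfl⟩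
    have hd1 : (d : H) ∈ D₁ := by
      refine ⟨d.2, ?_⟩
      rcases hexp d hd with h | ⟨h2, h4⟩
      · have h' : (d : H) ^ p = 1 := by
          have := congrArg Subtype.val h
          simpa using this
        by_cases h2 : p = 2
        · rw [he, if_pos h2]
          rw [h2] at h'
          have : (4 : ℕ) = 2 * 2 := by norm_num
          rw [this, pow_mul, h', one_pow]
        · rw [he, if_neg h2]
          exact h'
      · have h' : (d : H) ^ 4 = 1 := by
          have := congrArg Subtype.val h4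
          simpa using this
        rw [he, if_pos h2]
        exact h'
    have hfix : φ d = d := Subtype.ext (by rw [hφ]; exact hc1 _ hd1)
    show d⁻¹ * φ d ∈ (⊥ : Subgroup ↥D)
    rw [hfix]
    simp

end Crit2

end Cfsg.Agent.Lib.Helper90
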