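import Cfsg.Agent.Lib.Helper61.F15Defs

/-!
# S1615 piece P6 (helper90 for helper61): the twin property moves to a neighbour of `b, c`
not commuting with `a`
-/

set_option autoImplicit false

namespace Cfsg.Agent.Lib.Helper90.F15

open Cfsg Cfsg.Agent.Lib.Helper11 Cfsg.Agent.Lib.Helper61.F15

variable {G : Type*} [Group G] {D : Set G}

theorem twW_half (hD : IsThreeTranspositionClass D) {a b c u : G} (ha : a ∈ D)
    (hab : Commute a b) (hac : Commute a c) (hbc : ¬ Commute b c)
    (htw : ∀ f ∈ D, Commute a f → f ≠ b → f ≠ c → (Commute f b ↔ Commute f c))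
    (hu : u ∈ D) (hub : Commute u b) (huc : Commute u c) (hua : ¬ Commute u a)
    {g : G} (hg : g ∈ D) (hug : Commute u g) (hgb : g ≠ b) (hgc : g ≠ c)
    (hgb' : Commute g b) : Commute g c := by
  by_cases hga : Commute g a
  · exact (htw g hg hga.symm hgb hgc).mp hgb'
  · have uu := tt_sq hD hu
    have aa := tt_sq hD ha
    have br := (tt_braid hD hu ha hua).1
    obtain ⟨f, hf⟩ : ∃ f : G, f = u * a * u := ⟨_, rfl⟩
    have ff : f * f = 1 := by
      rw [hf]
      calc u * a * u * (u * a * u) = u * a * (u * u) * a * u := by group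
        _ = u * (a * a) * u := by rw [uu]; group
        _ = 1 := by rw [aa, mul_one, uu]
    have finv : f⁻¹ = f := inv_eq_of_mul_eq_one_left ff
    have hfuf : f * u * f⁻¹ = a := by
      rw [finv, hf]
      calc u * a * u * u * (u * a * u) = u * a * (u * u) * (u * a * u) := by group
        _ = u * a * (u * a * u) := by rw [uu, mul_one]
        _ = u * a * (a * u * a) := by rw [br]
        _ = u * (a * a) * u * a := by group
        _ = a := by rw [aa, mul_one, uu, one_mul]
    have hfb : Commute f b := by rw [hf]; exact (hub.mul_left hab).mul_left hub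
    have hfc : Commute f c := by rw [hf]; exact (huc.mul_left hac).mul_left huc
    have hqD : f * g * f⁻¹ ∈ D := tt_conj_mem hD hg f
    have hqa : Commute (f * g * f⁻¹) a := by
      rw [← hfuf]
      exact (Commute.conj_iff f).mpr hug.symm
    have hqb : Commute (f * g * f⁻¹) b := (hfb.mul_left hgb').mul_left hfb.inv_left
    have hqnb : f * g * f⁻¹ ≠ b := by
      intro h
      apply hgb
      have h1 : g = f⁻¹ * b * f := by rw [← h]; group
      rw [h1, mul_assoc, ← hfb.eq, inv_mul_cancel_left]
    have hqnc : f * g * f⁻¹ ≠ c := by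
      intro h
      rw [h] at hqb
      exact hbc hqb.symm
    have hqc : Commute (f * g * f⁻¹) c := (htw _ hqD hqa.symm hqnb hqnc).mp hqb
    have hcc : f * c * f⁻¹ = c := by rw [hfc.eq, mul_inv_cancel_right]
    have hqc' : Commute (f * g * f⁻¹) (f * c * f⁻¹) := by rw [hcc]; exact hqc
    exact (Commute.conj_iff f).mp hqc'

theorem twW (hD : IsThreeTranspositionClass D) {a b c u : G} (ht : Tw D a b c) (hu : u ∈ D)
    (hub : Commute u b) (huc : Commute u c) (hua : ¬ Commute u a) : Tw D u b c := by
  obtain ⟨ha, hb, hc, hab, hac, hbc, htw⟩ := ht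
  refine ⟨hu, hb, hc, hub, huc, hbc, ?_⟩
  intro g hg hug hgb hgc
  constructor
  · intro h
    exact twW_half hD ha hab hac hbc htw hu hub huc hua hg hug hgb hgc h
  · intro h
    exact twW_half hD ha hac hab (fun h' => hbc h'.symm)
      (fun f hf haf hfc hfb => (htw f hf haf hfb hfc).symm) hu huc hub hua hg hug hgc hgb h

end Cfsg.Agent.Lib.Helper90.F15
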