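import Cfsg.Agent.Lib.Helper90.Chain

set_option autoImplicit false

namespace Cfsg.Agent.Lib.Helper90

open Cfsg Cfsg.FusionSystem

variable {Ω : Type*} [Group Ω] {S : Subgroup Ω} {F : FusionSystem S} {P Q R T : Subgroup Ω}
  {f g c : Ω → Ω}

/-- If `Q` is normalized by `P` and not contained in `P`, some element of `Q` outside `P`
normalizes `P`. -/
theorem exists_normalizing_not_mem' [Finite S] {p : ℕ} [Fact p.Prime] (hS : IsPGroup p S)
    (hP : P ≤ S) (hQ : Q ≤ S) (hQn : ∀ x ∈ P, ∀ q ∈ Q, x * q * x⁻¹ ∈ Q) (hQP : ¬ Q ≤ P) :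
    ∃ q ∈ Q, q ∈ Subgroup.normalizer (P : Set Ω) ∧ q ∉ P := by
  have hlt : P < P ⊔ Q := lt_of_le_of_ne le_sup_left (fun h => hQP (h ▸ le_sup_right))
  have hPQS : P ⊔ Q ≤ S := sup_le hP hQ
  have : Finite (P ⊔ Q : Subgroup Ω) := finite_of_le hPQS
  have hPQp : IsPGroup p (P ⊔ Q : Subgroup Ω) := hS.to_le hPQS
  have hN := lt_normalizerIn hPQp hlt
  obtain ⟨-, a, ha, haP⟩ := SetLike.lt_iff_le_and_exists.mp hN
  obtain ⟨x, hx, q, hq, rfl⟩ := exists_mul_of_mem_sup hQn ha.1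
  have hqN : q ∈ Subgroup.normalizer (P : Set Ω) := by
    have h1 : x⁻¹ * (x * q) ∈ Subgroup.normalizer (P : Set Ω) :=
      Subgroup.mul_mem _ (Subgroup.inv_mem _ (Subgroup.le_normalizer hx)) ha.2
    simpa using h1
  exact ⟨q, hq, hqN, fun h => haP (P.mul_mem hx h)⟩

theorem stronglyClosed_bot (F : FusionSystem S) : F.StronglyClosed ⊥ := by
  refine ⟨bot_le, fun R hR φ _ x => ?_⟩
  have hx : (x : Ω) = 1 := Subgroup.mem_bot.mp (hR x.2)
  have hx1 : x = 1 := Subtype.ext hx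
  rw [hx1, map_one]
  exact Subgroup.one_mem _

/-- Conjugation by an element of a strongly closed `T` that normalizes `R` and centralizes `R ∩ T`
lies in `O_p(Aut_F(R))`. -/
theorem conj_mem_pCore_map_of_centralizes [Finite S] {p : ℕ} [Fact p.Prime] (hS : IsPGroup p S)
    (hT : F.StronglyClosed T) (hR : R ≤ S) {a : Ω} (haT : a ∈ T)
    (haC : ∀ x ∈ R, x ∈ T → a * x * a⁻¹ = x) (κ : MulAut R)
    (hκ : ∀ x : R, ((κ x : R) : Ω) = a * x * a⁻¹) :
    κ ∈ (pCore p (F.autGroup R)).map (F.autGroup R).subtype := by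
  have : Finite R := finite_of_le hR
  have hRp : IsPGroup p R := hS.to_le hR
  have haS : a ∈ S := hT.1 haT
  have hκF : κ ∈ F.autGroup R :=
    autInducedBy_le_autGroup F hR ((mem_autInducedBy_iff S R κ).mpr ⟨a, haS, hκ⟩)
  have hκinv : ∀ x : R, ((κ⁻¹ x : R) : Ω) = a⁻¹ * x * a⁻¹⁻¹ := by
    intro x
    have h1 := hκ (κ⁻¹ x)
    have h2 : κ (κ⁻¹ x) = x := by simp
    rw [h2] at h1
    rw [h1]
    group
  have haC' : ∀ x ∈ R, x ∈ T → a⁻¹ * x * a⁻¹⁻¹ = x := by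
    intro x hx hxT
    have h1 := haC x hx hxT
    calc a⁻¹ * x * a⁻¹⁻¹ = a⁻¹ * (a * x * a⁻¹) * a := by rw [h1, inv_inv]
      _ = x := by group
  refine le_pCore_map_of_coprime_trivial
    (F.autGroup R ⊓ stabRel S T R ⊓ stabRel T ⊥ R) (fun g hg => hg.1.1) ?_ ?_ ?_
  · rintro α hα g ⟨⟨hg1, hg2⟩, hg3⟩
    exact ⟨⟨Subgroup.mul_mem _ (Subgroup.mul_mem _ hα hg1) (Subgroup.inv_mem _ hα),
      stabRel_conj_mem (stronglyClosed_top F) hT hR hα hg2⟩,
      stabRel_conj_mem hT (stronglyClosed_bot F) hR hα hg3⟩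
  · rintro β ⟨⟨hβ1, hβ2⟩, hβ3⟩ hβm
    have hpow : ∀ x : R, (β ^ orderOf β) x = x := by
      intro x
      rw [pow_orderOf_eq_one]
      rfl
    have hfixT : ∀ x : R, (x : Ω) ∈ T → β x = x := by
      intro x hx
      obtain ⟨-, -, h3, -⟩ := hβ3 x hx
      have h4 : (x : Ω)⁻¹ * ((β x : R) : Ω) = 1 := Subgroup.mem_bot.mp h3
      exact Subtype.ext (inv_mul_eq_one.mp h4).symm
    ext x
    obtain ⟨-, -, h3, -⟩ := hβ2 x (hR x.2)
    obtain ⟨k, hk⟩ := hRp (x⁻¹ * β x)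
    have := aut_fix_of_fix_comm β hβm x (hfixT _ h3) (hpow x) hk
    rw [this]
    rfl
  · refine ⟨⟨hκF, ?_⟩, ?_⟩
    · intro x hx
      refine ⟨hR (κ x).2, hR (κ⁻¹ x).2, ?_, ?_⟩
      · rw [hκ]
        have h1 : (x : Ω)⁻¹ * a * (x : Ω)⁻¹⁻¹ ∈ T :=
          stronglyClosed_conj_mem hT (S.inv_mem hx) haT
        have e : (x : Ω)⁻¹ * (a * x * a⁻¹) = ((x : Ω)⁻¹ * a * (x : Ω)⁻¹⁻¹) * a⁻¹ := by group
        rw [e]
        exact T.mul_mem h1 (T.inv_mem haT)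
      · rw [hκinv]
        have h1 : (x : Ω)⁻¹ * a⁻¹ * (x : Ω)⁻¹⁻¹ ∈ T :=
          stronglyClosed_conj_mem hT (S.inv_mem hx) (T.inv_mem haT)
        have e : (x : Ω)⁻¹ * (a⁻¹ * x * a⁻¹⁻¹) = ((x : Ω)⁻¹ * a⁻¹ * (x : Ω)⁻¹⁻¹) * a := by group
        rw [e]
        exact T.mul_mem h1 haT
    · intro x hx
      have e1 : ((κ x : R) : Ω) = x := by rw [hκ]; exact haC x x.2 hx
      have e2 : ((κ⁻¹ x : R) : Ω) = x := by rw [hκinv]; exact haC' x x.2 hx
      rw [e1, e2]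
      refine ⟨hx, hx, ?_, ?_⟩ <;> simp

/-- If some conjugate of `P ∩ T` (for `T` strongly closed) does not contain its centralizer in
`T`, then some conjugate `P*` of `P` is normalized by an element of `T` outside `P*` that
centralizes `P* ∩ T`. -/
theorem exists_conj_centralizing [Finite S] {p : ℕ} [Fact p.Prime] (hS : IsPGroup p S)
    (hF : F.IsSaturated p) (hT : F.StronglyClosed T) (hP : P ≤ S)
    (hconj : F.IsConj (P ⊓ T) R) (hR : ¬ centralizerIn T R ≤ R) :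
    ∃ θ, Mor F P θ ∧ ∃ a ∈ T, (∀ x ∈ img P θ, x ∈ T → a * x * a⁻¹ = x) ∧
      a ∈ Subgroup.normalizer (img P θ : Set Ω) ∧ a ∉ img P θ := by
  have hTS : T ≤ S := hT.1
  have hP₀ : P ⊓ T ≤ S := inf_le_left.trans hP
  have : Finite (P ⊓ T : Subgroup Ω) := finite_of_le hP₀
  obtain ⟨Q', hconj', hfa, hrec⟩ := hF (P ⊓ T) hP₀
  obtain ⟨c₂, hc₂, himg₂⟩ := isConj_iff.mp hconj'
  obtain ⟨θ, hθ, hθimg⟩ := exists_normalizer_map hS hfa hrec hc₂ himg₂
  have hPN : P ≤ normalizerIn S (P ⊓ T) := by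
    intro x hx
    refine ⟨hP hx, mem_normalizer_of_finite ?_⟩
    intro y hy
    exact ⟨P.mul_mem (P.mul_mem hx hy.1) (P.inv_mem hx), stronglyClosed_conj_mem hT (hP hx) hy.2⟩
  have hθP : Mor F P θ := hθ.restrict hPN
  have hθP₀ : Mor F (P ⊓ T) θ := hθP.restrict inf_le_left
  -- `img P θ ⊓ T = Q'`
  have hQ'le : Q' ≤ img P θ ⊓ T := by
    intro y hy
    rw [← hθimg] at hy
    obtain ⟨x, hx, rfl⟩ := hθP₀.mem_img.mp hy
    exact ⟨hθP.mem_img_of_mem hx.1, stronglyClosed_mor_mem hT hθP₀ inf_le_right hx⟩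
  have hleQ' : img P θ ⊓ T ≤ Q' := by
    rintro y ⟨hy1, hy2⟩
    obtain ⟨x, hx, rfl⟩ := hθP.mem_img.mp hy1
    have h1 := stronglyClosed_mor_mem hT (hθP.inv.restrict (inf_le_left : img P θ ⊓ T ≤ img P θ))
      inf_le_right (x := θ x) ⟨hy1, hy2⟩
    rw [hθP.invFn_apply hx] at h1
    rw [← hθimg]
    exact hθP₀.mem_img_of_mem ⟨hx, h1⟩
  -- a map from `R` onto `Q'`
  obtain ⟨c₁, hc₁, himg₁⟩ := isConj_iff.mp hconj
  have hinv : Mor F R (invFn (P ⊓ T) c₁) := by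
    have := hc₁.inv
    rwa [himg₁] at this
  have hinvimg : img R (invFn (P ⊓ T) c₁) = P ⊓ T := by
    have := hc₁.img_inv
    rwa [himg₁] at this
  have hinvmem : ∀ y ∈ R, invFn (P ⊓ T) c₁ y ∈ P ⊓ T := by
    intro y hy
    have h := hinv.mem_img_of_mem hy
    rw [hinvimg] at h
    exact h
  have hχ : Mor F R (θ ∘ invFn (P ⊓ T) c₁) := hinv.comp hθP₀ hinvmem
  have hχimg : img R (θ ∘ invFn (P ⊓ T) c₁) = Q' := by
    rw [Mor.img_comp hinv hθP₀ hinvmem, hinvimg, hθimg]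
  obtain ⟨χ', hχ', hχ'R⟩ := receptive_extend' hrec hχ hχimg
  obtain ⟨z, hz, hzR⟩ := SetLike.not_le_iff_exists.mp hR
  have hzS : z ∈ centralizerIn S R := ⟨hTS hz.1, hz.2⟩
  have hzE : z ∈ extFn S R (θ ∘ invFn (P ⊓ T) c₁) := hχ.centralizerIn_le_extFn hzS
  have hRE : R ≤ extFn S R (θ ∘ invFn (P ⊓ T) c₁) := hχ.le_extFn
  have hcT : χ' z ∈ T :=
    stronglyClosed_mor_mem hT (hχ'.restrict (inf_le_left :
      extFn S R (θ ∘ invFn (P ⊓ T) c₁) ⊓ T ≤ extFn S R (θ ∘ invFn (P ⊓ T) c₁))) inf_le_right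
      ⟨hzE, hz.1⟩
  have hcC : ∀ y ∈ Q', χ' z * y = y * χ' z := by
    intro y hy
    rw [← hχimg] at hy
    obtain ⟨x, hx, rfl⟩ := hχ.mem_img.mp hy
    rw [← hχ'R x hx, ← hχ'.map_mul hzE (hRE hx), ← hχ'.map_mul (hRE hx) hzE]
    congr 1
    exact (Subgroup.mem_centralizer_iff.mp hz.2 x hx).symm
  have hcQ' : χ' z ∉ Q' := by
    intro h
    rw [← hχimg] at h
    obtain ⟨x, hx, hxz⟩ := hχ.mem_img.mp h
    rw [← hχ'R x hx] at hxz
    have := hχ'.inj (hRE hx) hzE hxz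
    exact hzR (this ▸ hx)
  -- the centralizer of `Q'` in `T` is normalized by `img P θ`
  have hP'S : img P θ ≤ S := hθP.img_le
  have hCS : centralizerIn T Q' ≤ S := inf_le_left.trans hTS
  have hCn : ∀ x ∈ img P θ, ∀ q ∈ centralizerIn T Q', x * q * x⁻¹ ∈ centralizerIn T Q' := by
    intro x hx q hq
    refine ⟨stronglyClosed_conj_mem hT (hP'S hx) hq.1, ?_⟩
    show x * q * x⁻¹ ∈ Subgroup.centralizer (Q' : Set Ω)
    rw [Subgroup.mem_centralizer_iff]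
    intro y hy
    have hy' : x⁻¹ * y * x⁻¹⁻¹ ∈ Q' := by
      apply hleQ'
      have hyP := (hQ'le hy)
      exact ⟨Subgroup.mul_mem _ (Subgroup.mul_mem _ (Subgroup.inv_mem _ hx) hyP.1)
        (Subgroup.inv_mem _ (Subgroup.inv_mem _ hx)),
        stronglyClosed_conj_mem hT (S.inv_mem (hP'S hx)) hyP.2⟩
    have h1 := Subgroup.mem_centralizer_iff.mp hq.2 _ hy'
    calc y * (x * q * x⁻¹) = x * ((x⁻¹ * y * x⁻¹⁻¹) * q) * x⁻¹ := by group
      _ = x * (q * (x⁻¹ * y * x⁻¹⁻¹)) * x⁻¹ := by rw [h1]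
      _ = x * q * x⁻¹ * y := by group
  have hCP : ¬ centralizerIn T Q' ≤ img P θ := by
    intro h
    have h1 : χ' z ∈ centralizerIn T Q' := by
      refine ⟨hcT, ?_⟩
      show χ' z ∈ Subgroup.centralizer (Q' : Set Ω)
      rw [Subgroup.mem_centralizer_iff]
      intro y hy
      exact (hcC y hy).symm
    exact hcQ' (hleQ' ⟨h h1, hcT⟩)
  obtain ⟨a, haC, haN, haP⟩ := exists_normalizing_not_mem' hS hP'S hCS hCn hCP
  refine ⟨θ, hθP, a, haC.1, ?_, haN, haP⟩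
  intro x hx hxT
  have h1 := Subgroup.mem_centralizer_iff.mp haC.2 x (hleQ' ⟨hx, hxT⟩)
  rw [← h1]
  group

/-- Radicality is invariant under conjugation in the system. -/
theorem isRadical_of_conj {p : ℕ} {Q' : Subgroup Ω} (hc : Mor F Q c) (himg : img Q c = Q')
    (h : F.IsRadical p Q) : F.IsRadical p Q' := by
  obtain ⟨e, he⟩ := hc.exists_equiv himg
  have hQ' : Q' ≤ S := himg ▸ hc.img_le
  refine ⟨hQ', ?_⟩
  have hInn : ∀ β : MulAut Q, β ∈ Inn Q ↔ MulAut.congr e β ∈ Inn Q' := by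
    intro β
    constructor
    · rintro ⟨a, rfl⟩
      refine ⟨e a, ?_⟩
      ext y
      show ((e a * y * (e a)⁻¹ : Q') : Ω) = ((e (a * e.symm y * a⁻¹) : Q') : Ω)
      rw [map_mul, map_mul, map_inv]
      simp
    · rintro ⟨b, hb⟩
      refine ⟨e.symm b, ?_⟩
      ext y
      have h1 : (MulAut.conj b) (e y) = (MulAut.congr e β) (e y) := by rw [hb]
      have h2 : b * e y * b⁻¹ = e (β (e.symm (e y))) := h1
      rw [MulEquiv.symm_apply_apply] at h2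
      show ((e.symm b * y * (e.symm b)⁻¹ : Q) : Ω) = ((β y : Q) : Ω)
      congr 1
      apply e.injective
      rw [← h2, map_mul, map_mul, map_inv]
      simp
  have hcore : ∀ β : MulAut Q, β ∈ (pCore p (F.autGroup Q)).map (F.autGroup Q).subtype ↔
      MulAut.congr e β ∈ (pCore p (F.autGroup Q')).map (F.autGroup Q').subtype := by
    intro β
    constructor
    · intro hβ
      exact mem_pCore_map_congr p (MulAut.congr e) (F.autGroup Q) (F.autGroup Q')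
        (fun a => autGroup_congr_iff hc himg e he a) hβ
    · intro hβ
      have h4 := mem_pCore_map_congr p (MulAut.congr e).symm (F.autGroup Q') (F.autGroup Q) (by
        intro a
        rw [autGroup_congr_iff hc himg e he ((MulAut.congr e).symm a),
          MulEquiv.apply_symm_apply]) hβ
      rwa [MulEquiv.symm_apply_apply] at h4
  ext β'
  obtain ⟨β, rfl⟩ := (MulAut.congr e).surjective β'
  rw [← hcore, ← hInn, h.2]

end Cfsg.Agent.Lib.Helper90
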