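import Mathlib

set_option autoImplicit false

namespace Cfsg.Agent.Lib.Helper90

section Nilp

/-- A nilpotent endomorphism of an abelian group of order dividing `p ^ 2` has square zero. -/
theorem nilp_sq_zero {V : Type*} [AddCommGroup V] [Finite V] (p : ℕ) [hp : Fact p.Prime]
    (hV : Nat.card V ∣ p ^ 2) (f : V →+ V) (n : ℕ) (hn : ∀ x, f^[n] x = 0) :
    ∀ x, f (f x) = 0 := by
  by_contra hcon
  push Not at hcon
  obtain ⟨x0, hx0⟩ := hcon
  have hinj : ∀ W : AddSubgroup V, (∀ w ∈ W, f w ∈ W) → (∀ w ∈ W, f w = 0 → w = 0) →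
      W = ⊥ := by
    intro W hW hker
    rw [eq_bot_iff]
    intro w hw
    have key : ∀ j, f^[j] w ∈ W ∧ (f^[j] w = 0 → w = 0) := by
      intro j
      induction j with
      | zero => exact ⟨hw, fun h => h⟩
      | succ j ih =>
        rw [Function.iterate_succ_apply']
        exact ⟨hW _ ih.1, fun h => ih.2 (hker _ ih.1 h)⟩
    exact AddSubgroup.mem_bot.mpr ((key n).2 (hn w))
  have hK : f.ker ≠ ⊥ := by
    intro hK
    have h1 : (⊤ : AddSubgroup V) = ⊥ :=
      hinj ⊤ (fun _ _ => AddSubgroup.mem_top _) (fun w _ hw => by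
        have h2 : w ∈ f.ker := AddMonoidHom.mem_ker.mpr hw
        rw [hK] at h2
        exact AddSubgroup.mem_bot.mp h2)
    have h3 : f (f x0) ∈ (⊤ : AddSubgroup V) := AddSubgroup.mem_top _
    rw [h1] at h3
    exact hx0 (AddSubgroup.mem_bot.mp h3)
  have hI : f.range ≠ ⊥ := by
    intro hI
    have h3 : f (f x0) ∈ f.range := ⟨_, rfl⟩
    rw [hI] at h3
    exact hx0 (AddSubgroup.mem_bot.mp h3)
  have hcard : Nat.card f.ker * Nat.card f.range = Nat.card V := by
    rw [← AddSubgroup.index_ker, AddSubgroup.card_mul_index]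
  have hIp : Nat.card f.range = p := by
    have h1 : Nat.card f.range ∣ p ^ 2 := (Dvd.intro_left _ hcard).trans hV
    obtain ⟨i, hi, hi'⟩ := (Nat.dvd_prime_pow hp.out).mp h1
    have hne1 : Nat.card f.range ≠ 1 := fun h => hI (AddSubgroup.card_eq_one.mp h)
    have hKne1 : Nat.card f.ker ≠ 1 := fun h => hK (AddSubgroup.card_eq_one.mp h)
    interval_cases i
    · exact absurd (by simpa using hi') hne1
    · simpa using hi'
    · exfalso
      have h2 : Nat.card f.ker * p ^ 2 ∣ 1 * p ^ 2 := by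
        have h4 : Nat.card f.ker * p ^ 2 = Nat.card V := by rw [← hcard, hi']
        rw [one_mul, h4]
        exact hV
      have h3 : Nat.card f.ker ∣ 1 := Nat.dvd_of_mul_dvd_mul_right (pow_pos hp.out.pos 2) h2
      exact hKne1 (Nat.dvd_one.mp h3)
  have hKI : f.ker ⊓ f.range ≠ ⊥ := by
    intro h
    apply hI
    apply hinj
    · rintro _ ⟨y, rfl⟩
      exact ⟨_, rfl⟩
    · intro w hw hfw
      have h2 : w ∈ f.ker ⊓ f.range := ⟨AddMonoidHom.mem_ker.mpr hfw, hw⟩
      rw [h] at h2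
      exact AddSubgroup.mem_bot.mp h2
  have hle : f.range ≤ f.ker := by
    have h1 : Nat.card ↥(f.ker ⊓ f.range) ∣ p := by
      rw [← hIp]
      exact AddSubgroup.card_dvd_of_le inf_le_right
    have h2 : Nat.card ↥(f.ker ⊓ f.range) = p := by
      rcases (Nat.dvd_prime hp.out).mp h1 with h | h
      · exact absurd (AddSubgroup.card_eq_one.mp h) hKI
      · exact h
    have h3 : f.ker ⊓ f.range = f.range :=
      AddSubgroup.eq_of_le_of_card_ge inf_le_right (by rw [h2, hIp])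
    rw [← h3]
    exact inf_le_left
  exact hx0 (AddMonoidHom.mem_ker.mp (hle ⟨_, rfl⟩))

/-- An endomorphism of a finite abelian group preserving a subgroup `P` of index dividing
`p ^ 2` and nilpotent modulo `P` has square zero modulo `P`. -/
theorem nilp_sq_mem {M : Type*} [AddCommGroup M] [Finite M] (p : ℕ) [hp : Fact p.Prime]
    (P : AddSubgroup M) (hP : P.index ∣ p ^ 2) (f : M →+ M) (hfP : ∀ x ∈ P, f x ∈ P)
    (n : ℕ) (hn : ∀ x, f^[n] x ∈ P) : ∀ x, f (f x) ∈ P := by
  have hle : P ≤ P.comap f := fun x hx => hfP x hx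
  obtain ⟨g, hg⟩ : ∃ g : M ⧸ P →+ M ⧸ P, g = QuotientAddGroup.map P P f hle := ⟨_, rfl⟩
  have hmk : ∀ x : M, g (QuotientAddGroup.mk x) = QuotientAddGroup.mk (f x) := by
    intro x
    rw [hg]
    exact QuotientAddGroup.map_mk P P f hle x
  have hiter : ∀ j (x : M), g^[j] (QuotientAddGroup.mk x) = QuotientAddGroup.mk (f^[j] x) := by
    intro j
    induction j with
    | zero => intro x; rfl
    | succ j ih =>
      intro x
      rw [Function.iterate_succ_apply', Function.iterate_succ_apply', ih, hmk]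
  have hgn : ∀ y, g^[n] y = 0 := by
    intro y
    induction y using QuotientAddGroup.induction_on with
    | H x =>
      rw [hiter]
      exact (QuotientAddGroup.eq_zero_iff _).mpr (hn x)
  have hcard : Nat.card (M ⧸ P) ∣ p ^ 2 := by rwa [← AddSubgroup.index_eq_card]
  intro x
  have h1 := nilp_sq_zero p hcard g n hgn (QuotientAddGroup.mk x)
  rw [hmk, hmk] at h1
  exact (QuotientAddGroup.eq_zero_iff _).mp h1

end Nilp

section Unip

open Finset in
/-- An endomorphism `τ` with `τ ^ p = 1`, `p ≥ 5`, of a finite abelian group `M` in which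
`pM` has index dividing `p ^ 2` and contains all elements of order `p` acts trivially on
`M / pM`. -/
theorem add_aut_trivial_mod_p {M : Type*} [AddCommGroup M] [Finite M] (p : ℕ)
    [hp : Fact p.Prime] (hp5 : 5 ≤ p)
    (hidx : (nsmulAddMonoidHom p : M →+ M).range.index ∣ p ^ 2)
    (htors : ∀ x : M, p • x = 0 → ∃ y, x = p • y)
    (τ : AddMonoid.End M) (hτ : τ ^ p = 1) : ∀ x, ∃ y, τ x = x + p • y := by
  obtain ⟨P, hPdef⟩ : ∃ P : AddSubgroup M, P = (nsmulAddMonoidHom p : M →+ M).range := ⟨_, rfl⟩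
  have hPmem : ∀ x, x ∈ P ↔ ∃ y, x = p • y := by
    intro x
    rw [hPdef]
    constructor
    · rintro ⟨y, rfl⟩
      exact ⟨y, rfl⟩
    · rintro ⟨y, rfl⟩
      exact ⟨y, rfl⟩
  rw [← hPdef] at hidx
  obtain ⟨D, hD⟩ : ∃ D : AddMonoid.End M, D = τ - 1 := ⟨_, rfl⟩
  have hτD : τ = D + 1 := by rw [hD, sub_add_cancel]
  have hDapply : ∀ x, D x = τ x - x := by
    intro x
    rw [hD]
    rfl
  have hodd : Odd p := hp.out.odd_of_ne_two (by omega)
  have hα : ∃ r : AddMonoid.End M, D ^ p = (p : AddMonoid.End M) * r := by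
    obtain ⟨r, hr⟩ := (Commute.neg_one_right τ).exists_add_pow_prime_eq hp.out
    refine ⟨τ * (-1) * r, ?_⟩
    rw [hD, sub_eq_add_neg, hr, hτ, hodd.neg_one_pow, add_neg_cancel, zero_add]
    simp only [mul_assoc]
  have hDP : ∀ x ∈ P, D x ∈ P := by
    intro x hx
    obtain ⟨y, rfl⟩ := (hPmem x).mp hx
    exact (hPmem _).mpr ⟨D y, map_nsmul D p y⟩
  have hDp : ∀ x, (⇑D)^[p] x ∈ P := by
    intro x
    obtain ⟨r, hr⟩ := hα
    rw [← AddMonoid.End.coe_pow, hr]
    exact (hPmem _).mpr ⟨r x, rfl⟩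
  have hD2 : ∀ x, D (D x) ∈ P := nilp_sq_mem p P hidx D hDP p hDp
  have hsq : ∀ x, (D ^ 2) x = D (D x) := by
    intro x
    rw [pow_two]
    rfl
  have hDk : ∀ k, 2 ≤ k → ∀ x, (D ^ k) x ∈ P := by
    intro k hk x
    have h1 : D ^ k = D ^ 2 * D ^ (k - 2) := by
      rw [← pow_add]
      congr 1
      omega
    rw [h1, AddMonoid.End.coe_mul, Function.comp_apply, hsq]
    exact hD2 _
  have hDpp : ∀ x, ∃ z, (D ^ p) x = p • (p • z) := by
    intro x
    have h1 : D ^ p = D ^ 2 * (D ^ 2 * D ^ (p - 4)) := by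
      rw [← pow_add, ← pow_add]
      congr 1
      omega
    obtain ⟨y, hy⟩ := (hPmem _).mp (hD2 ((D ^ (p - 4)) x))
    obtain ⟨z, hz⟩ := (hPmem _).mp (hD2 y)
    refine ⟨z, ?_⟩
    rw [h1, AddMonoid.End.coe_mul, Function.comp_apply, AddMonoid.End.coe_mul,
      Function.comp_apply, hsq, hsq, hy, map_nsmul, map_nsmul, hz]
  have hmain := (Commute.one_right D).add_pow_prime_eq' hp.out
  rw [← hτD, hτ] at hmain
  obtain ⟨X, hX⟩ : ∃ X : AddMonoid.End M,
      X = ∑ k ∈ Ioo 0 p, D ^ k * 1 ^ (p - k) * ((p.choose k / p : ℕ) : AddMonoid.End M) :=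
    ⟨_, rfl⟩
  rw [← hX, one_pow] at hmain
  have hzero : D ^ p + (p : AddMonoid.End M) * X = 0 := by
    calc D ^ p + (p : AddMonoid.End M) * X = (D ^ p + 1 + (p : AddMonoid.End M) * X) - 1 := by
          abel
      _ = 1 - 1 := by rw [← hmain]
      _ = 0 := sub_self 1
  intro x
  have hXx : X x = ∑ k ∈ Ioo 0 p, (p.choose k / p) • (D ^ k) x := by
    have hsum_apply : ∀ (s : Finset ℕ) (F : ℕ → AddMonoid.End M),
        (∑ k ∈ s, F k) x = ∑ k ∈ s, (F k) x := by
      intro s F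
      induction s using Finset.induction_on with
      | empty => rfl
      | insert a s ha ih =>
        rw [Finset.sum_insert ha, Finset.sum_insert ha, ← ih]
        rfl
    rw [hX, hsum_apply]
    refine Finset.sum_congr rfl (fun k _ => ?_)
    rw [one_pow, mul_one]
    show (D ^ k) ((p.choose k / p) • x) = _
    exact map_nsmul _ _ _
  have hx0 : (D ^ p) x + p • X x = 0 := by
    have h1 := congrArg (fun φ : AddMonoid.End M => φ x) hzero
    exact h1
  obtain ⟨z, hz⟩ := hDpp x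
  rw [hz, ← nsmul_add] at hx0
  obtain ⟨y, hy⟩ := htors _ hx0
  have hXP : X x ∈ P := by
    have h1 : X x = p • (y - z) := by
      rw [nsmul_sub, ← hy]
      abel
    exact (hPmem _).mpr ⟨_, h1⟩
  have h1mem : 1 ∈ Ioo 0 p := Finset.mem_Ioo.mpr ⟨Nat.one_pos, by omega⟩
  have hsplit := Finset.add_sum_erase (Ioo 0 p) (fun k => (p.choose k / p) • (D ^ k) x) h1mem
  have hc1 : p.choose 1 / p = 1 := by
    rw [Nat.choose_one_right]
    exact Nat.div_self hp.out.pos
  have hrest : ∑ k ∈ (Ioo 0 p).erase 1, (p.choose k / p) • (D ^ k) x ∈ P := by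
    refine AddSubgroup.sum_mem _ (fun k hk => ?_)
    have hk1 := Finset.mem_erase.mp hk
    have hk2 := Finset.mem_Ioo.mp hk1.2
    exact P.nsmul_mem (hDk k (by omega) x) _
  have hDx : D x ∈ P := by
    have h2 : D x = X x - ∑ k ∈ (Ioo 0 p).erase 1, (p.choose k / p) • (D ^ k) x := by
      rw [hXx, ← hsplit]
      simp only [hc1, one_nsmul, pow_one]
      abel
    rw [h2]
    exact P.sub_mem hXP hrest
  obtain ⟨w, hw⟩ := (hPmem _).mp hDx
  refine ⟨w, ?_⟩
  rw [← hw, hDapply]
  abel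

end Unip

end Cfsg.Agent.Lib.Helper90
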