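import Cfsg.Agent.Lib.Helper90.SupSolF
import Cfsg.Agent.Lib.Helper90.AbEssA
import Cfsg.Agent.Lib.Helper55.Frat

set_option autoImplicit false

namespace Cfsg.Agent.Lib.Helper90

open Cfsg

section Transfer

variable {G : Type*} [CommGroup G]

/-- An automorphism `t` with `t ^ p = 1`, `p ≥ 5`, of a finite abelian `p`-group generated by two
elements modulo `p`-th powers in which every element of order `p` is a `p`-th power acts trivially
modulo `p`-th powers. -/
theorem mulAut_trivial_mod_p [Finite G] (p : ℕ) [hp : Fact p.Prime] (hp5 : 5 ≤ p)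
    (hG : IsPGroup p G)
    (hgen : ∃ u v : G, ∀ x : G, ∃ (a b : ℕ) (y : G), x = u ^ a * v ^ b * y ^ p)
    (htors : ∀ x : G, x ^ p = 1 → ∃ y, x = y ^ p)
    (t : MulAut G) (ht : t ^ p = 1) : ∀ x : G, ∃ y, t x = x * y ^ p := by
  obtain ⟨N, hN⟩ := IsPGroup.iff_card.mp hG
  obtain ⟨P, hPdef⟩ : ∃ P : AddSubgroup (Additive G),
      P = (nsmulAddMonoidHom p : Additive G →+ Additive G).range := ⟨_, rfl⟩
  have hPmem : ∀ x : Additive G, x ∈ P ↔ ∃ y, x = p • y := by
    intro x
    rw [hPdef]
    constructor
    · rintro ⟨y, rfl⟩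
      exact ⟨y, rfl⟩
    · rintro ⟨y, rfl⟩
      exact ⟨y, rfl⟩
  have hidx : P.index ∣ p ^ 2 := by
    have h1 : P.index ∣ p ^ N := by
      rw [← hN]
      exact AddSubgroup.index_dvd_card P
    obtain ⟨j, -, hj⟩ := (Nat.dvd_prime_pow hp.out).mp h1
    have h2 : P.index ≤ p ^ 2 := by
      obtain ⟨u, v, huv⟩ := hgen
      rw [AddSubgroup.index_eq_card]
      let g : Fin p × Fin p → Additive G ⧸ P := fun ab =>
        QuotientAddGroup.mk ((ab.1 : ℕ) • Additive.ofMul u + (ab.2 : ℕ) • Additive.ofMul v)
      have hg : Function.Surjective g := by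
        intro y
        induction y using QuotientAddGroup.induction_on with
        | H x =>
          obtain ⟨a, b, y, hy⟩ := huv (Additive.toMul x)
          have hp0 : 0 < p := hp.out.pos
          have hx : x = a • Additive.ofMul u + b • Additive.ofMul v + p • Additive.ofMul y :=
            congrArg Additive.ofMul hy
          obtain ⟨a1, a0, ha0, rfl⟩ : ∃ a1 a0, a0 < p ∧ a = p * a1 + a0 :=
            ⟨a / p, a % p, Nat.mod_lt _ hp0, (Nat.div_add_mod a p).symm⟩
          obtain ⟨b1, b0, hb0, rfl⟩ : ∃ b1 b0, b0 < p ∧ b = p * b1 + b0 :=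
            ⟨b / p, b % p, Nat.mod_lt _ hp0, (Nat.div_add_mod b p).symm⟩
          refine ⟨(⟨a0, ha0⟩, ⟨b0, hb0⟩), ?_⟩
          show QuotientAddGroup.mk (a0 • Additive.ofMul u + b0 • Additive.ofMul v) =
            QuotientAddGroup.mk x
          rw [QuotientAddGroup.eq, hPmem]
          refine ⟨a1 • Additive.ofMul u + b1 • Additive.ofMul v + Additive.ofMul y, ?_⟩
          rw [hx]
          simp only [add_nsmul, mul_nsmul', nsmul_add]
          abel
      refine (Nat.card_le_card_of_surjective g hg).trans ?_
      rw [Nat.card_prod, Nat.card_fin, pow_two]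
    rw [hj] at h2 ⊢
    exact pow_dvd_pow p ((Nat.pow_le_pow_iff_right hp.out.one_lt).mp h2)
  have htors' : ∀ x : Additive G, p • x = 0 → ∃ y, x = p • y := by
    intro x hx
    obtain ⟨y, hy⟩ := htors (Additive.toMul x) hx
    exact ⟨Additive.ofMul y, hy⟩
  obtain ⟨τ, hτdef⟩ : ∃ τ : AddMonoid.End (Additive G),
      τ = MonoidHom.toAdditive (t : G →* G) := ⟨_, rfl⟩
  have hτapply : ∀ x : Additive G, τ x = Additive.ofMul (t (Additive.toMul x)) := by
    intro x
    rw [hτdef]
    rfl
  have hτpow : ∀ n (x : Additive G),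
      (τ ^ n) x = Additive.ofMul ((t ^ n) (Additive.toMul x)) := by
    intro n
    induction n with
    | zero => intro x; rfl
    | succ n ih =>
      intro x
      rw [pow_succ, AddMonoid.End.coe_mul, Function.comp_apply, ih, hτapply, pow_succ]
      rfl
  have hτp : τ ^ p = 1 := by
    apply AddMonoidHom.ext
    intro x
    exact (hτpow p x).trans (by rw [ht]; rfl)
  have hfinal := add_aut_trivial_mod_p p hp5 (by rw [← hPdef]; exact hidx) htors' τ hτp
  intro x
  obtain ⟨y, hy⟩ := hfinal (Additive.ofMul x)
  rw [hτapply] at hy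
  exact ⟨Additive.toMul y, hy⟩

/-- A finite abelian `p`-group generated by two elements either has all layer steps generated by
one element or is homocyclic of rank two. -/
theorem rank_two_structure [Finite G] (p : ℕ) [hp : Fact p.Prime] (hG : IsPGroup p G)
    (hrk : (frattini G).index ≤ p ^ 2) :
    (∀ a b : ℕ, CycStep (layer p a b : Subgroup G) (layer p (a + 1) b)) ∨
      ∃ k : ℕ, 0 < k ∧ Nonempty (G ≃* Multiplicative (ZMod (p ^ k) × ZMod (p ^ k))) := by
  classical
  have : NeZero p := ⟨hp.out.ne_zero⟩
  obtain ⟨ι, hι, n, hn1, ⟨ε⟩⟩ := CommGroup.equiv_prod_multiplicative_zmod_of_finite G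
  obtain ⟨N, hN⟩ := IsPGroup.iff_card.mp hG
  have hcard : ∏ i, n i = p ^ N := by
    rw [← hN, Nat.card_congr ε.toEquiv, Nat.card_pi]
    refine Finset.prod_congr rfl (fun i _ => ?_)
    rw [Nat.card_congr Multiplicative.toAdd, Nat.card_zmod]
  have hpow : ∀ i, ∃ k, n i = p ^ k := by
    intro i
    have h1 : n i ∣ p ^ N := by
      rw [← hcard]
      exact Finset.dvd_prod_of_mem n (Finset.mem_univ i)
    obtain ⟨k, -, hk⟩ := (Nat.dvd_prime_pow hp.out).mp h1
    exact ⟨k, hk⟩
  choose e he using hpow
  obtain rfl : n = fun i => p ^ e i := funext he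
  have he0 : ∀ i, 0 < e i := by
    intro i
    by_contra h
    have h0 : e i = 0 := by omega
    have h1 := hn1 i
    simp only [h0, pow_zero, lt_irrefl] at h1
  by_cases hinj : Function.Injective e
  · left
    exact fun a b => cycStep_layer_of_equiv
      (ε.trans (MulEquiv.piMultiplicative (fun i => ZMod (p ^ e i))).symm)
      (cycStep_layer_pi p e hinj a b)
  · right
    rw [Function.Injective] at hinj
    push Not at hinj
    obtain ⟨i, j, hij, hne⟩ := hinj
    have hdvd : ∀ i, p ∣ p ^ e i := fun i => dvd_pow_self p (he0 i).ne'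
    let φ : G →* Multiplicative (ι → ZMod p) := MonoidHom.mk'
      (fun x => Multiplicative.ofAdd
        (fun i => ZMod.castHom (hdvd i) (ZMod p) (Multiplicative.toAdd (ε x i))))
      (by
        intro x y
        rw [← ofAdd_add]
        congr 1
        funext i
        rw [map_mul]
        exact map_add (ZMod.castHom (hdvd i) (ZMod p)) _ _)
    have hφapply : ∀ x, φ x = Multiplicative.ofAdd
        (fun i => ZMod.castHom (hdvd i) (ZMod p) (Multiplicative.toAdd (ε x i))) := fun x => rfl
    have hφp : ∀ x, φ x ^ p = 1 := by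
      intro x
      rw [← ofAdd_toAdd (φ x), ← ofAdd_nsmul]
      have h0 : p • Multiplicative.toAdd (φ x) = 0 := by
        funext i
        simp [nsmul_eq_mul]
      rw [h0]
      rfl
    have hφsurj : Function.Surjective φ := by
      intro y
      refine ⟨ε.symm (fun i => Multiplicative.ofAdd
        (((Multiplicative.toAdd y i).val : ℕ) : ZMod (p ^ e i))), ?_⟩
      rw [hφapply, MulEquiv.apply_symm_apply]
      rw [← ofAdd_toAdd y]
      congr 1
      funext i
      show ZMod.castHom (hdvd i) (ZMod p) (((Multiplicative.toAdd y i).val : ℕ) : ZMod (p ^ e i))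
        = _
      rw [map_natCast]
      exact ZMod.natCast_zmod_val _
    have h1 : frattini G ≤ φ.ker := Cfsg.Agent.Lib.Helper55.frattini_le_ker φ hφp
    have h2 : φ.ker.index = p ^ Fintype.card ι := by
      rw [Subgroup.index_ker, MonoidHom.range_eq_top.mpr hφsurj, Subgroup.card_top,
        Nat.card_congr Multiplicative.toAdd, Nat.card_pi]
      simp
    have h3 : p ^ Fintype.card ι ≤ p ^ 2 := by
      rw [← h2]
      exact (Nat.le_of_dvd (Nat.pos_of_ne_zero Subgroup.index_ne_zero_of_finite)
        (Subgroup.index_dvd_of_le h1)).trans hrk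
    have h4 : Fintype.card ι ≤ 2 := (Nat.pow_le_pow_iff_right hp.out.one_lt).mp h3
    have h5 : ∀ k : ι, k = i ∨ k = j := by
      intro k
      by_contra hk
      push Not at hk
      have h6 : 2 < Fintype.card ι :=
        Fintype.two_lt_card_iff.mpr ⟨i, j, k, hne, fun h => hk.1 h.symm, fun h => hk.2 h.symm⟩
      omega
    have : IsEmpty {k : ι // k ≠ i ∧ k ≠ j} :=
      ⟨fun k => by
        rcases h5 k.1 with h | h
        · exact k.2.1 h
        · exact k.2.2 h⟩
    have key : ∀ m : ℕ, e j = m →
        Nonempty (G ≃* Multiplicative (ZMod (p ^ e i) × ZMod (p ^ m))) := by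
      intro m hm
      subst hm
      exact ⟨(ε.trans (piSplitTwo (fun k => Multiplicative (ZMod (p ^ e k))) i j hne)).trans
        (MulEquiv.prodUnique.trans (MulEquiv.prodMultiplicative _ _).symm)⟩
    obtain ⟨ψ⟩ := key (e i) hij.symm
    exact ⟨e i, he0 i, ⟨ψ⟩⟩

/-- A group `A` of automorphisms of a finite abelian `p`-group `G` generated by two elements,
with `p` dividing the order of `A` and `O_p(A) = 1`: then `G` is elementary abelian of order
`p ^ 2`, or `p ≤ 3` and `G` is homocyclic of rank two. -/
theorem abelian_rank_two_aut [Finite G] (p : ℕ) [hp : Fact p.Prime] (hG : IsPGroup p G)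
    (hrk : (frattini G).index ≤ p ^ 2) (A : Subgroup (MulAut G)) (hpA : p ∣ Nat.card A)
    (hcore : Cfsg.pCore p A = ⊥) :
    ((∀ x : G, x ^ p = 1) ∧ Nat.card G = p ^ 2) ∨
      (p ≤ 3 ∧ ∃ k : ℕ, Nonempty (G ≃* Multiplicative (ZMod (p ^ k) × ZMod (p ^ k)))) := by
  rcases rank_two_structure p hG hrk with hcyc | ⟨k, hk0, ⟨ε⟩⟩
  · exfalso
    obtain ⟨m, T, h0, hm, hinv, hstep⟩ := chainTo_bot_top_of_layers p hG hcyc
    obtain ⟨R⟩ : Nonempty (Sylow p A) := inferInstance
    have hRn : (R : Subgroup A).Normal := chain_sylow_normal p hG A T m h0 hm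
      (monotone_nat_of_le_succ (fun i => (hstep i).1)) (fun i => inferInstance)
      (fun β _ i x hx => hinv i β x hx) (fun i => (hstep i).2) R
    have h1 : (R : Subgroup A) ≤ Cfsg.pCore p A :=
      Cfsg.Agent.Lib.Helper14.le_pCore hRn R.isPGroup'
    rw [hcore, le_bot_iff] at h1
    exact R.ne_bot_of_dvd_card hpA h1
  · have hNZ : NeZero (p ^ k) := ⟨pow_ne_zero _ hp.out.ne_zero⟩
    by_cases hk1 : k = 1
    · left
      subst hk1
      have hp0 : ∀ c : ZMod (p ^ 1), p • c = 0 := by
        intro c
        rw [nsmul_eq_mul, (ZMod.natCast_eq_zero_iff p (p ^ 1)).mpr (by rw [pow_one]), zero_mul]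
      constructor
      · intro x
        apply ε.injective
        rw [map_pow, map_one, ← ofAdd_toAdd (ε x), ← ofAdd_nsmul]
        have h0 : p • Multiplicative.toAdd (ε x) = 0 := Prod.ext (hp0 _) (hp0 _)
        rw [h0]
        rfl
      · rw [Nat.card_congr ε.toEquiv, Nat.card_congr Multiplicative.toAdd, Nat.card_prod,
          Nat.card_zmod, pow_one, pow_two]
    · by_cases hp3 : p ≤ 3
      · right
        exact ⟨hp3, k, ⟨ε⟩⟩
      · exfalso
        have hp5 : 5 ≤ p := by
          rcases Nat.lt_or_ge p 5 with h | h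
          · have h4 : p = 4 := by omega
            have h5 := hp.out
            rw [h4] at h5
            exact absurd h5 (by decide)
          · exact h
        have hk2 : 2 ≤ k := by omega
        have hz : ∀ c : ZMod (p ^ k), p • c = 0 → ∃ d : ZMod (p ^ k), c = p • d := by
          intro c hc
          have h1 : ((p * c.val : ℕ) : ZMod (p ^ k)) = 0 := by
            rw [Nat.cast_mul, ZMod.natCast_zmod_val, ← nsmul_eq_mul]
            exact hc
          rw [ZMod.natCast_eq_zero_iff] at h1
          have h2 : p ^ 2 ∣ p * c.val := (pow_dvd_pow p hk2).trans h1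
          have h3 : p ∣ c.val := by
            rw [pow_two] at h2
            exact Nat.dvd_of_mul_dvd_mul_left hp.out.pos h2
          obtain ⟨m, hm⟩ := h3
          refine ⟨(m : ZMod (p ^ k)), ?_⟩
          rw [nsmul_eq_mul, ← Nat.cast_mul, ← hm, ZMod.natCast_zmod_val]
        have htors : ∀ x : G, x ^ p = 1 → ∃ y, x = y ^ p := by
          intro x hx
          have h1 : p • Multiplicative.toAdd (ε x) = 0 := by
            have h2 : ε x ^ p = 1 := by rw [← map_pow, hx, map_one]
            exact congrArg Multiplicative.toAdd h2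
          obtain ⟨d1, hd1⟩ := hz _ (congrArg Prod.fst h1)
          obtain ⟨d2, hd2⟩ := hz _ (congrArg Prod.snd h1)
          refine ⟨ε.symm (Multiplicative.ofAdd (d1, d2)), ?_⟩
          apply ε.injective
          rw [map_pow, MulEquiv.apply_symm_apply, ← ofAdd_nsmul, ← ofAdd_toAdd (ε x)]
          congr 1
          exact Prod.ext hd1 hd2
        have hgen : ∃ u v : G, ∀ x : G, ∃ (a b : ℕ) (y : G), x = u ^ a * v ^ b * y ^ p := by
          refine ⟨ε.symm (Multiplicative.ofAdd ((1 : ZMod (p ^ k)), (0 : ZMod (p ^ k)))),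
            ε.symm (Multiplicative.ofAdd ((0 : ZMod (p ^ k)), (1 : ZMod (p ^ k)))), fun x => ?_⟩
          refine ⟨(Multiplicative.toAdd (ε x)).1.val, (Multiplicative.toAdd (ε x)).2.val, 1, ?_⟩
          apply ε.injective
          rw [map_mul, map_mul, map_pow, map_pow, map_pow, map_one, one_pow, mul_one,
            MulEquiv.apply_symm_apply, MulEquiv.apply_symm_apply, ← ofAdd_nsmul, ← ofAdd_nsmul,
            ← ofAdd_add, ← ofAdd_toAdd (ε x)]
          congr 1
          refine Prod.ext ?_ ?_
          · simp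
          · simp
        obtain ⟨t, ht⟩ := exists_prime_orderOf_dvd_card' p hpA
        have htp : (t : MulAut G) ^ p = 1 := by
          have h1 : t ^ p = 1 := by rw [← ht]; exact pow_orderOf_eq_one t
          exact congrArg Subtype.val h1
        have hmod := mulAut_trivial_mod_p p hp5 hG hgen htors (t : MulAut G) htp
        have hq0 : ∀ c : ZMod (p ^ k), (p ^ k) • c = 0 := by
          intro c
          rw [nsmul_eq_mul, ZMod.natCast_self, zero_mul]
        have hexp : ∀ x : G, x ^ (p ^ k) = 1 := by
          intro x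
          apply ε.injective
          rw [map_pow, map_one, ← ofAdd_toAdd (ε x), ← ofAdd_nsmul]
          have h0 : (p ^ k) • Multiplicative.toAdd (ε x) = 0 := Prod.ext (hq0 _) (hq0 _)
          rw [h0]
          rfl
        obtain ⟨T, hTdef⟩ : ∃ T : ℕ → Subgroup G,
            T = fun i => (powMonoidHom (p ^ (k - i)) : G →* G).range := ⟨_, rfl⟩
        have hTmem : ∀ i (x : G), x ∈ T i ↔ ∃ y, y ^ (p ^ (k - i)) = x := by
          intro i x
          rw [hTdef]
          rfl
        have hT0 : T 0 = ⊥ := by
          rw [eq_bot_iff]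
          intro x hx
          obtain ⟨y, rfl⟩ := (hTmem 0 x).mp hx
          rw [Subgroup.mem_bot]
          exact hexp y
        have hTtop : ∀ i, k ≤ i → T i = ⊤ := by
          intro i hi
          rw [eq_top_iff]
          intro x _
          exact (hTmem i x).mpr ⟨x, by rw [Nat.sub_eq_zero_of_le hi, pow_zero, pow_one]⟩
        have hmono : Monotone T := by
          apply monotone_nat_of_le_succ
          intro i x hx
          obtain ⟨y, rfl⟩ := (hTmem i _).mp hx
          by_cases hi : i < k
          · refine (hTmem (i + 1) _).mpr ⟨y ^ p, ?_⟩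
            rw [← pow_mul, ← pow_succ']
            congr 2
            omega
          · rw [hTtop (i + 1) (by omega)]
            exact Subgroup.mem_top _
        have hinv : ∀ β ∈ A, ∀ i, ∀ x ∈ T i, β x ∈ T i := by
          intro β _ i x hx
          obtain ⟨y, rfl⟩ := (hTmem i _).mp hx
          exact (hTmem i _).mpr ⟨β y, (map_pow β y _).symm⟩
        have hstab : ∀ i, ∀ x ∈ T (i + 1), x⁻¹ * (t : MulAut G) x ∈ T i := by
          intro i x hx
          obtain ⟨y, rfl⟩ := (hTmem (i + 1) _).mp hx
          obtain ⟨z, hz⟩ := hmod y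
          by_cases hi : i < k
          · refine (hTmem i _).mpr ⟨z, ?_⟩
            rw [map_pow, hz, mul_pow, inv_mul_cancel_left, ← pow_mul, ← pow_succ']
            congr 2
            omega
          · rw [hTtop i (by omega)]
            exact Subgroup.mem_top _
        have hmem := Cfsg.Agent.Lib.Helper87.chain_stab_mem_pCore p hG A T k hT0
          (hTtop k le_rfl) hmono hinv (t : MulAut G) t.2 hstab
        rw [hcore, Subgroup.mem_bot] at hmem
        have ht1 : t = 1 := hmem
        rw [ht1, orderOf_one] at ht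
        exact hp.out.one_lt.ne ht

end Transfer

end Cfsg.Agent.Lib.Helper90
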