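import Cfsg.Agent.Lib.Helper90.Trace

set_option autoImplicit false

namespace Cfsg.Agent.Lib.Helper90

open Cfsg Cfsg.FusionSystem

variable {Ω : Type*} [Group Ω] {S : Subgroup Ω} {F : FusionSystem S} {P Q T : Subgroup Ω}
  {f g : Ω → Ω}

theorem autFun_mul_apply (γ₁ γ₂ : MulAut T) {x : Ω} (hx : x ∈ T) :
    autFun T (γ₂ * γ₁) x = autFun T γ₂ (autFun T γ₁ x) := by
  rw [autFun_apply' _ hx, autFun_apply' γ₁ hx, autFun_apply]
  rfl

theorem autFun_pow_apply (γ : MulAut P) (α : MulAut Q) (hQP : Q ≤ P)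
    (h : ∀ x ∈ Q, autFun Q α x = autFun P γ x) (j : ℕ) :
    ∀ x ∈ Q, autFun Q (α ^ j) x = autFun P (γ ^ j) x := by
  induction j with
  | zero =>
    intro x hx
    rw [pow_zero, pow_zero, autFun_apply' _ hx, autFun_apply' _ (hQP hx)]
    rfl
  | succ j ih =>
    intro x hx
    rw [pow_succ', pow_succ', autFun_mul_apply _ _ hx, autFun_mul_apply _ _ (hQP hx), ih x hx,
      h _ (by rw [← ih x hx]; exact autFun_mem _ hx)]

/-- The subsystem of `F` over `T` whose maps are the restrictions of the elements of a subgroup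
`Γ` of `Aut_F(T)` containing `Inn(T)`. -/
noncomputable def autSys (F : FusionSystem S) (T : Subgroup Ω) (hT : T ≤ S) (Γ : Subgroup (MulAut T))
    (hΓ : Γ ≤ F.autGroup T) (hInn : Inn T ≤ Γ) : FusionSystem T :=
  mkSys F T (fun P f => P ≤ T ∧ ∃ γ ∈ Γ, ∀ x ∈ P, f x = autFun T γ x)
    (by
      rintro P f g ⟨hP, γ, hγ, hfγ⟩ hfg
      exact ⟨hP, γ, hγ, fun x hx => by rw [← hfg x hx, hfγ x hx]⟩)
    (by
      rintro P f ⟨hP, γ, hγ, hfγ⟩
      exact (((mem_autGroup_iff F hT γ).mp (hΓ hγ)).restrict hP).congr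
        (fun x hx => (hfγ x hx).symm))
    (by
      rintro P f ⟨hP, γ, hγ, hfγ⟩
      exact ⟨hP, fun x hx => by rw [hfγ x hx]; exact autFun_mem γ (hP hx)⟩)
    (by
      intro P a hP ha
      refine ⟨hP, MulAut.conj (⟨a, ha⟩ : T), hInn ((mem_Inn_iff _).mpr ⟨a, ha, fun x => rfl⟩),
        fun x hx => ?_⟩
      rw [autFun_apply' _ (hP hx)]
      rfl)
    (by
      rintro P Q f g ⟨hP, γ₁, hγ₁, hfγ⟩ ⟨hQ, γ₂, hγ₂, hgγ⟩ hfg
      refine ⟨hP, γ₂ * γ₁, Subgroup.mul_mem _ hγ₂ hγ₁, fun x hx => ?_⟩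
      show g (f x) = _
      rw [hgγ _ (hfg x hx), hfγ x hx, autFun_mul_apply _ _ (hP hx)])
    (by
      rintro P f ⟨hP, γ, hγ, hfγ⟩
      have hm : Mor F P f := (((mem_autGroup_iff F hT γ).mp (hΓ hγ)).restrict hP).congr
        (fun x hx => (hfγ x hx).symm)
      have hle : img P f ≤ T := by
        intro y hy
        obtain ⟨x, hx, rfl⟩ := hm.mem_img.mp hy
        rw [hfγ x hx]
        exact autFun_mem γ (hP hx)
      refine ⟨hle, γ⁻¹, Subgroup.inv_mem _ hγ, fun y hy => ?_⟩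
      obtain ⟨x, hx, rfl⟩ := hm.mem_img.mp hy
      rw [hm.invFn_apply hx, hfγ x hx, autFun_inv_apply' γ (hP hx)])

theorem mor_autSys_iff (hT : T ≤ S) (Γ : Subgroup (MulAut T)) (hΓ : Γ ≤ F.autGroup T)
    (hInn : Inn T ≤ Γ) :
    Mor (autSys F T hT Γ hΓ hInn) P f ↔ P ≤ T ∧ ∃ γ ∈ Γ, ∀ x ∈ P, f x = autFun T γ x :=
  mor_mkSys_iff _ _ _ _ _ _ _ _ _

theorem autSys_isSubsystemOf (hT : T ≤ S) (Γ : Subgroup (MulAut T)) (hΓ : Γ ≤ F.autGroup T)
    (hInn : Inn T ≤ Γ) : (autSys F T hT Γ hΓ hInn).IsSubsystemOf F := by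
  intro P φ hφ
  obtain ⟨hP, γ, hγ, hfγ⟩ := (mor_autSys_iff hT Γ hΓ hInn).mp (mor_of_hom hφ)
  have hm : Mor F P (extFun P φ) := (((mem_autGroup_iff F hT γ).mp (hΓ hγ)).restrict hP).congr
    (fun x hx => (hfγ x hx).symm)
  exact hm.hom φ (fun x => (extFun_apply P φ x).symm)

theorem autGroup_autSys (hT : T ≤ S) (Γ : Subgroup (MulAut T)) (hΓ : Γ ≤ F.autGroup T)
    (hInn : Inn T ≤ Γ) : (autSys F T hT Γ hΓ hInn).autGroup T = Γ := by
  ext α
  rw [mem_autGroup_iff _ le_rfl, mor_autSys_iff]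
  constructor
  · rintro ⟨-, γ, hγ, h⟩
    have : α = γ := by
      ext x
      have := h x x.2
      rwa [autFun_apply, autFun_apply] at this
    rw [this]
    exact hγ
  · intro hα
    exact ⟨le_rfl, α, hα, fun _ _ => rfl⟩

/-- The system of a subgroup `Γ` of `Aut_F(T)` containing `Inn(T)` with index prime to `p`
(in the sense that some power prime to `p` carries `Γ` into `Inn(T)`) is saturated. -/
theorem autSys_isSaturated [Finite S] {p : ℕ} [Fact p.Prime] (hS : IsPGroup p S) (hT : T ≤ S)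
    (Γ : Subgroup (MulAut T)) (hΓ : Γ ≤ F.autGroup T) (hInn : Inn T ≤ Γ) {m : ℕ}
    (hm : Nat.Coprime m p) (hΓm : ∀ γ ∈ Γ, γ ^ m ∈ Inn T) :
    (autSys F T hT Γ hΓ hInn).IsSaturated p := by
  have hTp : IsPGroup p T := hS.to_le hT
  have : Finite T := finite_of_le hT
  intro P hP
  have : Finite P := Finite.of_injective (Subgroup.inclusion hP) (Subgroup.inclusion_injective hP)
  refine ⟨P, isConj_refl _ hP, ⟨hP, ?_⟩, ⟨hP, ?_⟩⟩
  · -- fully automized
    have hKp : IsPGroup p ((autInducedBy T P).subgroupOf ((autSys F T hT Γ hΓ hInn).autGroup P)) :=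
      (isPGroup_autInducedBy hTp P).comap_of_injective _ (Subgroup.subtype_injective _)
    obtain ⟨R, hR⟩ := hKp.exists_le_sylow
    refine ⟨R, le_antisymm ?_ hR⟩
    intro α hα
    obtain ⟨k, hk⟩ := R.2 ⟨α, hα⟩
    have hk' : (α : MulAut P) ^ p ^ k = 1 := by
      have := congrArg (fun z : R => ((z : (autSys F T hT Γ hΓ hInn).autGroup P) : MulAut P)) hk
      exact this
    obtain ⟨-, γ, hγ, hαγ⟩ := (mor_autSys_iff hT Γ hΓ hInn).mp
      ((mem_autGroup_iff _ hP (α : MulAut P)).mp α.2)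
    have hpow := autFun_pow_apply γ (α : MulAut P) hP hαγ m
    obtain ⟨t, ht, hγt⟩ := (mem_Inn_iff _).mp (hΓm γ hγ)
    have h1 : (α : MulAut P) ^ m ∈ autInducedBy T P := by
      rw [mem_autInducedBy_iff]
      refine ⟨t, ht, fun x => ?_⟩
      rw [← autFun_apply, hpow x x.2, autFun_apply' _ (hP x.2), hγt]
    have hcop : Nat.Coprime m (orderOf (α : MulAut P)) :=
      Nat.Coprime.coprime_dvd_right (orderOf_dvd_of_pow_eq_one hk') (Nat.Coprime.pow_right k hm)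
    obtain ⟨a, ha⟩ := exists_pow_eq_self_of_coprime hcop
    rw [Subgroup.mem_subgroupOf, ← ha]
    exact Subgroup.pow_mem _ h1 a
  · -- receptive
    intro Q φ hφ _
    obtain ⟨hQ, γ, hγ, hfγ⟩ := (mor_autSys_iff hT Γ hΓ hInn).mp (mor_of_hom hφ)
    obtain ⟨ψ, hψ, hψf⟩ := (mor_autSys_iff hT Γ hΓ hInn).mpr
      ⟨extender_le T Q φ, γ, hγ, fun _ _ => rfl⟩
    refine ⟨ψ, hψ, fun x hxQ hN => ?_⟩
    rw [hψf]
    show autFun T γ x = φ ⟨x, hxQ⟩
    rw [← hfγ x hxQ, extFun_apply' _ _ hxQ]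

end Cfsg.Agent.Lib.Helper90
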