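import Mathlib
import Cfsg.Prelude.Def_GeometricClasses
import Cfsg.Prelude.Def_LieClassical
import Cfsg.Agent.Lib.Helper71.Asch5
import Cfsg.Agent.Lib.Helper82.ASB8UNITS
import Cfsg.Agent.Lib.Helper97.U9NF3U
import Cfsg.Agent.Lib.Helper46.U9TSQU
import Cfsg.Agent.Lib.Helper44.BADDefs

/-! Project BAD (helper44; sub-project of helper49's SUG = S5663), piece NORM (copy of helper90):
new coordinates in which both hermitian Gram matrices are the identity. -/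

set_option autoImplicit false

namespace Cfsg.Agent.Lib.Helper44.BAD

open Matrix Cfsg.Geo Cfsg.Agent.Lib.Helper71.Asch
open scoped Kronecker

variable {n : ℕ} {F : Type*} [Field F] [Fintype F] {q : ℕ}

omit [Fintype F] in
theorem NORM_kron (G₁ G₂ : Matrix (Fin 3) (Fin 3) F)
    (A₁ A₂ : Matrix (Fin 3) (Fin 3) F) (c₁ c₂ : F)
    (hA₁ : A₁ᵀ * G₁ * A₁.map (fun x : F => x ^ q) = c₁ • (1 : Matrix (Fin 3) (Fin 3) F))
    (hA₂ : A₂ᵀ * G₂ * A₂.map (fun x : F => x ^ q) = c₂ • (1 : Matrix (Fin 3) (Fin 3) F)) :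
    (A₁ ⊗ₖ A₂)ᵀ * (G₁ ⊗ₖ G₂) * ((A₁ ⊗ₖ A₂).map (fun x : F => x ^ q)) =
      (c₁ * c₂) • (1 : Matrix (Fin 3 × Fin 3) (Fin 3 × Fin 3) F) := by
  have h1 : (A₁ ⊗ₖ A₂)ᵀ = A₁ᵀ ⊗ₖ A₂ᵀ := by
    ext ⟨i, j⟩ ⟨k, l⟩
    simp [Matrix.kroneckerMap_apply]
  have h2 : ((A₁ ⊗ₖ A₂).map (fun x : F => x ^ q)) =
      (A₁.map (fun x : F => x ^ q)) ⊗ₖ (A₂.map (fun x : F => x ^ q)) := by
    ext ⟨i, j⟩ ⟨k, l⟩
    simp [Matrix.kroneckerMap_apply, mul_pow]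
  rw [h1, h2, ← Matrix.mul_kronecker_mul, ← Matrix.mul_kronecker_mul, hA₁, hA₂,
    Matrix.smul_kronecker, Matrix.kronecker_smul, Matrix.one_kronecker_one, smul_smul]

/-- NORM: new coordinates in which both Gram matrices are the identity. -/
theorem NORM (hF : Fintype.card F = q ^ 2) (e : Fin n ≃ Fin 3 × Fin 3) (P : GL (Fin n) F)
    (G₁ G₂ : Matrix (Fin 3) (Fin 3) F) (hd1 : G₁.det ≠ 0) (hd2 : G₂.det ≠ 0)
    (hh1 : ∀ a b, G₁ a b = (G₁ b a) ^ q) (hh2 : ∀ a b, G₂ a b = (G₂ b a) ^ q)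
    (hid : ∀ x y : Fin 3 × Fin 3 → F,
      Cfsg.hermForm n F q (P.1 *ᵥ (x ∘ e)) (P.1 *ᵥ (y ∘ e)) =
        formOfGram (fun c : F => c ^ q) (G₁ ⊗ₖ G₂) x y) :
    ∃ (P' : GL (Fin n) F) (c : F), c ≠ 0 ∧ StdF q e P' c ∧
      tensorProductSubgroup 3 3 e P' = tensorProductSubgroup 3 3 e P := by
  classical
  have hq : q ≠ 0 := (Cfsg.Agent.Lib.Helper50.SUQTFS.suqtfs_q_pos hF).ne'
  have h1herm : ∀ a b : Fin 3, (1 : Matrix (Fin 3) (Fin 3) F) a b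
      = ((1 : Matrix (Fin 3) (Fin 3) F) b a) ^ q := by
    intro a b
    simp only [Matrix.one_apply]
    by_cases h : a = b
    · simp [h]
    · simp [h, Ne.symm h, zero_pow hq]
  have hdet1 : (1 : Matrix (Fin 3) (Fin 3) F).det ≠ 0 := by
    rw [Matrix.det_one]
    exact one_ne_zero
  obtain ⟨A₁, c₁, hc₁, hA₁⟩ := Cfsg.Agent.Lib.Helper44.U9.NF3U hF
    (1 : Matrix (Fin 3) (Fin 3) F) G₁ h1herm hh1 hdet1 hd1
  obtain ⟨A₂, c₂, hc₂, hA₂⟩ := Cfsg.Agent.Lib.Helper44.U9.NF3U hF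
    (1 : Matrix (Fin 3) (Fin 3) F) G₂ h1herm hh2 hdet1 hd2
  have hx : ∃ x : GL (Fin 3 × Fin 3) F, x.1 = A₁.1 ⊗ₖ A₂.1 := by
    refine ⟨⟨A₁.1 ⊗ₖ A₂.1, (A₁⁻¹ : GL (Fin 3) F).1 ⊗ₖ (A₂⁻¹ : GL (Fin 3) F).1, ?_, ?_⟩, rfl⟩
    · rw [← Matrix.mul_kronecker_mul, ← Units.val_mul, ← Units.val_mul, mul_inv_cancel,
        mul_inv_cancel, Units.val_one, Matrix.one_kronecker_one]
    · rw [← Matrix.mul_kronecker_mul, ← Units.val_mul, ← Units.val_mul, inv_mul_cancel,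
        inv_mul_cancel, Units.val_one, Matrix.one_kronecker_one]
  obtain ⟨x₀, hx₀⟩ := hx
  have hx₀mem : x₀ ∈ kroneckerSubgroup 3 3 F := ⟨A₁, A₂, hx₀⟩
  obtain ⟨U, hUdef⟩ : ∃ U : GL (Fin n) F, U = glReindex e.symm x₀ := ⟨_, rfl⟩
  have hU : U.1 = (A₁.1 ⊗ₖ A₂.1).submatrix e e := by
    rw [hUdef, ← hx₀]
    rfl
  have hUmem : U ∈ (kroneckerSubgroup 3 3 F).map (glReindex e.symm).toMonoidHom := by
    rw [hUdef]
    exact Subgroup.mem_map_of_mem _ hx₀mem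
  refine ⟨P * U, c₁ * c₂, mul_ne_zero hc₁ hc₂, ?_, ?_⟩
  · intro x y
    have hmv : ∀ z : Fin 3 × Fin 3 → F,
        ((P * U : GL (Fin n) F) : Matrix (Fin n) (Fin n) F) *ᵥ (z ∘ e) =
          P.1 *ᵥ (((A₁.1 ⊗ₖ A₂.1) *ᵥ z) ∘ e) := by
      intro z
      have hz : (z ∘ e) ∘ e.symm = z := by
        funext u
        simp
      rw [Units.val_mul, ← Matrix.mulVec_mulVec, hU, Matrix.submatrix_mulVec_equiv, hz]
    rw [hmv x, hmv y, hid, Cfsg.Agent.Lib.Helper44.U9.TSQU_conj hF,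
      NORM_kron G₁ G₂ A₁.1 A₂.1 c₁ c₂ hA₁ hA₂]
    unfold formOfGram
    rw [Finset.mul_sum]
    apply Finset.sum_congr rfl
    intro a _
    rw [Finset.sum_eq_single a]
    · simp only [Matrix.smul_apply, Matrix.one_apply, if_true, smul_eq_mul, mul_one]
      ring
    · intro b _ hb
      simp [Matrix.smul_apply, Ne.symm hb]
    · intro h
      exact absurd (Finset.mem_univ a) h
  · unfold tensorProductSubgroup
    exact Cfsg.Agent.Lib.Helper44.O9.TSQ_map_conj _ P U hUmem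

end Cfsg.Agent.Lib.Helper44.BAD
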