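import Cfsg.Agent.Lib.Helper90.AlpCard

set_option autoImplicit false

namespace Cfsg.Agent.Lib.Helper90

open Cfsg Cfsg.FusionSystem

variable {Ω : Type*} [Group Ω] {S : Subgroup Ω} {E F : FusionSystem S}

open scoped Pointwise in
/-- Sylow's theorem inside a subgroup `G₁` containing a Sylow `p`-subgroup `T` of the whole group:
every `p`-subgroup of `G₁` is conjugate into `T` by an element of `G₁`. -/
theorem sylow_conj_in_subgroup {G : Type*} [Group G] [Finite G] {p : ℕ} [Fact p.Prime]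
    (T : Sylow p G) (G₁ : Subgroup G) (hT : (T : Subgroup G) ≤ G₁) (P₁ : Subgroup G)
    (hP₁ : IsPGroup p P₁) (hle : P₁ ≤ G₁) :
    ∃ ν ∈ G₁, ∀ α ∈ P₁, ν * α * ν⁻¹ ∈ (T : Subgroup G) := by
  have hP' : IsPGroup p (P₁.subgroupOf G₁) :=
    hP₁.comap_of_injective G₁.subtype (Subgroup.subtype_injective _)
  obtain ⟨R', hR'⟩ := hP'.exists_le_sylow
  obtain ⟨g, hg⟩ := MulAction.exists_smul_eq G₁ R' (T.subtype hT)
  refine ⟨g, g.2, fun α hα => ?_⟩
  have h1 : (⟨α, hle hα⟩ : G₁) ∈ (R' : Subgroup G₁) := hR' (Subgroup.mem_subgroupOf.mpr hα)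
  have hcoe : ((g • R' : Sylow p G₁) : Subgroup G₁) = MulAut.conj g • (R' : Subgroup G₁) := rfl
  have h2 : g * ⟨α, hle hα⟩ * g⁻¹ ∈ ((g • R' : Sylow p G₁) : Subgroup G₁) := by
    rw [hcoe, Subgroup.mem_pointwise_smul_iff_inv_smul_mem]
    simpa [MulAut.smul_def, mul_assoc] using h1
  rw [hg, Sylow.coe_subtype] at h2
  exact Subgroup.mem_subgroupOf.mp h2

/-- The automorphisms of `Q` that preserve the subgroup `A`. -/
def stabSub (Q A : Subgroup Ω) : Subgroup (MulAut Q) where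
  carrier := {α | ∀ x : Q, (x : Ω) ∈ A → ((α x : Q) : Ω) ∈ A ∧ ((α⁻¹ x : Q) : Ω) ∈ A}
  one_mem' := fun x hx => ⟨hx, by simpa using hx⟩
  mul_mem' := by
    intro α β hα hβ x hx
    refine ⟨(hα _ (hβ x hx).1).1, ?_⟩
    have h1 : (α * β)⁻¹ x = β⁻¹ (α⁻¹ x) := by
      rw [mul_inv_rev]
      rfl
    rw [h1]
    exact (hβ _ (hα x hx).2).2
  inv_mem' := by
    intro α hα x hx
    refine ⟨(hα x hx).2, ?_⟩
    rw [inv_inv]
    exact (hα x hx).1

/-- The product `Q₀ C` of two subgroups, the first normalizing the second. -/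
def prodSub (Q₀ C : Subgroup Ω) (h : ∀ q ∈ Q₀, ∀ c ∈ C, q⁻¹ * c * q ∈ C) : Subgroup Ω where
  carrier := {z | ∃ q ∈ Q₀, ∃ c ∈ C, z = q * c}
  one_mem' := ⟨1, Q₀.one_mem, 1, C.one_mem, by simp⟩
  mul_mem' := by
    rintro _ _ ⟨q₁, hq₁, c₁, hc₁, rfl⟩ ⟨q₂, hq₂, c₂, hc₂, rfl⟩
    exact ⟨q₁ * q₂, Q₀.mul_mem hq₁ hq₂, q₂⁻¹ * c₁ * q₂ * c₂,
      C.mul_mem (h q₂ hq₂ c₁ hc₁) hc₂, by group⟩
  inv_mem' := by
    rintro _ ⟨q, hq, c, hc, rfl⟩
    refine ⟨q⁻¹, Q₀.inv_mem hq, q * c⁻¹ * q⁻¹, ?_, by group⟩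
    have := h q⁻¹ (Q₀.inv_mem hq) c⁻¹ (C.inv_mem hc)
    simpa using this

/-- If `C` is not contained in `Q₀` (both inside the finite `p`-group `S`, `Q₀` normalizing `C`),
then some element of `C` outside `Q₀` normalizes `Q₀`. -/
theorem exists_normalizing_of_not_le [Finite S] {p : ℕ} [Fact p.Prime] (hS : IsPGroup p S)
    {Q₀ C : Subgroup Ω} (hQ₀ : Q₀ ≤ S) (hC : C ≤ S)
    (hnorm : ∀ q ∈ Q₀, ∀ c ∈ C, q⁻¹ * c * q ∈ C) {u : Ω} (hu : u ∈ C) (huQ : u ∉ Q₀) :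
    ∃ c ∈ C, c ∈ Subgroup.normalizer (Q₀ : Set Ω) ∧ c ∉ Q₀ := by
  have hJ : prodSub Q₀ C hnorm ≤ S := by
    rintro _ ⟨q, hq, c, hc, rfl⟩
    exact S.mul_mem (hQ₀ hq) (hC hc)
  have hQJ : Q₀ ≤ prodSub Q₀ C hnorm := fun q hq => ⟨q, hq, 1, C.one_mem, by simp⟩
  have huJ : u ∈ prodSub Q₀ C hnorm := ⟨1, Q₀.one_mem, u, hu, by simp⟩
  have : Finite ↥(prodSub Q₀ C hnorm) := finite_of_le hJ
  have hlt : Q₀ < prodSub Q₀ C hnorm := lt_of_le_of_ne hQJ (fun h => huQ (h ▸ huJ))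
  have h2 := lt_normalizerIn (S := prodSub Q₀ C hnorm) (hS.to_le hJ) hlt
  obtain ⟨y, hy, hyQ⟩ := SetLike.exists_of_lt h2
  obtain ⟨q, hq, c, hc, rfl⟩ := hy.1
  refine ⟨c, hc, ?_, fun h => hyQ (Q₀.mul_mem hq h)⟩
  have h3 : q⁻¹ ∈ Subgroup.normalizer (Q₀ : Set Ω) := Subgroup.le_normalizer (Q₀.inv_mem hq)
  have h4 := Subgroup.mul_mem _ h3 hy.2
  simpa using h4

theorem conj_inv_mem_centralizerIn {B : Subgroup Ω} {q c : Ω} (hq : q ∈ normalizerIn S B)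
    (hc : c ∈ centralizerIn S B) : q⁻¹ * c * q ∈ centralizerIn S B := by
  refine Subgroup.mem_inf.mpr ⟨S.mul_mem (S.mul_mem (S.inv_mem hq.1) hc.1) hq.1, ?_⟩
  rw [Subgroup.mem_centralizer_iff]
  intro w hw
  have hw' : q * w * q⁻¹ ∈ B := conj_mem_of_mem_normalizer hq.2 hw
  have h1 : q * w * q⁻¹ * c = c * (q * w * q⁻¹) := Subgroup.mem_centralizer_iff.mp hc.2 _ hw'
  calc w * (q⁻¹ * c * q) = q⁻¹ * (q * w * q⁻¹ * c) * q := by group
    _ = q⁻¹ * (c * (q * w * q⁻¹)) * q := by rw [h1]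
    _ = q⁻¹ * c * q * w := by group

/-- Extension of an isomorphism onto a fully automized receptive subgroup `Q` to the normalizer
of a chain `A' ≤ Q'`, keeping track of the subgroup `A` of `Q` normalized by `N_S(Q)`. -/
theorem exists_ext_stab [Finite S] {p : ℕ} [Fact p.Prime] (hS : IsPGroup p S)
    {Q A Q' A' R : Subgroup Ω} (hfa : F.IsFullyAutomized p Q) (hrec : F.IsReceptive Q)
    (hAQ : A ≤ Q) (hAN : normalizerIn S Q ≤ normalizerIn S A)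
    {c : Ω → Ω} (hc : Mor F Q' c) (himg : img Q' c = Q) (hA'Q' : A' ≤ Q') (hcA : img A' c = A)
    (hQ'R : Q' ≤ R) (hRQ' : R ≤ normalizerIn S Q') (hRA' : R ≤ normalizerIn S A') :
    ∃ ω, Mor F R ω ∧ (∀ x ∈ Q', ω x ∈ Q) ∧ ∀ x ∈ A', ω x ∈ A := by
  have hQS : Q ≤ S := hfa.1
  have hQ'S : Q' ≤ S := hc.le
  have hRS : R ≤ S := hRQ'.trans inf_le_left
  have : Finite Q := finite_of_le hQS
  have : Finite Q' := finite_of_le hQ'S
  obtain ⟨e, he⟩ := hc.exists_equiv himg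
  obtain ⟨-, Rsyl, hRsyl⟩ := id hfa
  let P₁ : Subgroup (MulAut Q) := (autInducedBy R Q').map (MulAut.congr e).toMonoidHom
  have hP₁p : IsPGroup p P₁ := (isPGroup_autInducedBy (hS.to_le hRS) Q').map _
  have hcong : ∀ (α : MulAut Q') (y : Q), (MulAut.congr e α) y = e (α (e.symm y)) :=
    fun _ _ => rfl
  have hcA' : Mor F A' c := hc.restrict hA'Q'
  have hinv : Mor F Q (invFn Q' c) := by
    have := hc.inv
    rwa [himg] at this
  have hesymm : ∀ y : Q, ((e.symm y : Q') : Ω) = invFn Q' c y := by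
    intro y
    have h3 : (y : Ω) = c (e.symm y : Q') := by
      rw [← he]; simp
    conv_rhs => rw [h3]
    rw [hc.invFn_apply (e.symm y).2]
  have hP₁A : ∀ α ∈ autInducedBy R Q', ∀ x : Q, (x : Ω) ∈ A →
      (((MulAut.congr e α) x : Q) : Ω) ∈ A := by
    intro α hα x hx
    obtain ⟨r, hr, hαr⟩ := (mem_autInducedBy_iff R Q' α).mp hα
    rw [hcong, he, hαr]
    have hy : ((e.symm x : Q') : Ω) ∈ A' := by
      have hx' := hx
      rw [← hcA] at hx'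
      obtain ⟨y', hy', hy'x⟩ := hcA'.mem_img.mp hx'
      have h1 : c (e.symm x : Q') = x := by rw [← he]; simp
      have h2 : y' = (e.symm x : Q') := hc.inj (hA'Q' hy') (e.symm x).2 (hy'x.trans h1.symm)
      rw [← h2]
      exact hy'
    rw [← hcA]
    exact hcA'.mem_img_of_mem (conj_mem_of_mem_normalizer (hRA' hr).2 hy)
  have hP₁_le : P₁ ≤ F.autGroup Q := by
    rintro _ ⟨α, hα, rfl⟩
    obtain ⟨r, hr, hαr⟩ := (mem_autInducedBy_iff R Q' α).mp hα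
    rw [mem_autGroup_iff F hQS]
    have hconj : Mor F Q' (fun x => r * x * r⁻¹) := mor_conj F hQ'S (hRS hr)
    have hconjQ' : ∀ x ∈ Q', r * x * r⁻¹ ∈ Q' :=
      fun x hx => conj_mem_of_mem_normalizer (hRQ' hr).2 hx
    have hinvQ' : ∀ y ∈ Q, invFn Q' c y ∈ Q' := fun y hy => hc.invFn_mem (himg ▸ hy)
    have h1 : Mor F Q (c ∘ (fun x => r * x * r⁻¹) ∘ invFn Q' c) :=
      (hinv.comp hconj hinvQ').comp hc (fun y hy => hconjQ' _ (hinvQ' y hy))
    refine h1.congr ?_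
    intro y hy
    rw [autFun_apply' _ hy]
    show c (r * invFn Q' c y * r⁻¹) = ((MulAut.congr e α) ⟨y, hy⟩ : Q)
    rw [hcong, he, hαr, hesymm]
  have hP₁stab : P₁ ≤ stabSub Q A := by
    rintro _ ⟨α, hα, rfl⟩ x hx
    refine ⟨hP₁A α hα x hx, ?_⟩
    have h1 : ((MulAut.congr e).toMonoidHom α)⁻¹ = (MulAut.congr e) α⁻¹ := by
      rw [← map_inv]
      rfl
    rw [h1]
    exact hP₁A α⁻¹ (Subgroup.inv_mem _ hα) x hx
  have hTA : ∀ α ∈ autInducedBy S Q, ∀ x : Q, (x : Ω) ∈ A → ((α x : Q) : Ω) ∈ A := by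
    intro α hα x hx
    obtain ⟨s, hs, hαs⟩ := (mem_autInducedBy_iff S Q α).mp hα
    have hsN : s ∈ Subgroup.normalizer (Q : Set Ω) := by
      apply mem_normalizer_of_finite
      intro y hy
      rw [← hαs ⟨y, hy⟩]
      exact (α ⟨y, hy⟩).2
    rw [hαs]
    exact conj_mem_of_mem_normalizer (hAN ⟨hs, hsN⟩).2 hx
  have hTstab : autInducedBy S Q ≤ stabSub Q A := by
    intro α hα x hx
    exact ⟨hTA α hα x hx, hTA α⁻¹ (Subgroup.inv_mem _ hα) x hx⟩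
  obtain ⟨ν, hνstab, hν⟩ := sylow_conj_in_subgroup Rsyl
    ((stabSub Q A).subgroupOf (F.autGroup Q))
    (by
      rw [hRsyl]
      intro x hx
      exact Subgroup.mem_subgroupOf.mpr (hTstab (Subgroup.mem_subgroupOf.mp hx)))
    (P₁.subgroupOf (F.autGroup Q))
    (hP₁p.comap_of_injective _ (Subgroup.subtype_injective _))
    (by
      intro x hx
      exact Subgroup.mem_subgroupOf.mpr (hP₁stab (Subgroup.mem_subgroupOf.mp hx)))
  have hνm : Mor F Q (autFun Q (ν : MulAut Q)) := (mem_autGroup_iff F hQS _).mp ν.2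
  have hcQ : ∀ x ∈ Q', c x ∈ Q := fun x hx => himg ▸ hc.mem_img_of_mem hx
  have hθ₀ : Mor F Q' (autFun Q (ν : MulAut Q) ∘ c) := hc.comp hνm hcQ
  have hθ₀img : img Q' (autFun Q (ν : MulAut Q) ∘ c) = Q := by
    rw [Mor.img_comp hc hνm hcQ, himg, img_autFun]
  obtain ⟨ω, hω, hωQ'⟩ := receptive_extend hrec hθ₀ hθ₀img R hQ'R (by
    intro a ha
    refine ⟨hRS ha, (hRQ' ha).2, ?_⟩
    have hconj : Mor F Q' (fun x => a * x * a⁻¹) := mor_conj F hQ'S (hRS ha)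
    obtain ⟨α, -, hα⟩ := exists_aut_of_mor hconj
      (fun x hx => conj_mem_of_mem_normalizer (hRQ' ha).2 hx)
    have hαR : α ∈ autInducedBy R Q' := (mem_autInducedBy_iff R Q' α).mpr ⟨a, ha, hα⟩
    have hmem : (MulAut.congr e α) ∈ P₁ := ⟨α, hαR, rfl⟩
    have h0 := hν ⟨MulAut.congr e α, hP₁_le hmem⟩ (Subgroup.mem_subgroupOf.mpr hmem)
    rw [hRsyl, Subgroup.mem_subgroupOf] at h0
    obtain ⟨b, hb, hbα⟩ := (mem_autInducedBy_iff S Q _).mp h0
    refine ⟨b, hb, fun x hx => ?_⟩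
    have h1 := hbα ((ν : MulAut Q) (e ⟨x, hx⟩))
    have h2 : ((ν * ⟨MulAut.congr e α, hP₁_le hmem⟩ * ν⁻¹ : F.autGroup Q) : MulAut Q)
        ((ν : MulAut Q) (e ⟨x, hx⟩)) = (ν : MulAut Q) (e (α ⟨x, hx⟩)) := by
      show (ν : MulAut Q) ((MulAut.congr e α) ((ν : MulAut Q)⁻¹ ((ν : MulAut Q) (e ⟨x, hx⟩)))) = _
      have h3 : (ν : MulAut Q)⁻¹ ((ν : MulAut Q) (e ⟨x, hx⟩)) = e ⟨x, hx⟩ := by simp
      rw [h3, hcong]
      simp
    rw [h2] at h1
    show autFun Q (ν : MulAut Q) (c (a * x * a⁻¹)) = b * autFun Q (ν : MulAut Q) (c x) * b⁻¹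
    have h4 : c x = (e ⟨x, hx⟩ : Q) := (he ⟨x, hx⟩).symm
    have h5 : c (a * x * a⁻¹) = (e (α ⟨x, hx⟩) : Q) := by
      rw [he, hα]
    rw [h4, h5, autFun_apply, autFun_apply]
    exact h1)
  refine ⟨ω, hω, ?_, ?_⟩
  · intro x hx
    rw [hωQ' x hx]
    exact autFun_mem _ (hcQ x hx)
  · intro x hx
    rw [hωQ' x (hA'Q' hx)]
    have hcx : c x ∈ A := hcA ▸ hcA'.mem_img_of_mem hx
    show autFun Q (ν : MulAut Q) (c x) ∈ A
    rw [autFun_apply' _ (hAQ hcx)]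
    exact (Subgroup.mem_subgroupOf.mp hνstab ⟨c x, hAQ hcx⟩ hcx).1

/-- The core of the Benson–Grodal–Henke argument. `E ≤ F` are saturated, `Q` is fully automized and
receptive in `F`, the two systems agree on all subgroups of larger order, and `A ≤ Q` is a subgroup
normalized by `N_S(Q)` such that the `F`-automorphisms of `Q` centralizing `A` are induced by `S`
and such that the restriction to `A` of every `F`-automorphism of `Q` is a map of `E`. Then every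
`F`-automorphism of `Q` is a map of `E`. -/
theorem bgh_core [Finite S] {p : ℕ} [Fact p.Prime] (hS : IsPGroup p S) {Q A : Subgroup Ω}
    (hE : E.IsSaturated p) (hEF : ∀ (P : Subgroup Ω) (f : Ω → Ω), Mor E P f → Mor F P f)
    (hfa : F.IsFullyAutomized p Q) (hrec : F.IsReceptive Q)
    (hbig : ∀ (P₂ : Subgroup Ω) (f : Ω → Ω), Nat.card Q < Nat.card P₂ → Mor F P₂ f → Mor E P₂ f)
    (hAQ : A ≤ Q) (hAN : normalizerIn S Q ≤ normalizerIn S A)
    (hK : ∀ f : Ω → Ω, Mor F Q f → (∀ x ∈ Q, f x ∈ Q) → (∀ a ∈ A, f a = a) →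
      ∃ s ∈ S, ∀ x ∈ Q, f x = s * x * s⁻¹)
    (hAE : ∀ f : Ω → Ω, Mor F Q f → (∀ x ∈ Q, f x ∈ Q) → Mor E A f) :
    ∀ γ : Ω → Ω, Mor F Q γ → (∀ x ∈ Q, γ x ∈ Q) → Mor E Q γ := by
  have hQS : Q ≤ S := hfa.1
  have hAS : A ≤ S := hAQ.trans hQS
  have : Finite Q := finite_of_le hQS
  have : Finite A := finite_of_le hAS
  have hQN : Q ≤ normalizerIn S Q := le_normalizerIn hQS
  have hQNA : Q ≤ normalizerIn S A := hQN.trans hAN
  have hANA : A ≤ normalizerIn S A := le_normalizerIn hAS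
  have hAnorm : ∀ g ∈ normalizerIn S Q, ∀ a ∈ A, g * a * g⁻¹ ∈ A :=
    fun g hg a ha => conj_mem_of_mem_normalizer (hAN hg).2 ha
  -- a fully automized receptive `E`-conjugate of `A`
  obtain ⟨Astar, hconj, hfaA, hrecA⟩ := hE A hAS
  obtain ⟨c₀, hc₀, hc₀img⟩ := isConj_iff.mp hconj
  obtain ⟨χ, hχ, hχimg⟩ := exists_normalizer_map hS hfaA hrecA hc₀ hc₀img
  have hχF : Mor F (normalizerIn S A) χ := hEF _ _ hχ
  have hχQ : Mor E Q χ := hχ.restrict hQNA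
  have hχA : Mor E A χ := hχ.restrict hANA
  have hχconj : ∀ g ∈ normalizerIn S A, ∀ a ∈ A, χ (g * a * g⁻¹) = χ g * χ a * (χ g)⁻¹ := by
    intro g hg a ha
    rw [hχ.map_mul (Subgroup.mul_mem _ hg (hANA ha)) (Subgroup.inv_mem _ hg),
      hχ.map_mul hg (hANA ha), hχ.map_inv hg]
  obtain ⟨Q₀, hQ₀⟩ : ∃ Q₀ : Subgroup Ω, Q₀ = img Q χ := ⟨_, rfl⟩
  have hQ₀S : Q₀ ≤ S := hQ₀ ▸ hχQ.img_le
  have hQ₀card : Nat.card Q₀ = Nat.card Q := by rw [hQ₀, hχQ.card_img]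
  have : Finite Q₀ := finite_of_le hQ₀S
  have hχQ₀ : ∀ g ∈ Q, χ g ∈ Q₀ := fun g hg => hQ₀ ▸ hχQ.mem_img_of_mem hg
  have hQ₀N : Q₀ ≤ normalizerIn S Astar := by
    intro y hy
    rw [hQ₀] at hy
    obtain ⟨g, hg, rfl⟩ := hχQ.mem_img.mp hy
    have := hχF.map_normalizerIn hANA (hQNA hg) (hQNA hg).2
    rwa [hχimg] at this
  have hfn : F.IsFullyNormalized Q := fullyNormalized_of_fa_rec hS hfa hrec
  have hχN : Mor F (normalizerIn S Q) χ := hχF.restrict hAN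
  have hNQ₀ : normalizerIn S Q₀ = img (normalizerIn S Q) χ := by
    symm
    have hle : img (normalizerIn S Q) χ ≤ normalizerIn S Q₀ := by
      intro y hy
      obtain ⟨n, hn, rfl⟩ := hχN.mem_img.mp hy
      have := hχN.map_normalizerIn hQN hn hn.2
      rwa [← hQ₀] at this
    have : Finite (normalizerIn S Q₀) := finite_of_le inf_le_left
    apply Subgroup.eq_of_le_of_card_ge hle
    rw [hχN.card_img]
    exact hfn.2 Q₀ (isConj_iff.mpr ⟨χ, hχF.restrict hQNA, hQ₀.symm⟩)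
  -- Step D: the automorphisms normalizing `A`
  have stepD : ∀ γ₁ : Ω → Ω, Mor F Q γ₁ → (∀ x ∈ Q, γ₁ x ∈ Q) → (∀ a ∈ A, γ₁ a ∈ A) →
      Mor E Q γ₁ := by
    intro γ₁ hγ₁ hγ₁Q hγ₁A
    have himgQ : img Q γ₁ = Q := hγ₁.img_eq_self hγ₁Q
    have hγ₁Amor : Mor F A γ₁ := hγ₁.restrict hAQ
    have hinvA : ∀ a ∈ A, invFn Q γ₁ a ∈ A := by
      intro a ha
      obtain ⟨x, hx, rfl⟩ := hγ₁Amor.surj_of_finite hγ₁A a ha
      rw [hγ₁.invFn_apply (hAQ hx)]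
      exact hx
    have hinv : Mor F Q (invFn Q γ₁) := by
      have := hγ₁.inv
      rwa [himgQ] at this
    have hinvQ : ∀ y ∈ Q, invFn Q γ₁ y ∈ Q := fun y hy => hγ₁.invFn_mem (by rw [himgQ]; exact hy)
    have happ : ∀ y ∈ Q, γ₁ (invFn Q γ₁ y) = y := fun y hy => hγ₁.apply_invFn (by rw [himgQ]; exact hy)
    by_cases hcase : ∃ n ∈ normalizerIn S Q, n ∉ Q ∧ n ∈ Subgroup.centralizer (A : Set Ω)
    · -- some element of `N_S(Q)` outside `Q` centralizes `A`: then `γ₁` extends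
      obtain ⟨n, hnN, hnQ, hnC⟩ := hcase
      have hconj : Mor F Q (fun x => n * x * n⁻¹) := mor_conj F hQS hnN.1
      have hconjQ : ∀ x ∈ Q, n * x * n⁻¹ ∈ Q :=
        fun x hx => conj_mem_of_mem_normalizer hnN.2 hx
      have hf : Mor F Q (γ₁ ∘ (fun x => n * x * n⁻¹) ∘ invFn Q γ₁) :=
        (hinv.comp hconj hinvQ).comp hγ₁ (fun y hy => hconjQ _ (hinvQ y hy))
      obtain ⟨s, hs, hsf⟩ := hK _ hf (fun y hy => hγ₁Q _ (hconjQ _ (hinvQ y hy))) (by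
        intro a ha
        show γ₁ (n * invFn Q γ₁ a * n⁻¹) = a
        have h1 : invFn Q γ₁ a * n = n * invFn Q γ₁ a :=
          Subgroup.mem_centralizer_iff.mp hnC _ (hinvA a ha)
        have h2 : n * invFn Q γ₁ a * n⁻¹ = invFn Q γ₁ a := by
          rw [← h1]; group
        rw [h2, happ a (hAQ ha)])
      have hnext : n ∈ extFn S Q γ₁ := by
        rw [hγ₁.mem_extFn]
        refine ⟨hnN.1, hnN.2, s, hs, fun x hx => ?_⟩
        have h1 := hsf (γ₁ x) (hγ₁Q x hx)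
        have h2 : (γ₁ ∘ (fun x => n * x * n⁻¹) ∘ invFn Q γ₁) (γ₁ x) = γ₁ (n * x * n⁻¹) := by
          show γ₁ (n * invFn Q γ₁ (γ₁ x) * n⁻¹) = _
          rw [hγ₁.invFn_apply hx]
        rw [← h2, h1]
      obtain ⟨γ', hγ', hγ'Q⟩ := receptive_extend' hrec hγ₁ himgQ
      have hlt : Q < extFn S Q γ₁ :=
        lt_of_le_of_ne hγ₁.le_extFn (fun h => hnQ (h ▸ hnext))
      have : Finite (extFn S Q γ₁) := finite_of_le ((extFn_le S Q γ₁).trans inf_le_left)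
      have hγ'E : Mor E (extFn S Q γ₁) γ' := hbig _ _ (card_lt_of_lt hlt) hγ'
      exact (hγ'E.restrict hlt.le).congr hγ'Q
    · -- no element of `N_S(Q)` outside `Q` centralizes `A`
      have hD : ∀ n ∈ normalizerIn S Q, n ∈ Subgroup.centralizer (A : Set Ω) → n ∈ Q := by
        intro n hn hc
        by_contra hq
        exact hcase ⟨n, hn, hq, hc⟩
      have hγ₁E : Mor E A γ₁ := hAE γ₁ hγ₁ hγ₁Q
      have himgA : img A γ₁ = A := hγ₁E.img_eq_self hγ₁A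
      have hιE : Mor E A (invFn A γ₁) := by
        have := hγ₁E.inv
        rwa [himgA] at this
      have hιeq : ∀ a ∈ A, invFn A γ₁ a = invFn Q γ₁ a := by
        intro a ha
        obtain ⟨x, hx, rfl⟩ := hγ₁Amor.surj_of_finite hγ₁A a ha
        rw [hγ₁E.invFn_apply hx, hγ₁.invFn_apply (hAQ hx)]
      have hιA : ∀ a ∈ A, invFn A γ₁ a ∈ A := fun a ha => (hιeq a ha) ▸ hinvA a ha
      have hιimg : img A (invFn A γ₁) = A := by
        have := hγ₁E.img_inv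
        rwa [himgA] at this
      have hθ₁ : Mor E A (χ ∘ invFn A γ₁) := hιE.comp hχA hιA
      have hθ₁img : img A (χ ∘ invFn A γ₁) = Astar := by
        rw [Mor.img_comp hιE hχA hιA, hιimg, hχimg]
      obtain ⟨ε₁, hε₁, hε₁A⟩ := receptive_extend hrecA hθ₁ hθ₁img Q hAQ (by
        intro g hg
        refine ⟨hQS hg, (hQNA hg).2, χ (invFn Q γ₁ g), hχ.mem (hQNA (hinvQ g hg)),
          fun x hx => ?_⟩
        show χ (invFn A γ₁ (g * x * g⁻¹)) =
          χ (invFn Q γ₁ g) * χ (invFn A γ₁ x) * (χ (invFn Q γ₁ g))⁻¹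
        have hgx : g * x * g⁻¹ ∈ A := hAnorm g (hQN hg) x hx
        rw [hιeq _ hgx, hιeq x hx]
        have h1 : invFn Q γ₁ (g * x * g⁻¹) =
            invFn Q γ₁ g * invFn Q γ₁ x * (invFn Q γ₁ g)⁻¹ := by
          rw [hinv.map_mul (Q.mul_mem hg (hAQ hx)) (Q.inv_mem hg), hinv.map_mul hg (hAQ hx),
            hinv.map_inv hg]
        rw [h1]
        exact hχconj _ (hQNA (hinvQ g hg)) _ (hinvA x hx))
      have hμA : ∀ a ∈ A, ε₁ (γ₁ a) = χ a := by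
        intro a ha
        rw [hε₁A _ (hγ₁A a ha)]
        show χ (invFn A γ₁ (γ₁ a)) = χ a
        rw [hγ₁E.invFn_apply ha]
      have hcl : img Q ε₁ = Q₀ := by
        by_contra hne
        have hex : ∃ y ∈ img Q ε₁, y ∉ Q₀ := by
          by_contra hall
          push Not at hall
          apply hne
          apply Subgroup.eq_of_le_of_card_ge hall
          rw [hε₁.card_img, hQ₀card]
        obtain ⟨y, hy, hyQ₀⟩ := hex
        obtain ⟨g₁, hg₁, rfl⟩ := hε₁.mem_img.mp hy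
        obtain ⟨g, hg⟩ : ∃ g, g = invFn Q γ₁ g₁ := ⟨_, rfl⟩
        have hgQ : g ∈ Q := hg ▸ hinvQ g₁ hg₁
        have hgg : γ₁ g = g₁ := hg ▸ happ g₁ hg₁
        have huC : (χ g)⁻¹ * ε₁ g₁ ∈ centralizerIn S Astar := by
          refine Subgroup.mem_inf.mpr
            ⟨S.mul_mem (S.inv_mem (hχ.mem (hQNA hgQ))) (hε₁.mem hg₁), ?_⟩
          rw [Subgroup.mem_centralizer_iff]
          intro w hw
          rw [← hχimg] at hw
          obtain ⟨a, ha, rfl⟩ := hχA.mem_img.mp hw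
          have hga : g * a * g⁻¹ ∈ A := hAnorm g (hQN hgQ) a ha
          have h1 := hμA _ hga
          have h2 : γ₁ (g * a * g⁻¹) = g₁ * γ₁ a * g₁⁻¹ := by
            rw [hγ₁.map_mul (Q.mul_mem hgQ (hAQ ha)) (Q.inv_mem hgQ), hγ₁.map_mul hgQ (hAQ ha),
              hγ₁.map_inv hgQ, hgg]
          rw [h2] at h1
          have hγaQ : γ₁ a ∈ Q := hγ₁Q a (hAQ ha)
          rw [hε₁.map_mul (Q.mul_mem hg₁ hγaQ) (Q.inv_mem hg₁), hε₁.map_mul hg₁ hγaQ,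
            hε₁.map_inv hg₁, hμA a ha, hχconj g (hQNA hgQ) a ha] at h1
          calc χ a * ((χ g)⁻¹ * ε₁ g₁) = (χ g)⁻¹ * (χ g * χ a * (χ g)⁻¹) * ε₁ g₁ := by group
            _ = (χ g)⁻¹ * (ε₁ g₁ * χ a * (ε₁ g₁)⁻¹) * ε₁ g₁ := by rw [h1]
            _ = (χ g)⁻¹ * ε₁ g₁ * χ a := by group
        have huQ₀ : (χ g)⁻¹ * ε₁ g₁ ∉ Q₀ := by
          intro h
          apply hyQ₀
          have := Q₀.mul_mem (hχQ₀ g hgQ) h
          simpa using this
        obtain ⟨c, hcC, hcN, hcQ₀⟩ := exists_normalizing_of_not_le hS hQ₀S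
          (inf_le_left : centralizerIn S Astar ≤ S)
          (fun q hq c hc => conj_inv_mem_centralizerIn (hQ₀N hq) hc) huC huQ₀
        have hcN' : c ∈ normalizerIn S Q₀ := ⟨hcC.1, hcN⟩
        rw [hNQ₀] at hcN'
        obtain ⟨n, hn, rfl⟩ := hχN.mem_img.mp hcN'
        have hnQ : n ∉ Q := fun h => hcQ₀ (hχQ₀ n h)
        apply hnQ
        apply hD n hn
        rw [Subgroup.mem_centralizer_iff]
        intro a ha
        have hna : n * a * n⁻¹ ∈ A := hAnorm n hn a ha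
        have h1 := hχconj n (hAN hn) a ha
        have h2 : χ a * χ n = χ n * χ a :=
          Subgroup.mem_centralizer_iff.mp hcC.2 _ (hχimg ▸ hχA.mem_img_of_mem ha)
        have h3 : χ n * χ a * (χ n)⁻¹ = χ a := by
          rw [← h2]; group
        rw [h3] at h1
        have h4 : n * a * n⁻¹ = a := hχ.inj (hANA hna) (hANA ha) h1
        calc a * n = (n * a * n⁻¹) * n := by rw [h4]
          _ = n * a := by group
      have hχinv : Mor E Q₀ (invFn Q χ) := hQ₀ ▸ hχQ.inv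
      have hε₁Q₀ : ∀ x ∈ Q, ε₁ x ∈ Q₀ := fun x hx => hcl ▸ hε₁.mem_img_of_mem hx
      have hδ : Mor E Q (invFn Q χ ∘ ε₁) := hε₁.comp hχinv hε₁Q₀
      have hδQ : ∀ x ∈ Q, (invFn Q χ ∘ ε₁) x ∈ Q :=
        fun x hx => hχQ.invFn_mem (hQ₀ ▸ hε₁Q₀ x hx)
      have hfF : Mor F Q ((invFn Q χ ∘ ε₁) ∘ γ₁) := hγ₁.comp (hEF _ _ hδ) hγ₁Q
      obtain ⟨s, hs, hsf⟩ := hK _ hfF (fun x hx => hδQ _ (hγ₁Q x hx)) (by
        intro a ha
        show invFn Q χ (ε₁ (γ₁ a)) = a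
        rw [hμA a ha, hχQ.invFn_apply (hAQ ha)])
      have hfE : Mor E Q ((invFn Q χ ∘ ε₁) ∘ γ₁) :=
        (mor_conj E hQS hs).congr (fun x hx => (hsf x hx).symm)
      have hδimg : img Q (invFn Q χ ∘ ε₁) = Q := hδ.img_eq_self hδQ
      have hδinv : Mor E Q (invFn Q (invFn Q χ ∘ ε₁)) := by
        have := hδ.inv
        rwa [hδimg] at this
      have hfin := hfE.comp hδinv (fun x hx => hδQ _ (hγ₁Q x hx))
      exact hfin.congr (fun x hx => hδ.invFn_apply (hγ₁Q x hx))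
  -- the general case
  intro γ hγ hγQ
  have himgQ : img Q γ = Q := hγ.img_eq_self hγQ
  have hinv : Mor F Q (invFn Q γ) := by
    have := hγ.inv
    rwa [himgQ] at this
  have hinvQ : ∀ y ∈ Q, invFn Q γ y ∈ Q := fun y hy => hγ.invFn_mem (by rw [himgQ]; exact hy)
  have happ : ∀ y ∈ Q, γ (invFn Q γ y) = y := fun y hy => hγ.apply_invFn (by rw [himgQ]; exact hy)
  have hγE : Mor E A γ := hAE γ hγ hγQ
  obtain ⟨B, hB⟩ : ∃ B : Subgroup Ω, B = img A γ := ⟨_, rfl⟩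
  have hBmem : ∀ y, y ∈ B ↔ ∃ a ∈ A, γ a = y := fun y => hB ▸ hγE.mem_img
  have hBQ : B ≤ Q := by
    intro y hy
    obtain ⟨a, ha, rfl⟩ := (hBmem y).mp hy
    exact hγQ a (hAQ ha)
  have hιE : Mor E B (invFn A γ) := hB ▸ hγE.inv
  have hιB : ∀ y ∈ B, invFn A γ y ∈ A := fun y hy => hγE.invFn_mem (hB ▸ hy)
  have hιimg : img B (invFn A γ) = A := hB ▸ hγE.img_inv
  have hθ : Mor E B (χ ∘ invFn A γ) := hιE.comp hχA hιB
  have hθimg : img B (χ ∘ invFn A γ) = Astar := by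
    rw [Mor.img_comp hιE hχA hιB, hιimg, hχimg]
  have hconjγ : ∀ g ∈ Q, ∀ a ∈ A,
      γ (invFn Q γ g * a * (invFn Q γ g)⁻¹) = g * γ a * g⁻¹ := by
    intro g hg a ha
    have hg' := hinvQ g hg
    rw [hγ.map_mul (Q.mul_mem hg' (hAQ ha)) (Q.inv_mem hg'), hγ.map_mul hg' (hAQ ha),
      hγ.map_inv hg', happ g hg]
  obtain ⟨ε, hε, hεB⟩ := receptive_extend hrecA hθ hθimg Q hBQ (by
    intro g hg
    have : Finite B := finite_of_le (hBQ.trans hQS)
    have hg' := hinvQ g hg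
    have hgB : ∀ x ∈ B, g * x * g⁻¹ ∈ B := by
      intro x hx
      obtain ⟨a, ha, rfl⟩ := (hBmem x).mp hx
      rw [← hconjγ g hg a ha]
      exact (hBmem _).mpr ⟨_, hAnorm _ (hQN hg') a ha, rfl⟩
    refine ⟨hQS hg, mem_normalizer_of_finite hgB, χ (invFn Q γ g), hχ.mem (hQNA hg'),
      fun x hx => ?_⟩
    obtain ⟨a, ha, rfl⟩ := (hBmem x).mp hx
    show χ (invFn A γ (g * γ a * g⁻¹)) =
      χ (invFn Q γ g) * χ (invFn A γ (γ a)) * (χ (invFn Q γ g))⁻¹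
    rw [← hconjγ g hg a ha, hγE.invFn_apply (hAnorm _ (hQN hg') a ha), hγE.invFn_apply ha]
    exact hχconj _ (hQNA hg') a ha)
  have hμA : ∀ a ∈ A, ε (γ a) = χ a := by
    intro a ha
    rw [hεB _ ((hBmem _).mpr ⟨a, ha, rfl⟩)]
    show χ (invFn A γ (γ a)) = χ a
    rw [hγE.invFn_apply ha]
  obtain ⟨Q', hQ'⟩ : ∃ Q' : Subgroup Ω, Q' = img Q ε := ⟨_, rfl⟩
  have hεQ' : ∀ x ∈ Q, ε x ∈ Q' := fun x hx => hQ' ▸ hε.mem_img_of_mem hx
  have hρ' : ∃ ρ', Mor E Q' ρ' ∧ (∀ y ∈ Q', ρ' y ∈ Q) ∧ ∀ a ∈ A, ρ' (χ a) ∈ A := by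
    by_cases hcase : Q' = Q₀
    · refine ⟨invFn Q χ, ?_, ?_, ?_⟩
      · rw [hcase, hQ₀]
        exact hχQ.inv
      · intro y hy
        rw [hcase, hQ₀] at hy
        exact hχQ.invFn_mem hy
      · intro a ha
        rw [hχQ.invFn_apply (hAQ ha)]
        exact ha
    · -- `Q' ≠ Q₀`: extend to a larger subgroup
      have hεF : Mor F Q ε := hEF _ _ hε
      have hμ : Mor F Q (ε ∘ γ) := hγ.comp hεF hγQ
      have hμimg : img Q (ε ∘ γ) = Q' := by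
        rw [Mor.img_comp hγ hεF hγQ, himgQ, hQ']
      have hQ'S : Q' ≤ S := hQ' ▸ hε.img_le
      have hQ'card : Nat.card Q' = Nat.card Q := by rw [hQ', hε.card_img]
      have : Finite Q' := finite_of_le hQ'S
      have hμAimg : img A (ε ∘ γ) = Astar := by
        rw [← hχimg]
        exact img_congr (fun a ha => hμA a ha)
      have hQ'N : Q' ≤ normalizerIn S Astar := by
        intro y hy
        rw [← hμimg] at hy
        obtain ⟨g, hg, rfl⟩ := hμ.mem_img.mp hy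
        have := hμ.map_normalizerIn hAQ hg (hQNA hg).2
        rwa [hμAimg] at this
      -- an element of `Q₀` outside `Q'`
      have hex : ∃ y ∈ Q₀, y ∉ Q' := by
        by_contra hall
        push Not at hall
        apply hcase
        symm
        apply Subgroup.eq_of_le_of_card_ge hall
        rw [hQ'card, hQ₀card]
      obtain ⟨y, hyQ₀, hyQ'⟩ := hex
      have hJ : Q' ⊔ Q₀ ≤ normalizerIn S Astar := sup_le hQ'N hQ₀N
      have hJS : Q' ⊔ Q₀ ≤ S := hJ.trans inf_le_left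
      have : Finite ↥(Q' ⊔ Q₀) := finite_of_le hJS
      have hlt : Q' < Q' ⊔ Q₀ :=
        lt_of_le_of_ne le_sup_left (fun h => hyQ' (h ▸ (le_sup_right : Q₀ ≤ Q' ⊔ Q₀) hyQ₀))
      have h2 := lt_normalizerIn (S := Q' ⊔ Q₀) (hS.to_le hJS) hlt
      obtain ⟨r, hr, hrQ'⟩ := SetLike.exists_of_lt h2
      obtain ⟨R, hR⟩ : ∃ R : Subgroup Ω, R = normalizerIn S Q' ⊓ normalizerIn S Astar :=
        ⟨_, rfl⟩
      have hQ'R : Q' ≤ R := hR ▸ le_inf (le_normalizerIn hQ'S) hQ'N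
      have hrR : r ∈ R := hR ▸ ⟨⟨hJS hr.1, hr.2⟩, hJ hr.1⟩
      have hRS : R ≤ S := hR ▸ (inf_le_left.trans inf_le_left)
      have : Finite R := finite_of_le hRS
      have hltR : Q' < R := lt_of_le_of_ne hQ'R (fun h => hrQ' (h ▸ hrR))
      have hμinv : Mor F Q' (invFn Q (ε ∘ γ)) := by
        have := hμ.inv
        rwa [hμimg] at this
      have hμinvimg : img Q' (invFn Q (ε ∘ γ)) = Q := by
        have := hμ.img_inv
        rwa [hμimg] at this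
      have hAstarQ' : Astar ≤ Q' := by
        intro w hw
        rw [← hμAimg] at hw
        obtain ⟨a, ha, rfl⟩ := (hμ.restrict hAQ).mem_img.mp hw
        rw [← hμimg]
        exact hμ.mem_img_of_mem (hAQ ha)
      have hcA : img Astar (invFn Q (ε ∘ γ)) = A := by
        ext x
        rw [(hμinv.restrict hAstarQ').mem_img]
        constructor
        · rintro ⟨w, hw, rfl⟩
          rw [← hμAimg] at hw
          obtain ⟨a, ha, rfl⟩ := (hμ.restrict hAQ).mem_img.mp hw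
          rw [hμ.invFn_apply (hAQ ha)]
          exact ha
        · intro hx
          refine ⟨(ε ∘ γ) x, ?_, hμ.invFn_apply (hAQ hx)⟩
          rw [← hμAimg]
          exact (hμ.restrict hAQ).mem_img_of_mem hx
      obtain ⟨ω, hω, hωQ, hωA⟩ := exists_ext_stab hS hfa hrec hAQ hAN hμinv hμinvimg hAstarQ'
        hcA hQ'R (hR ▸ inf_le_left) (hR ▸ inf_le_right)
      have hωE : Mor E R ω := hbig _ _ (hQ'card ▸ card_lt_of_lt hltR) hω
      refine ⟨ω, hωE.restrict hQ'R, hωQ, fun a ha => ?_⟩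
      exact hωA _ (hχimg ▸ hχA.mem_img_of_mem ha)
  obtain ⟨ρ', hρ', hρ'Q, hρ'A⟩ := hρ'
  have hρ : Mor E Q (ρ' ∘ ε) := hε.comp hρ' hεQ'
  have hρQ : ∀ x ∈ Q, (ρ' ∘ ε) x ∈ Q := fun x hx => hρ'Q _ (hεQ' x hx)
  have hγ₁ : Mor F Q ((ρ' ∘ ε) ∘ γ) := hγ.comp (hEF _ _ hρ) hγQ
  have hγ₁E := stepD _ hγ₁ (fun x hx => hρQ _ (hγQ x hx)) (by
    intro a ha
    show ρ' (ε (γ a)) ∈ A
    rw [hμA a ha]
    exact hρ'A a ha)
  have hρimg : img Q (ρ' ∘ ε) = Q := hρ.img_eq_self hρQ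
  have hρinv : Mor E Q (invFn Q (ρ' ∘ ε)) := by
    have := hρ.inv
    rwa [hρimg] at this
  have hfin := hγ₁E.comp hρinv (fun x hx => hρQ _ (hγQ x hx))
  exact hfin.congr (fun x hx => hρ.invFn_apply (hγQ x hx))

end Cfsg.Agent.Lib.Helper90
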