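import Cfsg.Agent.Lib.Helper90.BGHCore

set_option autoImplicit false

namespace Cfsg.Agent.Lib.Helper90

open Cfsg Cfsg.FusionSystem

open scoped commutatorElement

variable {Ω : Type*} [Group Ω] {S : Subgroup Ω} {E F : FusionSystem S} {P Q : Subgroup Ω}
  {f g : Ω → Ω}

/-- The "hyperfocal part" of `Q`: generated by the `x⁻¹ α(x)` for `α ∈ Aut_F(Q)` of order prime
to `p` and `x ∈ Q`. -/
def hypSub (F : FusionSystem S) (p : ℕ) (Q : Subgroup Ω) : Subgroup Ω :=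
  Subgroup.closure {y : Ω | ∃ α : MulAut Q, α ∈ F.autGroup Q ∧ Nat.Coprime (orderOf α) p ∧
    ∃ x : Q, y = (x : Ω)⁻¹ * ((α x : Q) : Ω)}

theorem hypSub_le (F : FusionSystem S) (p : ℕ) (Q : Subgroup Ω) : hypSub F p Q ≤ Q := by
  unfold hypSub
  rw [Subgroup.closure_le]
  rintro y ⟨α, -, -, x, rfl⟩
  exact Q.mul_mem (Q.inv_mem x.2) (α x).2

theorem hypSub_le_hyperfocal (F : FusionSystem S) (p : ℕ) (hQ : Q ≤ S) :
    hypSub F p Q ≤ F.hyperfocalSubgroup p := by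
  unfold hypSub FusionSystem.hyperfocalSubgroup
  apply Subgroup.closure_mono
  rintro y ⟨α, hα, hc, x, rfl⟩
  refine ⟨Q, ⟨α, hα⟩, x, hQ, ?_, rfl⟩
  unfold pResidual
  apply Subgroup.subset_closure
  show Nat.Coprime (orderOf (⟨α, hα⟩ : F.autGroup Q)) p
  rw [Subgroup.orderOf_mk]
  exact hc

theorem hypSub_invariant [Finite S] (F : FusionSystem S) (p : ℕ) (hQ : Q ≤ S) (hf : Mor F Q f)
    (hfQ : ∀ x ∈ Q, f x ∈ Q) : ∀ x ∈ hypSub F p Q, f x ∈ hypSub F p Q := by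
  have : Finite Q := finite_of_le hQ
  obtain ⟨γ, hγ, hγf⟩ := exists_aut_of_mor hf hfQ
  have key : ∀ x ∈ hypSub F p Q, x ∈ Q ∧ f x ∈ hypSub F p Q := by
    intro x hx
    unfold hypSub at hx
    induction hx using Subgroup.closure_induction with
    | mem y hy =>
      obtain ⟨α, hα, hc, x, rfl⟩ := hy
      have hxQ : (x : Ω)⁻¹ * ((α x : Q) : Ω) ∈ Q := Q.mul_mem (Q.inv_mem x.2) (α x).2
      refine ⟨hxQ, ?_⟩
      unfold hypSub
      apply Subgroup.subset_closure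
      refine ⟨γ * α * γ⁻¹, (F.autGroup Q).mul_mem ((F.autGroup Q).mul_mem hγ hα)
        ((F.autGroup Q).inv_mem hγ), ?_, γ x, ?_⟩
      · have h1 : orderOf (γ * α * γ⁻¹) = orderOf α := (MulAut.conj γ).orderOf_eq α
        rw [h1]
        exact hc
      · rw [hf.map_mul (Q.inv_mem x.2) (α x).2, hf.map_inv x.2, ← hγf, ← hγf]
        simp
    | one => exact ⟨Q.one_mem, by rw [hf.map_one]; exact Subgroup.one_mem _⟩
    | mul x y _ _ hx hy =>
      exact ⟨Q.mul_mem hx.1 hy.1, by rw [hf.map_mul hx.1 hy.1]; exact Subgroup.mul_mem _ hx.2 hy.2⟩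
    | inv x _ hx =>
      exact ⟨Q.inv_mem hx.1, by rw [hf.map_inv hx.1]; exact Subgroup.inv_mem _ hx.2⟩
  exact fun x hx => (key x hx).2

theorem aut_eq_one_of_fix_hypSub [Finite S] {p : ℕ} [Fact p.Prime] (hS : IsPGroup p S)
    (F : FusionSystem S) (hQ : Q ≤ S) (c : MulAut Q) (hc : c ∈ F.autGroup Q)
    (hcop : Nat.Coprime (orderOf c) p)
    (hfix : ∀ x : Q, (x : Ω) ∈ hypSub F p Q → c x = x) : c = 1 := by
  refine MulEquiv.ext fun x => ?_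
  show c x = x
  have hQp : IsPGroup p Q := hS.to_le hQ
  obtain ⟨k, hk⟩ := hQp (x⁻¹ * c x)
  refine aut_fix_of_fix_comm c hcop x ?_ ?_ hk
  · apply hfix
    unfold hypSub
    apply Subgroup.subset_closure
    exact ⟨c, hc, hcop, x, rfl⟩
  · rw [pow_orderOf_eq_one]
    rfl

/-- A subgroup `D` of `Q` inside the hyperfocal subgroup, invariant under `Aut_F(Q)`, of small
exponent, which detects the automorphisms in `Aut_F(Q)` of order prime to `p`. -/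
theorem exists_crit_sub [Finite S] {p : ℕ} [Fact p.Prime] (hS : IsPGroup p S) (F : FusionSystem S)
    (hQ : Q ≤ S) :
    ∃ D : Subgroup Ω, D ≤ Q ∧ D ≤ F.hyperfocalSubgroup p ∧
      (∀ f : Ω → Ω, Mor F Q f → (∀ x ∈ Q, f x ∈ Q) → ∀ x ∈ D, f x ∈ D) ∧
      (∀ x ∈ D, x ^ p = 1 ∨ (p = 2 ∧ x ^ 4 = 1)) ∧
      ∀ c : MulAut Q, c ∈ F.autGroup Q → Nat.Coprime (orderOf c) p →
        (∀ x : Q, (x : Ω) ∈ D → c x = x) → c = 1 := by
  have : Finite Q := finite_of_le hQ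
  obtain ⟨H, hH⟩ : ∃ H : Subgroup Ω, H = hypSub F p Q := ⟨_, rfl⟩
  have hHQ : H ≤ Q := hH ▸ hypSub_le F p Q
  have hHS : H ≤ S := hHQ.trans hQ
  have : Finite H := finite_of_le hHS
  have hHp : IsPGroup p H := hS.to_le hHS
  have hHinv : ∀ f : Ω → Ω, Mor F Q f → (∀ x ∈ Q, f x ∈ Q) → ∀ x ∈ H, f x ∈ H := by
    intro f hf hfQ x hx
    rw [hH] at hx ⊢
    exact hypSub_invariant F p hQ hf hfQ x hx
  obtain ⟨D₁, hD₁inv, hD₁exp, hD₁faith⟩ := exists_small_crit hHp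
  refine ⟨D₁.map H.subtype, ?_, ?_, ?_, ?_, ?_⟩
  · exact (Subgroup.map_subtype_le D₁).trans hHQ
  · exact (Subgroup.map_subtype_le D₁).trans (hH ▸ hypSub_le_hyperfocal F p hQ)
  · intro f hf hfQ x hx
    obtain ⟨d, hd, rfl⟩ := Subgroup.mem_map.mp hx
    obtain ⟨α, -, hα⟩ := exists_aut_of_mor (hf.restrict hHQ) (hHinv f hf hfQ)
    exact Subgroup.mem_map.mpr ⟨α d, hD₁inv α d hd, hα d⟩
  · intro x hx
    obtain ⟨d, hd, rfl⟩ := Subgroup.mem_map.mp hx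
    rcases hD₁exp d hd with h | ⟨h2, h4⟩
    · left
      have := congrArg Subtype.val h
      simpa using this
    · right
      refine ⟨h2, ?_⟩
      have := congrArg Subtype.val h4
      simpa using this
  · intro c hc hcop hfix
    have hcF : Mor F Q (autFun Q c) := (mem_autGroup_iff F hQ c).mp hc
    have hcQ : ∀ x ∈ Q, autFun Q c x ∈ Q := fun x hx => autFun_mem c hx
    obtain ⟨c', -, hc'⟩ := exists_aut_of_mor (hcF.restrict hHQ) (hHinv _ hcF hcQ)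
    have hc'' : ∀ x : H, ((c' x : H) : Ω) = ((c ⟨x, hHQ x.2⟩ : Q) : Ω) := by
      intro x
      rw [hc', autFun_apply' c (hHQ x.2)]
    have hpow : ∀ (j : ℕ) (x : H), (((c' ^ j) x : H) : Ω) = (((c ^ j) ⟨x, hHQ x.2⟩ : Q) : Ω) := by
      intro j
      induction j with
      | zero => intro x; rfl
      | succ j ih =>
        intro x
        rw [pow_succ, pow_succ, MulAut.mul_apply, MulAut.mul_apply, ih]
        have h1 : (⟨((c' x : H) : Ω), hHQ (c' x).2⟩ : Q) = c ⟨x, hHQ x.2⟩ := Subtype.ext (hc'' x)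
        rw [h1]
    have hc'pow : c' ^ orderOf c = 1 := by
      refine MulEquiv.ext fun x => Subtype.ext ?_
      rw [hpow, pow_orderOf_eq_one]
      rfl
    have hcop' : Nat.Coprime (orderOf c') p :=
      Nat.Coprime.coprime_dvd_left (orderOf_dvd_of_pow_eq_one hc'pow) hcop
    have hfix' : ∀ d ∈ D₁, c' d = d := by
      intro d hd
      apply Subtype.ext
      rw [hc'']
      exact congrArg Subtype.val (hfix ⟨d, hHQ d.2⟩ (Subgroup.mem_map.mpr ⟨d, hd, rfl⟩))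
    have hc'1 : c' = 1 := hD₁faith c' hcop' hfix'
    refine aut_eq_one_of_fix_hypSub hS F hQ c hc hcop (fun x hx => ?_)
    rw [← hH] at hx
    apply Subtype.ext
    have h2 := hc'' ⟨x, hx⟩
    rw [hc'1] at h2
    exact h2.symm

theorem closure_comm_of_comm {s : Set Ω} (hcomm : ∀ x ∈ s, ∀ y ∈ s, x * y = y * x) :
    ∀ x ∈ Subgroup.closure s, ∀ y ∈ Subgroup.closure s, x * y = y * x := by
  have h1 : Subgroup.closure s ≤ Subgroup.centralizer s := by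
    rw [Subgroup.closure_le]
    intro x hx
    exact Subgroup.mem_centralizer_iff.mpr (fun y hy => hcomm y hy x hx)
  have h2 : Subgroup.closure s ≤ Subgroup.centralizer (Subgroup.closure s : Set Ω) := by
    rw [Subgroup.closure_le]
    intro x hx
    exact Subgroup.mem_centralizer_iff.mpr
      (fun y hy => ((Subgroup.mem_centralizer_iff.mp (h1 hy)) x hx).symm)
  intro x hx y hy
  exact ((Subgroup.mem_centralizer_iff.mp (h2 hx)) y hy).symm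

/-- In a finite `p`-group `N`, a normal subgroup `D` contains an abelian subgroup `A` normal in `N`
with `C_D(A) = A`. -/
theorem exists_selfcentralizing {N D : Subgroup Ω} [Finite N] {p : ℕ} [Fact p.Prime]
    (hN : IsPGroup p N) (hDN : D ≤ N) (hinv : ∀ n ∈ N, ∀ x ∈ D, n * x * n⁻¹ ∈ D) :
    ∃ A : Subgroup Ω, A ≤ D ∧ (∀ a ∈ A, ∀ b ∈ A, a * b = b * a) ∧
      (∀ n ∈ N, ∀ a ∈ A, n * a * n⁻¹ ∈ A) ∧ ∀ b ∈ D, (∀ a ∈ A, a * b = b * a) → b ∈ A := by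
  have : Finite D := finite_of_le hDN
  have hfin : {A : Subgroup Ω | A ≤ D ∧ (∀ a ∈ A, ∀ b ∈ A, a * b = b * a) ∧
      ∀ n ∈ N, ∀ a ∈ A, n * a * n⁻¹ ∈ A}.Finite := by
    refine Set.Finite.subset (Set.Finite.image (Subgroup.map D.subtype)
      (Set.toFinite (Set.univ : Set (Subgroup D)))) ?_
    rintro A ⟨hA, -⟩
    exact ⟨A.subgroupOf D, Set.mem_univ _, Subgroup.map_subgroupOf_eq_of_le hA⟩
  obtain ⟨A, hA⟩ := Set.Finite.exists_maximal hfin ⟨⊥, bot_le, fun a ha b hb => by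
      rw [Subgroup.mem_bot] at ha hb; rw [ha, hb], fun n _ a ha => by
      rw [Subgroup.mem_bot] at ha ⊢; rw [ha]; group⟩
  obtain ⟨hAD, hAab, hAinv⟩ := hA.prop
  refine ⟨A, hAD, hAab, hAinv, ?_⟩
  by_contra hcon
  push Not at hcon
  obtain ⟨b₀, hb₀D, hb₀A, hb₀⟩ := hcon
  have hnil : Group.IsNilpotent N := hN.isNilpotent
  obtain ⟨m, hm⟩ := hnil.nilpotent'
  -- the predicate
  obtain ⟨Pr, hPr⟩ : ∃ Pr : ℕ → Prop, Pr = fun i => ∃ b ∈ D, (∀ a ∈ A, a * b = b * a) ∧ b ∉ A ∧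
      ∃ h : b ∈ N, (⟨b, h⟩ : N) ∈ Subgroup.upperCentralSeries N i := ⟨_, rfl⟩
  have hPm : ∃ i, Pr i := by
    refine ⟨m, ?_⟩
    rw [hPr]
    refine ⟨b₀, hb₀D, hb₀A, hb₀, hDN hb₀D, ?_⟩
    rw [hm]
    exact Subgroup.mem_top _
  classical
  obtain ⟨i, hi⟩ : ∃ i, i = Nat.find hPm := ⟨_, rfl⟩
  have hPi : Pr i := hi ▸ Nat.find_spec hPm
  have hmin : ∀ j, j < i → ¬ Pr j := fun j hj => Nat.find_min hPm (hi ▸ hj)
  rw [hPr] at hPi
  obtain ⟨b, hbD, hbA, hbnA, hbN, hbi⟩ := hPi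
  have hi0 : i ≠ 0 := by
    rintro rfl
    rw [Subgroup.upperCentralSeries_zero, Subgroup.mem_bot] at hbi
    have : b = 1 := congrArg Subtype.val hbi
    exact hbnA (this ▸ A.one_mem)
  obtain ⟨j, rfl⟩ := Nat.exists_eq_succ_of_ne_zero hi0
  have hcommA : ∀ n ∈ N, b * n * b⁻¹ * n⁻¹ ∈ A := by
    intro n hn
    by_contra hw
    apply hmin j (Nat.lt_succ_self j)
    rw [hPr]
    have hwD : b * n * b⁻¹ * n⁻¹ ∈ D := by
      have h1 : n * b⁻¹ * n⁻¹ ∈ D := hinv n hn _ (D.inv_mem hbD)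
      have h2 := D.mul_mem hbD h1
      have h3 : b * (n * b⁻¹ * n⁻¹) = b * n * b⁻¹ * n⁻¹ := by group
      rwa [h3] at h2
    refine ⟨_, hwD, ?_, hw, hDN hwD, ?_⟩
    · intro a ha
      have h1 : n⁻¹ * a * n ∈ A := by
        have := hAinv n⁻¹ (N.inv_mem hn) a ha
        rwa [inv_inv] at this
      have h2 : (n⁻¹ * a * n) * b = b * (n⁻¹ * a * n) := hbA _ h1
      have h3 : a * b = b * a := hbA a ha
      have h4 : (n⁻¹ * a * n) * b⁻¹ = b⁻¹ * (n⁻¹ * a * n) := by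
        rw [eq_inv_mul_iff_mul_eq, ← mul_assoc, ← h2, mul_assoc, mul_inv_cancel, mul_one]
      calc a * (b * n * b⁻¹ * n⁻¹) = (a * b) * n * b⁻¹ * n⁻¹ := by group
        _ = (b * a) * n * b⁻¹ * n⁻¹ := by rw [h3]
        _ = b * n * ((n⁻¹ * a * n) * b⁻¹) * n⁻¹ := by group
        _ = b * n * (b⁻¹ * (n⁻¹ * a * n)) * n⁻¹ := by rw [h4]
        _ = b * n * b⁻¹ * n⁻¹ * a := by group
    · have h1 := (Subgroup.mem_upperCentralSeries_succ_iff.mp hbi) ⟨n, hn⟩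
      exact h1
  -- enlarge `A`
  obtain ⟨A', hA'⟩ : ∃ A' : Subgroup Ω, A' = Subgroup.closure ((A : Set Ω) ∪ {b}) := ⟨_, rfl⟩
  have hAA' : A ≤ A' := by
    rw [hA']
    exact fun a ha => Subgroup.subset_closure (Or.inl ha)
  have hbA' : b ∈ A' := by
    rw [hA']
    exact Subgroup.subset_closure (Or.inr rfl)
  have hA'D : A' ≤ D := by
    rw [hA', Subgroup.closure_le]
    rintro x (hx | hx)
    · exact hAD hx
    · rw [Set.mem_singleton_iff.mp hx]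
      exact hbD
  have hA'ab : ∀ x ∈ A', ∀ y ∈ A', x * y = y * x := by
    rw [hA']
    apply closure_comm_of_comm
    rintro x (hx | hx) y (hy | hy)
    · exact hAab x hx y hy
    · rw [Set.mem_singleton_iff.mp hy]
      exact hbA x hx
    · rw [Set.mem_singleton_iff.mp hx]
      exact (hbA y hy).symm
    · rw [Set.mem_singleton_iff.mp hx, Set.mem_singleton_iff.mp hy]
  have hA'inv : ∀ n ∈ N, ∀ x ∈ A', n * x * n⁻¹ ∈ A' := by
    intro n hn x hx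
    rw [hA'] at hx
    induction hx using Subgroup.closure_induction with
    | mem y hy =>
      rcases hy with hy | hy
      · exact hAA' (hAinv n hn y hy)
      · rw [Set.mem_singleton_iff.mp hy]
        have h1 := A.inv_mem (hcommA n hn)
        have h2 := A'.mul_mem (hAA' h1) hbA'
        have h3 : (b * n * b⁻¹ * n⁻¹)⁻¹ * b = n * b * n⁻¹ := by group
        rwa [h3] at h2
    | one =>
      have : n * 1 * n⁻¹ = 1 := by group
      rw [this]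
      exact A'.one_mem
    | mul x y _ _ hx hy =>
      have : n * (x * y) * n⁻¹ = (n * x * n⁻¹) * (n * y * n⁻¹) := by group
      rw [this]
      exact A'.mul_mem hx hy
    | inv x _ hx =>
      have : n * x⁻¹ * n⁻¹ = (n * x * n⁻¹)⁻¹ := by group
      rw [this]
      exact A'.inv_mem hx
  have hle : A' ≤ A := hA.le_of_ge ⟨hA'D, hA'ab, hA'inv⟩ hAA'
  exact hbnA (hle hbA')

/-- If `A ≤ D` with `C_D(A) = A` and an automorphism `c` of `Q ≥ D` of order prime to `p`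
preserves `D` and fixes `A` pointwise, then it fixes `D` pointwise. -/
theorem aut_fix_of_fix_selfcentralizing {Q D A : Subgroup Ω} [Finite D] {p : ℕ} [Fact p.Prime]
    (hQp : IsPGroup p Q) (hDQ : D ≤ Q) (hAD : A ≤ D)
    (hCA : ∀ b ∈ D, (∀ a ∈ A, a * b = b * a) → b ∈ A)
    (c : MulAut Q) (hcop : Nat.Coprime (orderOf c) p)
    (hcD : ∀ x : Q, (x : Ω) ∈ D → ((c x : Q) : Ω) ∈ D)
    (hcA : ∀ x : Q, (x : Ω) ∈ A → c x = x) :
    ∀ x : Q, (x : Ω) ∈ D → c x = x := by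
  let D₀ : Subgroup Ω :=
    { carrier := {x | x ∈ D ∧ ∀ h : x ∈ Q, c ⟨x, h⟩ = ⟨x, h⟩}
      mul_mem' := by
        rintro x y ⟨hx, hx'⟩ ⟨hy, hy'⟩
        refine ⟨D.mul_mem hx hy, fun h => ?_⟩
        have h1 : (⟨x * y, h⟩ : Q) = ⟨x, hDQ hx⟩ * ⟨y, hDQ hy⟩ := rfl
        rw [h1, map_mul, hx', hy']
      one_mem' := by
        refine ⟨D.one_mem, fun h => ?_⟩
        have h1 : (⟨1, h⟩ : Q) = 1 := rfl
        rw [h1, map_one]
      inv_mem' := by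
        rintro x ⟨hx, hx'⟩
        refine ⟨D.inv_mem hx, fun h => ?_⟩
        have h1 : (⟨x⁻¹, h⟩ : Q) = (⟨x, hDQ hx⟩ : Q)⁻¹ := rfl
        rw [h1, map_inv, hx'] }
  have hD₀mem : ∀ x, x ∈ D₀ ↔ x ∈ D ∧ ∀ h : x ∈ Q, c ⟨x, h⟩ = ⟨x, h⟩ := fun x => Iff.rfl
  have hD₀D : D₀ ≤ D := fun x hx => hx.1
  have hAD₀ : A ≤ D₀ := fun a ha => ⟨hAD ha, fun h => hcA ⟨a, h⟩ ha⟩
  have hDp : IsPGroup p D := hQp.to_le hDQ
  by_contra hcon
  push Not at hcon
  obtain ⟨x₀, hx₀D, hx₀⟩ := hcon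
  have hlt : D₀ < D := by
    refine lt_of_le_of_ne hD₀D (fun heq => ?_)
    have : (x₀ : Ω) ∈ D₀ := heq ▸ hx₀D
    exact hx₀ (this.2 x₀.2)
  have hlt2 := lt_normalizerIn hDp hlt
  obtain ⟨n, hn, hnD₀⟩ := SetLike.exists_of_lt hlt2
  have hnD : n ∈ D := hn.1
  have hnQ : n ∈ Q := hDQ hnD
  obtain ⟨nq, hnq⟩ : ∃ nq : Q, nq = ⟨n, hnQ⟩ := ⟨_, rfl⟩
  have hzD : ((nq⁻¹ * c nq : Q) : Ω) ∈ D := by
    have h1 : ((c nq : Q) : Ω) ∈ D := hcD nq (by rw [hnq]; exact hnD)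
    have h2 : ((nq⁻¹ * c nq : Q) : Ω) = n⁻¹ * ((c nq : Q) : Ω) := by rw [hnq]; rfl
    rw [h2]
    exact D.mul_mem (D.inv_mem hnD) h1
  have hzcomm : ∀ d ∈ D₀, d * ((nq⁻¹ * c nq : Q) : Ω) = ((nq⁻¹ * c nq : Q) : Ω) * d := by
    intro d hd
    have hdQ : d ∈ Q := hDQ hd.1
    have h1 : n * d * n⁻¹ ∈ D₀ := conj_mem_of_mem_normalizer hn.2 hd
    have h2 := h1.2 (Q.mul_mem (Q.mul_mem hnQ hdQ) (Q.inv_mem hnQ))
    have h3 : (⟨n * d * n⁻¹, Q.mul_mem (Q.mul_mem hnQ hdQ) (Q.inv_mem hnQ)⟩ : Q)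
        = nq * ⟨d, hdQ⟩ * nq⁻¹ := by rw [hnq]; rfl
    rw [h3, map_mul, map_mul, map_inv, hd.2 hdQ] at h2
    have h4 : (⟨d, hdQ⟩ : Q) * (nq⁻¹ * c nq) = (nq⁻¹ * c nq) * ⟨d, hdQ⟩ := by
      have h5 : c nq * ⟨d, hdQ⟩ = nq * ⟨d, hdQ⟩ * nq⁻¹ * c nq := by
        rw [← h2]; group
      calc (⟨d, hdQ⟩ : Q) * (nq⁻¹ * c nq) = nq⁻¹ * (nq * ⟨d, hdQ⟩ * nq⁻¹ * c nq) := by group
        _ = nq⁻¹ * (c nq * ⟨d, hdQ⟩) := by rw [h5]
        _ = (nq⁻¹ * c nq) * ⟨d, hdQ⟩ := by group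
    exact congrArg Subtype.val h4
  have hzA : ((nq⁻¹ * c nq : Q) : Ω) ∈ A := hCA _ hzD (fun a ha => hzcomm a (hAD₀ ha))
  have hcz : c (nq⁻¹ * c nq) = nq⁻¹ * c nq := hcA _ hzA
  obtain ⟨k, hk⟩ := hQp (nq⁻¹ * c nq)
  have hcn : c nq = nq := aut_fix_of_fix_comm c hcop nq hcz (by rw [pow_orderOf_eq_one]; rfl) hk
  apply hnD₀
  refine ⟨hnD, fun h => ?_⟩
  rw [hnq] at hcn
  exact hcn

/-- If `Q` is fully automized and `A` is a subgroup normalized by `N_S(Q)` such that the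
elements of `Aut_F(Q)` of order prime to `p` fixing `A` pointwise are trivial, then every
`F`-automorphism of `Q` fixing `A` pointwise is induced by conjugation in `S`. -/
theorem exists_conj_of_fix [Finite S] {p : ℕ} [Fact p.Prime] (hS : IsPGroup p S)
    {Q A : Subgroup Ω} (hfa : F.IsFullyAutomized p Q)
    (hAinv : ∀ n ∈ normalizerIn S Q, ∀ a ∈ A, n * a * n⁻¹ ∈ A)
    (htriv : ∀ c : MulAut Q, c ∈ F.autGroup Q → Nat.Coprime (orderOf c) p →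
      (∀ x : Q, (x : Ω) ∈ A → c x = x) → c = 1) :
    ∀ f : Ω → Ω, Mor F Q f → (∀ x ∈ Q, f x ∈ Q) → (∀ a ∈ A, f a = a) →
      ∃ s ∈ S, ∀ x ∈ Q, f x = s * x * s⁻¹ := by
  have hQ : Q ≤ S := hfa.1
  have : Finite Q := finite_of_le hQ
  let K : Subgroup (MulAut Q) :=
    { carrier := {κ | κ ∈ F.autGroup Q ∧ ∀ x : Q, (x : Ω) ∈ A → κ x = x}
      mul_mem' := by
        rintro κ₁ κ₂ ⟨h1, h1'⟩ ⟨h2, h2'⟩
        refine ⟨(F.autGroup Q).mul_mem h1 h2, fun x hx => ?_⟩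
        rw [MulAut.mul_apply, h2' x hx, h1' x hx]
      one_mem' := ⟨(F.autGroup Q).one_mem, fun x _ => rfl⟩
      inv_mem' := by
        rintro κ ⟨h1, h1'⟩
        refine ⟨(F.autGroup Q).inv_mem h1, fun x hx => ?_⟩
        have h2 := MulAut.inv_apply_self _ κ x
        rw [h1' x hx] at h2
        exact h2 }
  have hKmem : ∀ κ, κ ∈ K ↔ κ ∈ F.autGroup Q ∧ ∀ x : Q, (x : Ω) ∈ A → κ x = x := fun κ => Iff.rfl
  have hKp : IsPGroup p K := by
    apply isPGroup_of_coprime_trivial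
    intro g hg
    have h1 : orderOf (g : MulAut Q) = orderOf g := Subgroup.orderOf_coe g
    have h2 := htriv (g : MulAut Q) g.2.1 (h1 ▸ hg) g.2.2
    exact Subtype.ext h2
  obtain ⟨T, hT⟩ : ∃ T : Subgroup (MulAut Q), T = autInducedBy S Q := ⟨_, rfl⟩
  have hTΓ : T ≤ F.autGroup Q := hT ▸ autInducedBy_le_autGroup F hQ
  have hTp : IsPGroup p T := hT ▸ isPGroup_autInducedBy hS Q
  have hclaim : ∀ τ ∈ T, ∀ κ ∈ K, τ * κ * τ⁻¹ ∈ K := by
    intro τ hτ κ hκ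
    refine ⟨(F.autGroup Q).mul_mem ((F.autGroup Q).mul_mem (hTΓ hτ) hκ.1)
      ((F.autGroup Q).inv_mem (hTΓ hτ)), fun x hx => ?_⟩
    rw [hT] at hτ
    obtain ⟨s, hs, hτs⟩ := (mem_autInducedBy_iff S Q τ).mp hτ
    have hsN : s ∈ normalizerIn S Q := by
      refine ⟨hs, mem_normalizer_of_finite (fun y hy => ?_)⟩
      rw [← hτs ⟨y, hy⟩]
      exact (τ ⟨y, hy⟩).2
    have h1 : ((τ⁻¹ x : Q) : Ω) = s⁻¹ * x * s := by
      have h2 := hτs (τ⁻¹ x)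
      rw [MulAut.apply_inv_self _ τ x] at h2
      rw [h2]
      group
    have h3 : ((τ⁻¹ x : Q) : Ω) ∈ A := by
      rw [h1]
      have := hAinv s⁻¹ (Subgroup.inv_mem _ hsN) x hx
      rwa [inv_inv] at this
    rw [MulAut.mul_apply, MulAut.mul_apply, hκ.2 _ h3, MulAut.apply_inv_self]
  have hTK : T ≤ Subgroup.normalizer (K : Set (MulAut Q)) := by
    intro τ hτ
    rw [Subgroup.mem_normalizer_iff]
    intro κ
    refine ⟨hclaim τ hτ κ, fun h => ?_⟩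
    have h1 := hclaim τ⁻¹ (T.inv_mem hτ) _ h
    have h2 : τ⁻¹ * (τ * κ * τ⁻¹) * τ⁻¹⁻¹ = κ := by group
    rwa [h2] at h1
  have hsup : IsPGroup p (T ⊔ K : Subgroup (MulAut Q)) := IsPGroup.to_sup_of_normal_right' hTp hKp hTK
  obtain ⟨-, R, hR⟩ := hfa
  have h1 : IsPGroup p ((T ⊔ K).subgroupOf (F.autGroup Q)) :=
    hsup.comap_of_injective (F.autGroup Q).subtype (Subgroup.subtype_injective _)
  have h2 : (R : Subgroup (F.autGroup Q)) ≤ (T ⊔ K).subgroupOf (F.autGroup Q) := by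
    rw [hR, ← hT]
    intro x hx
    exact Subgroup.mem_subgroupOf.mpr (le_sup_left (a := T) (Subgroup.mem_subgroupOf.mp hx))
  have h3 := R.is_maximal' h1 h2
  have hKT : ∀ κ ∈ K, κ ∈ T := by
    intro κ hκ
    have h4 : (⟨κ, hκ.1⟩ : F.autGroup Q) ∈ (T ⊔ K).subgroupOf (F.autGroup Q) :=
      Subgroup.mem_subgroupOf.mpr (le_sup_right (b := K) hκ)
    rw [h3, hR, ← hT] at h4
    exact Subgroup.mem_subgroupOf.mp h4
  intro f hf hfQ hfA
  obtain ⟨α, hα, hαf⟩ := exists_aut_of_mor hf hfQ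
  have hαK : α ∈ K := ⟨hα, fun x hx => Subtype.ext (by rw [hαf]; exact hfA x hx)⟩
  have hαT := hKT α hαK
  rw [hT] at hαT
  obtain ⟨s, hs, hαs⟩ := (mem_autInducedBy_iff S Q α).mp hαT
  exact ⟨s, hs, fun x hx => by rw [← hαf ⟨x, hx⟩, hαs ⟨x, hx⟩]⟩

/-- The automorphism step of the Benson–Grodal–Henke theorem. -/
theorem bgh_aut [Finite S] {p : ℕ} [Fact p.Prime] (hS : IsPGroup p S) {Q : Subgroup Ω}
    (hE : E.IsSaturated p) (hEF : ∀ (P : Subgroup Ω) (f : Ω → Ω), Mor E P f → Mor F P f)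
    (hsmall : ∀ A B : Subgroup Ω, A ≤ F.hyperfocalSubgroup p → B ≤ F.hyperfocalSubgroup p →
      (∀ a ∈ A, ∀ b ∈ A, a * b = b * a) → (∀ a ∈ B, ∀ b ∈ B, a * b = b * a) →
      (∀ x ∈ A, x ^ p = 1 ∨ (p = 2 ∧ x ^ 4 = 1)) → (∀ x ∈ B, x ^ p = 1 ∨ (p = 2 ∧ x ^ 4 = 1)) →
      ∀ f : Ω → Ω, Mor F A f → (∀ x ∈ A, f x ∈ B) → Mor E A f)
    (hfa : F.IsFullyAutomized p Q) (hrec : F.IsReceptive Q)
    (hbig : ∀ (P₂ : Subgroup Ω) (f : Ω → Ω), Nat.card Q < Nat.card P₂ → Mor F P₂ f → Mor E P₂ f) :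
    ∀ γ : Ω → Ω, Mor F Q γ → (∀ x ∈ Q, γ x ∈ Q) → Mor E Q γ := by
  have hQ : Q ≤ S := hfa.1
  have : Finite Q := finite_of_le hQ
  obtain ⟨D, hDQ, hDhyp, hDinv, hDexp, hDfaith⟩ := exists_crit_sub hS F hQ
  obtain ⟨N, hN⟩ : ∃ N : Subgroup Ω, N = normalizerIn S Q := ⟨_, rfl⟩
  have hNS : N ≤ S := hN ▸ inf_le_left
  have : Finite N := finite_of_le hNS
  have hQN : Q ≤ N := hN ▸ le_normalizerIn hQ
  have hDNinv : ∀ n ∈ N, ∀ x ∈ D, n * x * n⁻¹ ∈ D := by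
    intro n hn x hx
    rw [hN] at hn
    exact hDinv _ (mor_conj F hQ hn.1) (fun y hy => conj_mem_of_mem_normalizer hn.2 hy) x hx
  obtain ⟨A, hAD, hAab, hAinv, hAC⟩ :=
    exists_selfcentralizing (hS.to_le hNS) (hDQ.trans hQN) hDNinv
  have hAQ : A ≤ Q := hAD.trans hDQ
  have : Finite D := finite_of_le (hDQ.trans hQ)
  have : Finite A := finite_of_le (hAQ.trans hQ)
  have htriv : ∀ c : MulAut Q, c ∈ F.autGroup Q → Nat.Coprime (orderOf c) p →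
      (∀ x : Q, (x : Ω) ∈ A → c x = x) → c = 1 := by
    intro c hc hcop hcA
    apply hDfaith c hc hcop
    refine aut_fix_of_fix_selfcentralizing (hS.to_le hQ) hDQ hAD hAC c hcop ?_ hcA
    intro x hx
    have := hDinv _ ((mem_autGroup_iff F hQ c).mp hc) (fun y hy => autFun_mem c hy) x hx
    rwa [autFun_apply] at this
  have hAinv' : ∀ n ∈ normalizerIn S Q, ∀ a ∈ A, n * a * n⁻¹ ∈ A :=
    fun n hn => hAinv n (hN ▸ hn)
  refine bgh_core hS hE hEF hfa hrec hbig hAQ ?_ ?_ ?_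
  · intro n hn
    exact ⟨hn.1, mem_normalizer_of_finite (fun a ha => hAinv' n hn a ha)⟩
  · exact exists_conj_of_fix hS hfa hAinv' htriv
  · intro f hf hfQ
    have hfA : Mor F A f := hf.restrict hAQ
    refine hsmall A (img A f) (hAD.trans hDhyp) ?_ hAab ?_ (fun x hx => hDexp x (hAD hx)) ?_ f hfA
      (fun x hx => hfA.mem_img_of_mem hx)
    · intro y hy
      obtain ⟨x, hx, rfl⟩ := hfA.mem_img.mp hy
      exact hDhyp (hDinv f hf hfQ x (hAD hx))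
    · intro a ha b hb
      obtain ⟨x, hx, rfl⟩ := hfA.mem_img.mp ha
      obtain ⟨y, hy, rfl⟩ := hfA.mem_img.mp hb
      rw [← hfA.map_mul hx hy, ← hfA.map_mul hy hx, hAab x hx y hy]
    · intro y hy
      obtain ⟨x, hx, rfl⟩ := hfA.mem_img.mp hy
      exact hDexp _ (hDinv f hf hfQ x (hAD hx))

/-- **Benson–Grodal–Henke**: a saturated subsystem `E` of a saturated fusion system `F` over the
same finite `p`-group that contains every `F`-map between abelian subgroups of small exponent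
of the hyperfocal subgroup of `F` is all of `F`. -/
theorem bgh_main [Finite S] {p : ℕ} [Fact p.Prime] (hS : IsPGroup p S)
    (hE : E.IsSaturated p) (hF : F.IsSaturated p)
    (hEF : ∀ (P : Subgroup Ω) (f : Ω → Ω), Mor E P f → Mor F P f)
    (hsmall : ∀ A B : Subgroup Ω, A ≤ F.hyperfocalSubgroup p → B ≤ F.hyperfocalSubgroup p →
      (∀ a ∈ A, ∀ b ∈ A, a * b = b * a) → (∀ a ∈ B, ∀ b ∈ B, a * b = b * a) →
      (∀ x ∈ A, x ^ p = 1 ∨ (p = 2 ∧ x ^ 4 = 1)) → (∀ x ∈ B, x ^ p = 1 ∨ (p = 2 ∧ x ^ 4 = 1)) →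
      ∀ f : Ω → Ω, Mor F A f → (∀ x ∈ A, f x ∈ B) → Mor E A f) :
    ∀ (P : Subgroup Ω) (f : Ω → Ω), Mor F P f → Mor E P f := by
  refine alperin_induction_card hS hF (fun P f => Mor E P f) ?_ ?_ ?_ ?_ ?_
  · intro P f g hf hfg
    exact hf.congr hfg
  · intro P P₀ f _ hf h0
    exact hf.restrict h0
  · intro P Q f g _ _ hPQ hf hg
    exact hf.comp hg hPQ
  · intro P f _ hf
    exact hf.inv
  · intro P hfa hrec hbig f hf hfP
    exact bgh_aut hS hE hEF hsmall hfa hrec hbig f hf hfP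

theorem hyperfocalSubgroup_le (F : FusionSystem S) (p : ℕ) : F.hyperfocalSubgroup p ≤ S := by
  unfold FusionSystem.hyperfocalSubgroup
  rw [Subgroup.closure_le]
  rintro y ⟨P, α, x, hP, -, rfl⟩
  exact S.mul_mem (S.inv_mem (hP x.2)) (hP ((α : MulAut P) x).2)

/-- The Benson–Grodal–Henke theorem in the form of the statements. -/
theorem bgh_hyperfocal [Finite S] (p : ℕ) [Fact p.Prime] (hS : IsPGroup p S)
    (E F : FusionSystem S) (hE : E.IsSaturated p) (hF : F.IsSaturated p)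
    (hEF : E.IsSubsystemOf F)
    (hodd : p ≠ 2 → ∀ A B : Subgroup Ω, A ≤ (F.hyperfocalSubgroup p) →
      B ≤ (F.hyperfocalSubgroup p) →
      Cfsg.IsElementaryAbelian p A → Cfsg.IsElementaryAbelian p B → E.homSet A B = F.homSet A B)
    (htwo : p = 2 → ∀ A B : Subgroup Ω, A ≤ (F.hyperfocalSubgroup p) →
      B ≤ (F.hyperfocalSubgroup p) →
      IsMulCommutative ↥A → IsMulCommutative ↥B → (∀ a ∈ A, a ^ 4 = 1) → (∀ b ∈ B, b ^ 4 = 1) →
      E.homSet A B = F.homSet A B) :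
    ∀ P : Subgroup Ω, E.Hom P = F.Hom P := by
  have hEF' : ∀ (P : Subgroup Ω) (f : Ω → Ω), Mor E P f → Mor F P f := by
    rintro P f ⟨φ, hφ, hf⟩
    exact ⟨φ, hEF P hφ, hf⟩
  have hcomm : ∀ C : Subgroup Ω, (∀ a ∈ C, ∀ b ∈ C, a * b = b * a) → IsMulCommutative C :=
    fun C h => ⟨⟨fun a b => Subtype.ext (h a a.2 b b.2)⟩⟩
  have hsmall : ∀ A B : Subgroup Ω, A ≤ F.hyperfocalSubgroup p → B ≤ F.hyperfocalSubgroup p →
      (∀ a ∈ A, ∀ b ∈ A, a * b = b * a) → (∀ a ∈ B, ∀ b ∈ B, a * b = b * a) →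
      (∀ x ∈ A, x ^ p = 1 ∨ (p = 2 ∧ x ^ 4 = 1)) → (∀ x ∈ B, x ^ p = 1 ∨ (p = 2 ∧ x ^ 4 = 1)) →
      ∀ f : Ω → Ω, Mor F A f → (∀ x ∈ A, f x ∈ B) → Mor E A f := by
    intro A B hA hB hAab hBab hAexp hBexp f hf hfB
    obtain ⟨φ, hφ, hφf⟩ := hf
    have hmem : φ ∈ F.homSet A B := ⟨hφ, fun x => by rw [hφf]; exact hfB x x.2⟩
    by_cases h2 : p = 2
    · have h4 : ∀ C : Subgroup Ω, (∀ x ∈ C, x ^ p = 1 ∨ (p = 2 ∧ x ^ 4 = 1)) →
          ∀ x ∈ C, x ^ 4 = 1 := by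
        intro C hC x hx
        rcases hC x hx with h | ⟨-, h⟩
        · rw [h2] at h
          rw [show 4 = 2 * 2 from rfl, pow_mul, h, one_pow]
        · exact h
      have h5 := htwo h2 A B hA hB (hcomm A hAab) (hcomm B hBab) (h4 A hAexp) (h4 B hBexp)
      rw [← h5] at hmem
      exact ⟨φ, hmem.1, hφf⟩
    · have hp : ∀ C : Subgroup Ω, (∀ x ∈ C, x ^ p = 1 ∨ (p = 2 ∧ x ^ 4 = 1)) →
          ∀ x ∈ C, x ^ p = 1 := by
        intro C hC x hx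
        rcases hC x hx with h | ⟨h, -⟩
        · exact h
        · exact absurd h h2
      have h5 := hodd h2 A B hA hB ⟨hcomm A hAab, hp A hAexp⟩ ⟨hcomm B hBab, hp B hBexp⟩
      rw [← h5] at hmem
      exact ⟨φ, hmem.1, hφf⟩
  have key := bgh_main hS hE hF hEF' hsmall
  intro P
  apply Set.Subset.antisymm (hEF P)
  intro φ hφ
  exact (key P _ (mor_of_hom hφ)).hom φ (fun x => (extFun_apply P φ x).symm)

end Cfsg.Agent.Lib.Helper90
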