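import Mathlib

/-!
# Piece XA for the exceptional isogenies: the twist endomorphism

A simple matrix group generated by block triangular matrices whose two diagonal blocks are
intertwined on the generators has an endomorphism inducing the intertwining.
-/

set_option autoImplicit false
set_option linter.unusedSectionVars false

namespace Cfsg.Agent.Lib.Helper90.ChevIsoP

section

variable {n : Type*} [Fintype n] [DecidableEq n] {K : Type*} [Field K]

/-- block-triangularity predicate -/
def BT (S : n → Prop) (M : Matrix n n K) : Prop := ∀ i j, S j → ¬ S i → M i j = 0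

theorem BT_one (S : n → Prop) : BT S (1 : Matrix n n K) := by
  intro i j hj hi
  apply Matrix.one_apply_ne
  rintro rfl
  exact hi hj

theorem BT_mul (S : n → Prop) {M N : Matrix n n K} (hM : BT S M) (hN : BT S N) :
    BT S (M * N) := by
  intro i j hj hi
  rw [Matrix.mul_apply]
  apply Finset.sum_eq_zero
  intro k _
  by_cases hk : S k
  · rw [hM i k hk hi, zero_mul]
  · rw [hN k j hj hk, mul_zero]

theorem psi1_mul (S : n → Prop) [DecidablePred S] {M N : Matrix n n K} (hN : BT S N)
    (a b : {i // S i}) :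
    (M * N) a b = ∑ k : {i // S i}, M a k * N k b := by
  rw [Matrix.mul_apply, ← Fintype.sum_subtype_add_sum_subtype S (fun k => M a k * N k b)]
  have : ∑ k : {i // ¬ S i}, M a k * N k b = 0 := by
    apply Finset.sum_eq_zero
    intro k _
    rw [hN k b b.2 k.2, mul_zero]
  rw [this, add_zero]

theorem psi2_mul (S : n → Prop) [DecidablePred S] {M N : Matrix n n K} (hM : BT S M)
    (a b : {i // ¬ S i}) :
    (M * N) a b = ∑ k : {i // ¬ S i}, M a k * N k b := by
  rw [Matrix.mul_apply, ← Fintype.sum_subtype_add_sum_subtype S (fun k => M a k * N k b)]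
  have : ∑ k : {i // S i}, M a k * N k b = 0 := by
    apply Finset.sum_eq_zero
    intro k _
    rw [hM a k k.2 a.2, zero_mul]
  rw [this, zero_add]

end

theorem exists_twist {n : Type*} [Fintype n] [DecidableEq n] {K : Type*} [Field K]
    (G : Subgroup (GL n K)) {ι : Type*} (gen : ι → GL n K)
    (hG : G = Subgroup.closure (Set.range gen)) (hinv : ∀ a, ∃ b, gen b = (gen a)⁻¹)
    (S : n → Prop) [DecidablePred S]
    (hblock : ∀ a i j, S j → ¬ S i → (gen a : Matrix n n K) i j = 0)
    (e : {i // ¬ S i} ≃ {i // S i}) (τ₀ : ι → ι)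
    (htw : ∀ a (i j : {i // ¬ S i}),
      (gen (τ₀ a) : Matrix n n K) (e i) (e j) = (gen a : Matrix n n K) i j)
    (hsimple : IsSimpleGroup ↥G)
    (hnt : ∃ g ∈ G, ∃ i j : {i // S i}, (g : Matrix n n K) i j ≠ (1 : Matrix n n K) i j) :
    ∃ τ : ↥G →* ↥G, ∀ a (ha : gen a ∈ G) (ha' : gen (τ₀ a) ∈ G),
      τ ⟨gen a, ha⟩ = ⟨gen (τ₀ a), ha'⟩ := by
  classical
  -- every element is block triangular
  have hBT : ∀ g ∈ G, BT S (g : Matrix n n K) ∧ BT S ((g⁻¹ : GL n K) : Matrix n n K) := by
    intro g hg
    rw [hG] at hg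
    induction hg using Subgroup.closure_induction with
    | mem x hx =>
      obtain ⟨a, rfl⟩ := hx
      refine ⟨hblock a, ?_⟩
      obtain ⟨b, hb⟩ := hinv a
      rw [← hb]
      exact hblock b
    | one =>
      refine ⟨?_, ?_⟩
      · rw [Units.val_one]; exact BT_one S
      · rw [inv_one, Units.val_one]; exact BT_one S
    | mul x y hx hy ihx ihy =>
      refine ⟨?_, ?_⟩
      · rw [Units.val_mul]; exact BT_mul S ihx.1 ihy.1
      · rw [mul_inv_rev, Units.val_mul]; exact BT_mul S ihy.2 ihx.2
    | inv x hx ih =>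
      refine ⟨ih.2, ?_⟩
      rw [inv_inv]; exact ih.1
  have hBT' : ∀ g : G, BT S ((g : GL n K) : Matrix n n K) := fun g => (hBT g.1 g.2).1
  -- the two block homomorphisms
  let f1 : G →* Matrix {i // S i} {i // S i} K :=
    { toFun := fun g => Matrix.of fun a b => ((g : GL n K) : Matrix n n K) a b
      map_one' := by
        ext a b
        show ((1 : GL n K) : Matrix n n K) a b = (1 : Matrix _ _ K) a b
        rw [Units.val_one, Matrix.one_apply, Matrix.one_apply]
        simp only [Subtype.ext_iff]
      map_mul' := by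
        intro g h
        ext a b
        show (((g : GL n K) * (h : GL n K) : GL n K) : Matrix n n K) a b = _
        rw [Units.val_mul, psi1_mul S (hBT' h), Matrix.mul_apply]
        rfl }
  let f2 : G →* Matrix {i // S i} {i // S i} K :=
    { toFun := fun g => Matrix.of fun a b =>
        ((g : GL n K) : Matrix n n K) (e.symm a) (e.symm b)
      map_one' := by
        ext a b
        show ((1 : GL n K) : Matrix n n K) (e.symm a) (e.symm b) = (1 : Matrix _ _ K) a b
        rw [Units.val_one, Matrix.one_apply, Matrix.one_apply]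
        simp only [← Subtype.ext_iff, EmbeddingLike.apply_eq_iff_eq]
      map_mul' := by
        intro g h
        ext a b
        show (((g : GL n K) * (h : GL n K) : GL n K) : Matrix n n K) (e.symm a) (e.symm b) = _
        rw [Units.val_mul, psi2_mul S (hBT' g), Matrix.mul_apply]
        refine Fintype.sum_equiv e _ _ (fun k => ?_)
        show _ = ((g : GL n K) : Matrix n n K) (e.symm a) (e.symm (e k)) *
          ((h : GL n K) : Matrix n n K) (e.symm (e k)) (e.symm b)
        rw [e.symm_apply_apply] }
  have hf1 : ∀ (g : G) (a b : {i // S i}), f1 g a b = ((g : GL n K) : Matrix n n K) a b :=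
    fun _ _ _ => rfl
  have hf2 : ∀ (g : G) (a b : {i // S i}),
      f2 g a b = ((g : GL n K) : Matrix n n K) (e.symm a) (e.symm b) := fun _ _ _ => rfl
  -- f1 is injective
  have hker : f1.ker = ⊥ := by
    rcases (f1.normal_ker).eq_bot_or_eq_top with h | h
    · exact h
    · exfalso
      obtain ⟨g, hg, i, j, hij⟩ := hnt
      have h1 : (⟨g, hg⟩ : G) ∈ f1.ker := by rw [h]; exact Subgroup.mem_top _
      rw [MonoidHom.mem_ker] at h1
      have h2 := congrFun (congrFun h1 i) j
      rw [hf1] at h2
      apply hij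
      show (g : Matrix n n K) i j = _
      rw [h2, Matrix.one_apply, Matrix.one_apply]
      simp only [Subtype.ext_iff]
  have hinj : Function.Injective f1 := by
    intro g h hgh
    have h1 : g⁻¹ * h ∈ f1.ker := by
      rw [MonoidHom.mem_ker, map_mul, ← hgh, ← map_mul, inv_mul_cancel, map_one]
    rw [hker, Subgroup.mem_bot] at h1
    exact (inv_mul_eq_one.mp h1)
  -- the graph subgroup
  let Γ : Subgroup (G × G) :=
    MonoidHom.eqLocus (f1.comp (MonoidHom.snd G G)) (f2.comp (MonoidHom.fst G G))
  have hΓ : ∀ p : G × G, p ∈ Γ ↔ f1 p.2 = f2 p.1 := fun p => Iff.rfl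
  let D : Subgroup G := Γ.map (MonoidHom.fst G G)
  have hgenD : ∀ a (ha : gen a ∈ G), (⟨gen a, ha⟩ : G) ∈ D := by
    intro a ha
    have ha' : gen (τ₀ a) ∈ G := by
      rw [hG]; exact Subgroup.subset_closure ⟨_, rfl⟩
    refine ⟨(⟨gen a, ha⟩, ⟨gen (τ₀ a), ha'⟩), ?_, rfl⟩
    show f1 _ = f2 _
    ext i j
    rw [hf1, hf2]
    show (gen (τ₀ a) : Matrix n n K) i j = (gen a : Matrix n n K) (e.symm i) (e.symm j)
    rw [← htw a (e.symm i) (e.symm j), e.apply_symm_apply, e.apply_symm_apply]
  have hD : ∀ (g : GL n K) (hg : g ∈ G), (⟨g, hg⟩ : G) ∈ D := by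
    intro g hg
    have hg' : g ∈ Subgroup.closure (Set.range gen) := hG ▸ hg
    have key : ∀ (x : GL n K) (hx : x ∈ Subgroup.closure (Set.range gen)),
        ∀ hx' : x ∈ G, (⟨x, hx'⟩ : G) ∈ D := by
      intro x hx
      induction hx using Subgroup.closure_induction with
      | mem x hx =>
        obtain ⟨a, rfl⟩ := hx
        intro hx'
        exact hgenD a hx'
      | one =>
        intro hx'
        exact D.one_mem
      | mul x y hx hy ihx ihy =>
        intro hxy
        have hx' : x ∈ G := hG ▸ hx
        have hy' : y ∈ G := hG ▸ hy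
        exact D.mul_mem (ihx hx') (ihy hy')
      | inv x hx ih =>
        intro hxi
        have hx' : x ∈ G := hG ▸ hx
        exact D.inv_mem (ih hx')
    exact key g hg' hg
  have hex : ∀ g : G, ∃ g' : G, f1 g' = f2 g := by
    intro g
    obtain ⟨p, hp, hpg⟩ := hD g.1 g.2
    refine ⟨p.2, ?_⟩
    have : p.1 = g := hpg
    rw [← this]
    exact (hΓ p).mp hp
  choose t ht using hex
  refine ⟨MonoidHom.mk' t ?_, ?_⟩
  · intro g h
    apply hinj
    rw [ht, map_mul, map_mul, ht, ht]
  · intro a ha ha'
    apply hinj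
    show f1 (t _) = _
    rw [ht]
    ext i j
    rw [hf1, hf2]
    show (gen a : Matrix n n K) (e.symm i) (e.symm j) = (gen (τ₀ a) : Matrix n n K) i j
    rw [← htw a (e.symm i) (e.symm j), e.apply_symm_apply, e.apply_symm_apply]

end Cfsg.Agent.Lib.Helper90.ChevIsoP
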