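import Cfsg.Agent.Lib.Helper90.MaxClass
import Cfsg.Agent.Lib.Helper87.Fusion4
import Cfsg.Agent.S5246

set_option autoImplicit false

namespace Cfsg.Agent.Lib.Helper90

open Cfsg Cfsg.FusionSystem

variable {Ω : Type*} [Group Ω] {S : Subgroup Ω} {F : FusionSystem S} {R : Subgroup Ω}

/-- Conjugation by the elements of `S` on a subgroup `R` normalized by `S`. -/
noncomputable def conjAut (S R : Subgroup Ω) (h : S ≤ Subgroup.normalizer (R : Set Ω)) :
    ↥S →* MulAut ↥R :=
  (Cfsg.Agent.S5246.normAut R).comp (Subgroup.inclusion h)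

theorem conjAut_apply (h : S ≤ Subgroup.normalizer (R : Set Ω)) (s : S) (x : R) :
    ((conjAut S R h s x : R) : Ω) = s * x * (s : Ω)⁻¹ := rfl

theorem conjAut_mem (F : FusionSystem S) (hRS : R ≤ S) (h : S ≤ Subgroup.normalizer (R : Set Ω))
    (s : S) : conjAut S R h s ∈ F.autGroup R :=
  autInducedBy_le_autGroup F hRS
    ((mem_autInducedBy_iff S R _).mpr ⟨s, s.2, fun x => conjAut_apply h s x⟩)

/-- The map `S → Out_F(R)` for a subgroup `R` normalized by `S`. -/
noncomputable def outHom (F : FusionSystem S) (hRS : R ≤ S)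
    (h : S ≤ Subgroup.normalizer (R : Set Ω)) :
    ↥S →* (F.autGroup R ⧸ (Inn R).subgroupOf (F.autGroup R)) :=
  (QuotientGroup.mk' _).comp ((conjAut S R h).codRestrict (F.autGroup R) (conjAut_mem F hRS h))

theorem outHom_apply (F : FusionSystem S) (hRS : R ≤ S)
    (h : S ≤ Subgroup.normalizer (R : Set Ω)) (s : S) :
    outHom F hRS h s = QuotientGroup.mk ⟨conjAut S R h s, conjAut_mem F hRS h s⟩ := rfl

theorem subgroupOf_le_ker_outHom (F : FusionSystem S) (hRS : R ≤ S)
    (h : S ≤ Subgroup.normalizer (R : Set Ω)) : R.subgroupOf S ≤ (outHom F hRS h).ker := by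
  intro s hs
  rw [MonoidHom.mem_ker, outHom_apply, QuotientGroup.eq_one_iff, Subgroup.mem_subgroupOf]
  show conjAut S R h s ∈ Inn R
  rw [mem_Inn_iff]
  exact ⟨s, Subgroup.mem_subgroupOf.mp hs, fun x => conjAut_apply h s x⟩

theorem card_range_outHom_dvd (F : FusionSystem S) (hRS : R ≤ S)
    (h : S ≤ Subgroup.normalizer (R : Set Ω)) :
    Nat.card (outHom F hRS h).range ∣ R.relIndex S := by
  rw [← Subgroup.index_ker]
  exact Subgroup.index_dvd_of_le (subgroupOf_le_ker_outHom F hRS h)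

theorem exists_sylow_outHom [Finite S] {p : ℕ} [Fact p.Prime] (F : FusionSystem S) (hRS : R ≤ S)
    (h : S ≤ Subgroup.normalizer (R : Set Ω)) (hfa : F.IsFullyAutomized p R) :
    ∃ P : Sylow p (F.autGroup R ⧸ (Inn R).subgroupOf (F.autGroup R)),
      (P : Subgroup (F.autGroup R ⧸ (Inn R).subgroupOf (F.autGroup R))) = (outHom F hRS h).range := by
  obtain ⟨-, T, hT⟩ := hfa
  have : Finite R := finite_of_le hRS
  refine ⟨T.mapSurjective (QuotientGroup.mk'_surjective _), ?_⟩
  rw [Sylow.coe_mapSurjective, hT]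
  ext q
  constructor
  · rintro ⟨α, hα, rfl⟩
    obtain ⟨a, ha, hax⟩ := (mem_autInducedBy_iff S R _).mp (Subgroup.mem_subgroupOf.mp hα)
    refine ⟨⟨a, ha⟩, ?_⟩
    rw [outHom_apply]
    show QuotientGroup.mk _ = QuotientGroup.mk α
    congr 1
    apply Subtype.ext
    ext x
    rw [conjAut_apply, hax]
  · rintro ⟨s, rfl⟩
    exact ⟨⟨conjAut S R h s, conjAut_mem F hRS h s⟩, Subgroup.mem_subgroupOf.mpr
      ((mem_autInducedBy_iff S R _).mpr ⟨s, s.2, fun x => conjAut_apply h s x⟩), rfl⟩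

theorem exists_extend_of_normal_outHom (hrec : F.IsReceptive R)
    (h : S ≤ Subgroup.normalizer (R : Set Ω)) (hN : (outHom F hrec.1 h).range.Normal)
    (α : MulAut R) (hα : α ∈ F.autGroup R) :
    ∃ σ, Mor F S σ ∧ ∀ x ∈ R, σ x = autFun R α x := by
  have hRS := hrec.1
  have hmor : Mor F R (autFun R α) := (mem_autGroup_iff F hRS α).mp hα
  refine receptive_extend hrec hmor (img_autFun α) S hRS ?_
  intro a ha
  refine ⟨ha, h ha, ?_⟩
  have h1 := hN.conj_mem _ ⟨⟨a, ha⟩, rfl⟩ (QuotientGroup.mk ⟨α, hα⟩)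
  obtain ⟨s', hs'⟩ := h1
  rw [outHom_apply, outHom_apply] at hs'
  have h2 : (QuotientGroup.mk ⟨conjAut S R h s', conjAut_mem F hRS h s'⟩ :
      F.autGroup R ⧸ (Inn R).subgroupOf (F.autGroup R)) =
      QuotientGroup.mk (⟨α, hα⟩ * ⟨conjAut S R h ⟨a, ha⟩, conjAut_mem F hRS h ⟨a, ha⟩⟩ *
        ⟨α, hα⟩⁻¹) := by
    rw [hs']
    rfl
  rw [QuotientGroup.eq, Subgroup.mem_subgroupOf] at h2
  obtain ⟨β, hβ⟩ : ∃ β : MulAut R, β =
      (conjAut S R h s')⁻¹ * (α * conjAut S R h ⟨a, ha⟩ * α⁻¹) := ⟨_, rfl⟩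
  have h3 : β ∈ Inn R := by
    rw [hβ]
    exact h2
  obtain ⟨r, hr, hrx⟩ := (mem_Inn_iff _).mp h3
  refine ⟨s' * r, S.mul_mem s'.2 (hRS hr), ?_⟩
  intro x hx
  have key : α (conjAut S R h ⟨a, ha⟩ ⟨x, hx⟩) = conjAut S R h s' (β (α ⟨x, hx⟩)) := by
    rw [hβ]
    simp
  have hax : a * x * a⁻¹ ∈ R := conj_mem_of_mem_normalizer (h ha) hx
  rw [autFun_apply' α hax, autFun_apply' α hx]
  have e1 : (⟨a * x * a⁻¹, hax⟩ : R) = conjAut S R h ⟨a, ha⟩ ⟨x, hx⟩ := Subtype.ext rfl
  rw [e1, key, conjAut_apply, hrx]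
  group

/-- A subgroup `R` normal in `S`, containing its centralizer, of index dividing `p`, some
automorphism of which in the system does not extend to `S`, is essential. -/
theorem essential_of_not_extend [Finite S] (p : ℕ) [Fact p.Prime] (hS : IsPGroup p S)
    (F : FusionSystem S) (hF : F.IsSaturated p) {R : Subgroup Ω} (hRS : R ≤ S)
    (hnorm : S ≤ Subgroup.normalizer (R : Set Ω)) (hcent : centralizerIn S R ≤ R)
    (hidx : R.relIndex S ∣ p)
    (hne : ∃ α ∈ F.autGroup R, ¬ ∃ σ, Mor F S σ ∧ ∀ x ∈ R, σ x = autFun R α x) :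
    F.IsEssential p R := by
  have hfn : F.IsFullyNormalized R := by
    refine ⟨hRS, fun Q _ => ?_⟩
    have h1 : normalizerIn S R = S := le_antisymm inf_le_left (le_inf le_rfl hnorm)
    rw [h1]
    exact Subgroup.card_le_of_le inf_le_left
  obtain ⟨-, hfa, hrec⟩ := Cfsg.Agent.Lib.Helper87.saturated_fullyNormalized p hS F hF hfn
  have : Finite R := finite_of_le hRS
  refine ⟨centric_of_rec hrec hcent, hfn, inferInstance, ?_⟩
  obtain ⟨P, hP⟩ := exists_sylow_outHom F hRS hnorm hfa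
  have hnn : ¬ (outHom F hRS hnorm).range.Normal := by
    intro hN
    obtain ⟨α, hα, hno⟩ := hne
    exact hno (exists_extend_of_normal_outHom hrec hnorm hN α hα)
  have hcard : Nat.card (outHom F hRS hnorm).range ∣ p :=
    (card_range_outHom_dvd F hRS hnorm).trans hidx
  have hp : p.Prime := Fact.out
  refine ⟨Subgroup.normalizer ((outHom F hRS hnorm).range : Set _), ?_, ?_, P, ?_⟩
  · have hne1 : Nat.card (outHom F hRS hnorm).range ≠ 1 := by
      intro h1
      apply hnn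
      have : (outHom F hRS hnorm).range = ⊥ := Subgroup.card_eq_one.mp h1
      rw [this]
      infer_instance
    have h2 : Nat.card (outHom F hRS hnorm).range = p :=
      ((Nat.dvd_prime hp).mp hcard).resolve_left hne1
    rw [← h2]
    exact Subgroup.card_subgroup_dvd_card _
  · intro htop
    exact hnn (Subgroup.normalizer_eq_top_iff.mp htop)
  · apply Cfsg.Agent.Lib.Helper87.kGeneratedCore_le
    intro Q hQ hQne
    rw [hP] at hQ
    have hQeq : Q = (outHom F hRS hnorm).range := by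
      apply Subgroup.eq_of_le_of_card_ge hQ
      have h1 : Nat.card Q ∣ Nat.card (outHom F hRS hnorm).range := Subgroup.card_dvd_of_le hQ
      have h2 : Nat.card Q ≠ 1 := fun h => hQne (Subgroup.card_eq_one.mp h)
      have h4 : Nat.card Q = p := ((Nat.dvd_prime hp).mp (h1.trans hcard)).resolve_left h2
      rw [h4]
      exact Nat.le_of_dvd hp.pos hcard
    rw [hQeq]

end Cfsg.Agent.Lib.Helper90
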