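import Cfsg.Agent.Lib.Helper90.PStable
import Cfsg.Agent.Lib.Helper87.Fusion3
import Cfsg.Agent.Lib.Helper56.StrEmb

set_option autoImplicit false

namespace Cfsg.Agent.Lib.Helper90

open Cfsg Cfsg.FusionSystem

section AbsTwist

variable {X : Type*} [Group X]

/-- In a finite group with a strongly `p`-embedded subgroup, for every Sylow `p`-subgroup `T`
there is an element `g` such that no `p`-subgroup contains a nontrivial element of `T` together
with the `g`-conjugate of a nontrivial element of `T`. -/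
theorem exists_twist_of_stronglyPEmbedded [Finite X] {p : ℕ} [hp : Fact p.Prime] {M : Subgroup X}
    (hM : IsStronglyPEmbedded p M) (T : Sylow p X) :
    ∃ g : X, ∀ u ∈ (T : Subgroup X), ∀ v ∈ (T : Subgroup X), u ≠ 1 → v ≠ 1 →
      ∀ D : Subgroup X, IsPGroup p D → u ∈ D → g * v * g⁻¹ ∈ D → False := by
  obtain ⟨P, hPM, -, -⟩ := Cfsg.Agent.Lib.Helper56.se_sylow M hM
  obtain ⟨x, hx⟩ := MulAction.exists_smul_eq X P T
  obtain ⟨g0, hg0⟩ : ∃ g0 : X, g0 ∉ M := by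
    by_contra hcon
    push Not at hcon
    exact hM.2.1 (eq_top_iff.mpr (fun y _ => hcon y))
  refine ⟨x * g0 * x⁻¹, ?_⟩
  intro u hu v hv hu1 hv1 D hD huD hvD
  rw [← hx, Cfsg.Agent.Lib.Helper56.mem_smul_sylow] at hu hv
  obtain ⟨D', hD'def⟩ : ∃ D' : Subgroup X, D' = D.map (MulAut.conj x⁻¹).toMonoidHom := ⟨_, rfl⟩
  have hD'p : IsPGroup p D' := by
    rw [hD'def]
    exact hD.map _
  have hu' : x⁻¹ * u * x ∈ D' := by
    rw [hD'def]
    refine ⟨u, huD, ?_⟩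
    show MulAut.conj x⁻¹ u = _
    rw [MulAut.conj_apply, inv_inv]
  have hv' : g0 * (x⁻¹ * v * x) * g0⁻¹ ∈ D' := by
    rw [hD'def]
    refine ⟨_, hvD, ?_⟩
    show MulAut.conj x⁻¹ (x * g0 * x⁻¹ * v * (x * g0 * x⁻¹)⁻¹) = _
    rw [MulAut.conj_apply, inv_inv]
    group
  have hne : D' ⊓ M ≠ ⊥ := by
    intro h
    have h1 : x⁻¹ * u * x ∈ D' ⊓ M := ⟨hu', hPM hu⟩
    rw [h, Subgroup.mem_bot] at h1
    apply hu1
    have h2 : u = x * (x⁻¹ * u * x) * x⁻¹ := by group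
    rw [h2, h1]
    group
  have hD'M : D' ≤ M := Cfsg.Agent.Lib.Helper56.se_pgroup_le M hM D' hD'p hne
  obtain ⟨w, hw⟩ : ∃ w : X, w = x⁻¹ * v * x := ⟨_, rfl⟩
  rw [← hw] at hv hv'
  have hw1 : w ≠ 1 := by
    intro h
    apply hv1
    have h2 : v = x * w * x⁻¹ := by rw [hw]; group
    rw [h2, h]
    group
  obtain ⟨j, hj⟩ := (IsPGroup.iff_orderOf.mp P.isPGroup') ⟨w, hv⟩
  rw [Subgroup.orderOf_mk] at hj
  have hj0 : j ≠ 0 := by
    rintro rfl
    rw [pow_zero, orderOf_eq_one_iff] at hj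
    exact hw1 hj
  have hord : orderOf (w ^ (p ^ (j - 1))) = p := by
    rw [orderOf_pow_of_dvd (pow_ne_zero _ hp.out.ne_zero) (by rw [hj]; exact pow_dvd_pow p (by omega)),
      hj]
    have h3 : p ^ j = p ^ (j - 1) * p := by
      rw [← pow_succ]
      congr 1
      omega
    rw [h3, Nat.mul_div_cancel_left _ (pow_pos hp.out.pos _)]
  have hwM : w ^ (p ^ (j - 1)) ∈ M := M.pow_mem (hPM hv) _
  have hconj : g0 * w ^ (p ^ (j - 1)) * g0⁻¹ ∈ M := by
    rw [← conj_pow]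
    exact M.pow_mem (hD'M hv') _
  exact hg0 (Cfsg.Agent.Lib.Helper56.se_fusion M hM _ hwM hord g0 hconj)

end AbsTwist

section StabChain

variable {H : Type*} [Group H]

/-- Automorphisms centralizing `R` and acting trivially modulo `R`. -/
def stabChain (R : Subgroup H) : Subgroup (MulAut H) where
  carrier := {α | (∀ r ∈ R, α r = r) ∧ ∀ y, y⁻¹ * α y ∈ R}
  one_mem' := ⟨fun _ _ => rfl, fun y => by
    rw [MulAut.one_apply, inv_mul_cancel]
    exact R.one_mem⟩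
  mul_mem' := by
    rintro a b ⟨ha1, ha2⟩ ⟨hb1, hb2⟩
    refine ⟨fun r hr => ?_, fun y => ?_⟩
    · rw [MulAut.mul_apply, hb1 r hr, ha1 r hr]
    · have h1 : b y = y * (y⁻¹ * b y) := by rw [mul_inv_cancel_left]
      rw [MulAut.mul_apply, h1, map_mul, ha1 _ (hb2 y), ← mul_assoc]
      exact R.mul_mem (ha2 y) (hb2 y)
  inv_mem' := by
    rintro a ⟨ha1, ha2⟩
    have hfix : ∀ r ∈ R, a⁻¹ r = r := by
      intro r hr
      have h1 : a⁻¹ (a r) = r := by simp
      rw [ha1 r hr] at h1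
      exact h1
    refine ⟨hfix, fun y => ?_⟩
    have h1 : a (a⁻¹ y) = y := by simp
    have h2 := ha2 (a⁻¹ y)
    rw [h1] at h2
    have h3 : y⁻¹ * a⁻¹ y = ((a⁻¹ y)⁻¹ * y)⁻¹ := by group
    rw [h3]
    exact R.inv_mem h2

theorem mem_stabChain {R : Subgroup H} {α : MulAut H} :
    α ∈ stabChain R ↔ (∀ r ∈ R, α r = r) ∧ ∀ y, y⁻¹ * α y ∈ R := Iff.rfl

theorem isPGroup_stabChain [Finite H] {p : ℕ} [Fact p.Prime] (hH : IsPGroup p H)
    (R : Subgroup H) : IsPGroup p (stabChain R) := by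
  obtain ⟨n, hn⟩ := IsPGroup.iff_card.mp (hH.to_subgroup R)
  rintro ⟨α, hα1, hα2⟩
  refine ⟨n, Subtype.ext ?_⟩
  show α ^ (p ^ n) = 1
  have key : ∀ (k : ℕ) (y : H), (α ^ k) y = y * (y⁻¹ * α y) ^ k := by
    intro k
    induction k with
    | zero => intro y; simp
    | succ k ih =>
      intro y
      rw [pow_succ, MulAut.mul_apply]
      have h1 : α y = y * (y⁻¹ * α y) := by rw [mul_inv_cancel_left]
      have h2 : ∀ m : ℕ, (α ^ m) (y⁻¹ * α y) = y⁻¹ * α y := by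
        intro m
        induction m with
        | zero => simp
        | succ m ihm => rw [pow_succ, MulAut.mul_apply, hα1 _ (hα2 y), ihm]
      rw [h1, map_mul, ih y, h2 k, ← h1, mul_assoc, ← pow_succ]
  ext y
  rw [key, MulAut.one_apply]
  have h1 : (y⁻¹ * α y) ^ (p ^ n) = 1 := by
    have h2 := pow_card_eq_one' (G := R) (x := ⟨y⁻¹ * α y, hα2 y⟩)
    rw [hn] at h2
    exact congrArg Subtype.val h2
  rw [h1, mul_one]

theorem stabChain_conj (g : MulAut H) {R R' : Subgroup H} (h1 : ∀ r ∈ R', g⁻¹ r ∈ R)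
    (h2 : ∀ r ∈ R, g r ∈ R') {b : MulAut H} (hb : b ∈ stabChain R) :
    g * b * g⁻¹ ∈ stabChain R' := by
  obtain ⟨hb1, hb2⟩ := hb
  refine ⟨fun r hr => ?_, fun y => ?_⟩
  · rw [MulAut.mul_apply, MulAut.mul_apply, hb1 _ (h1 r hr)]
    simp
  · have h3 := h2 _ (hb2 (g⁻¹ y))
    rw [map_mul, map_inv] at h3
    have h4 : g (g⁻¹ y) = y := by simp
    rw [h4] at h3
    exact h3

end StabChain

section PrimeIndex

variable {H : Type*} [Group H] {p : ℕ} [hp : Fact p.Prime]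

theorem exists_pow_mul_mem_of_index_prime (K : Subgroup H) [K.Normal] (hK : K.index = p)
    {u : H} (hu : u ∉ K) (v : H) : ∃ k : ℕ, v * (u ^ k)⁻¹ ∈ K := by
  have hcard : Nat.card (H ⧸ K) = p := by rw [← Subgroup.index_eq_card]; exact hK
  have hfin : Finite (H ⧸ K) := Nat.finite_of_card_ne_zero (by rw [hcard]; exact hp.out.ne_zero)
  have hne : (QuotientGroup.mk u : H ⧸ K) ≠ 1 := by
    intro h
    exact hu ((QuotientGroup.eq_one_iff u).mp h)
  have htop := zpowers_eq_top_of_prime_card hcard hne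
  have hv : (QuotientGroup.mk v : H ⧸ K) ∈ Subgroup.zpowers (QuotientGroup.mk u : H ⧸ K) := by
    rw [htop]
    exact Subgroup.mem_top _
  rw [← mem_powers_iff_mem_zpowers] at hv
  obtain ⟨k, hk⟩ := hv
  refine ⟨k, ?_⟩
  rw [← QuotientGroup.eq_one_iff, QuotientGroup.mk_mul, QuotientGroup.mk_inv, QuotientGroup.mk_pow]
  show (QuotientGroup.mk v : H ⧸ K) * ((QuotientGroup.mk u : H ⧸ K) ^ k)⁻¹ = 1
  rw [show (QuotientGroup.mk u : H ⧸ K) ^ k = QuotientGroup.mk v from hk, mul_inv_cancel]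

omit hp in
theorem pow_mem_of_index_prime (K : Subgroup H) [K.Normal] (hK : K.index = p) (u : H) :
    u ^ p ∈ K := by
  have hcard : Nat.card (H ⧸ K) = p := by rw [← Subgroup.index_eq_card]; exact hK
  rw [← QuotientGroup.eq_one_iff, QuotientGroup.mk_pow]
  have h1 := pow_card_eq_one' (G := H ⧸ K) (x := (QuotientGroup.mk u : H ⧸ K))
  rw [hcard] at h1
  exact h1

theorem comm_mem_of_index_prime (K : Subgroup H) [K.Normal] (hK : K.index = p) (y y' : H) :
    y * y' * y⁻¹ * y'⁻¹ ∈ K := by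
  have hcard : Nat.card (H ⧸ K) = p := by rw [← Subgroup.index_eq_card]; exact hK
  have hcyc : IsCyclic (H ⧸ K) := isCyclic_of_prime_card hcard
  rw [← QuotientGroup.eq_one_iff, QuotientGroup.mk_mul, QuotientGroup.mk_mul, QuotientGroup.mk_mul,
    QuotientGroup.mk_inv, QuotientGroup.mk_inv]
  have hc : ∀ a b : H ⧸ K, a * b = b * a := fun a b => by
    let _ := IsCyclic.commGroup (α := H ⧸ K)
    exact mul_comm a b
  rw [hc (QuotientGroup.mk y) (QuotientGroup.mk y'), mul_inv_cancel_right, mul_inv_cancel]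

theorem index_eq_prime_of_gen (K : Subgroup H) [K.Normal] {u : H} (hu : u ∉ K)
    (hup : u ^ p ∈ K) (hgen : ∀ v : H, ∃ k : ℕ, v * (u ^ k)⁻¹ ∈ K) : K.index = p := by
  have hne : (QuotientGroup.mk u : H ⧸ K) ≠ 1 := by
    intro h
    exact hu ((QuotientGroup.eq_one_iff u).mp h)
  have hpow : (QuotientGroup.mk u : H ⧸ K) ^ p = 1 := by
    rw [← QuotientGroup.mk_pow]
    exact (QuotientGroup.eq_one_iff _).mpr hup
  have hord : orderOf (QuotientGroup.mk u : H ⧸ K) = p := orderOf_eq_prime hpow hne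
  have htop : Subgroup.zpowers (QuotientGroup.mk u : H ⧸ K) = ⊤ := by
    rw [eq_top_iff]
    intro q _
    induction q using QuotientGroup.induction_on with
    | H v =>
      obtain ⟨k, hk⟩ := hgen v
      have h1 : (QuotientGroup.mk v : H ⧸ K) = (QuotientGroup.mk u : H ⧸ K) ^ k := by
        have h2 := (QuotientGroup.eq_one_iff _).mpr hk
        rw [QuotientGroup.mk_mul, QuotientGroup.mk_inv, QuotientGroup.mk_pow] at h2
        exact mul_inv_eq_one.mp h2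
      rw [h1]
      exact Subgroup.pow_mem _ (Subgroup.mem_zpowers _) k
  rw [Subgroup.index_eq_card, ← Subgroup.card_top (G := H ⧸ K), ← htop, Nat.card_zpowers, hord]

end PrimeIndex

section TwistTransvection

variable {H : Type*} [Group H]

/-- The transvection lemma: `K` normal of index `p` in the finite `p`-group `H`, `x ∉ K`, and a
set `𝔅` of automorphisms centralizing `K`, no two of which outside `I` are such that the first and
the `g`-conjugate of the second lie in a common `p`-group. Then for `h = g` or `h = g⁻¹` the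
elements `x⁻¹ b(x)`, `b ∈ 𝔅` outside `I`, avoid `h(K)`. -/
theorem twist_transvection [Finite H] {p : ℕ} [Fact p.Prime] (hH : IsPGroup p H)
    (K : Subgroup H) [K.Normal] (hK : K.index = p) (x : H) (hx : x ∉ K) (g : MulAut H)
    (𝔅 I : Set (MulAut H))
    (hcent : ∀ b ∈ 𝔅, ∀ u ∈ K, b u = u) (hκ : ∀ b ∈ 𝔅, x⁻¹ * b x ∈ K)
    (htw : ∀ b ∈ 𝔅, ∀ b' ∈ 𝔅, b ∉ I → b' ∉ I → ∀ D : Subgroup (MulAut H), IsPGroup p D →
      b ∈ D → g * b' * g⁻¹ ∈ D → False) :
    ∃ h : MulAut H, (h = g ∨ h = g⁻¹) ∧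
      ∀ b ∈ 𝔅, b ∉ I → x⁻¹ * b x ∉ K.map h.toMonoidHom := by
  have claimA : ∀ (R : Subgroup H), R.Normal → R ≤ K → ∀ b ∈ 𝔅, x⁻¹ * b x ∈ R →
      b ∈ stabChain R := by
    intro R hRn hRK b hb hbR
    refine ⟨fun r hr => hcent b hb r (hRK hr), fun y => ?_⟩
    obtain ⟨k, hk⟩ := exists_pow_mul_mem_of_index_prime K hK hx y
    have hy : y = (y * (x ^ k)⁻¹) * x ^ k := by group
    have hpow : ∀ m : ℕ, (x ^ m)⁻¹ * (b x) ^ m ∈ R := by
      intro m
      induction m with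
      | zero => simp
      | succ m ih =>
        have h1 : (x ^ (m + 1))⁻¹ * (b x) ^ (m + 1) =
            (x⁻¹ * ((x ^ m)⁻¹ * (b x) ^ m) * x⁻¹⁻¹) * (x⁻¹ * b x) := by
          rw [pow_succ, pow_succ]
          group
        rw [h1]
        exact R.mul_mem (hRn.conj_mem _ ih _) hbR
    have h2 : y⁻¹ * b y = (x ^ k)⁻¹ * (b x) ^ k := by
      conv_lhs => rw [hy]
      rw [map_mul, hcent b hb _ hk, map_pow]
      group
    rw [h2]
    exact hpow k
  have hKg : ∀ h : MulAut H, (K.map h.toMonoidHom).Normal := fun h =>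
    Subgroup.Normal.map inferInstance _ h.surjective
  by_cases hall : ∀ b ∈ 𝔅, b ∉ I → x⁻¹ * b x ∉ K.map g.toMonoidHom
  · exact ⟨g, Or.inl rfl, hall⟩
  · push Not at hall
    obtain ⟨b0, hb0, hb0I, hb0K⟩ := hall
    refine ⟨g⁻¹, Or.inr rfl, fun b' hb' hb'I hb'K => ?_⟩
    have hn1 : (K ⊓ K.map g.toMonoidHom).Normal := by
      have := hKg g
      infer_instance
    have hn2 : (K ⊓ K.map (g⁻¹).toMonoidHom).Normal := by
      have := hKg g⁻¹
      infer_instance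
    have m1 : b0 ∈ stabChain (K ⊓ K.map g.toMonoidHom) :=
      claimA _ hn1 inf_le_left b0 hb0 ⟨hκ b0 hb0, hb0K⟩
    have m2 : b' ∈ stabChain (K ⊓ K.map (g⁻¹).toMonoidHom) :=
      claimA _ hn2 inf_le_left b' hb' ⟨hκ b' hb', hb'K⟩
    have m3 : g * b' * g⁻¹ ∈ stabChain (K ⊓ K.map g.toMonoidHom) := by
      refine stabChain_conj g ?_ ?_ m2
      · rintro r ⟨hr1, k, hk, rfl⟩
        refine ⟨?_, ⟨g k, hr1, rfl⟩⟩
        show g⁻¹ (g k) ∈ K
        have h4 : g⁻¹ (g k) = k := by simp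
        rw [h4]
        exact hk
      · rintro r ⟨hr1, k, hk, rfl⟩
        refine ⟨?_, ⟨_, hr1, rfl⟩⟩
        show g (g⁻¹ k) ∈ K
        have h4 : g (g⁻¹ k) = k := by simp
        rw [h4]
        exact hk
    exact htw b0 hb0 b' hb' hb0I hb'I _ (isPGroup_stabChain hH _) m1 m3

end TwistTransvection

section FusTwist

variable {Ω : Type*} [Group Ω] {S : Subgroup Ω}

/-- For an essential subgroup `P` of a saturated fusion system there is `g ∈ Aut_F(P)` such that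
no `p`-subgroup of `Aut(P)` contains a non-inner element of `Aut_S(P)` together with the
`g`-conjugate of a non-inner element of `Aut_S(P)`; and `Aut_S(P)` has non-inner elements. -/
theorem essential_exists_twist [Finite S] (p : ℕ) [Fact p.Prime] (hS : IsPGroup p S)
    (F : FusionSystem S) (hF : F.IsSaturated p) {P : Subgroup Ω} (hP : F.IsEssential p P) :
    ∃ g ∈ F.autGroup P, (∃ b ∈ autInducedBy S P, b ∉ Inn P) ∧
      ∀ b ∈ autInducedBy S P, ∀ b' ∈ autInducedBy S P, b ∉ Inn P → b' ∉ Inn P →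
        ∀ D : Subgroup (MulAut P), IsPGroup p D → b ∈ D → g * b' * g⁻¹ ∈ D → False := by
  obtain ⟨hPc, hPn, hN, E, hE⟩ := hP
  have hPS : P ≤ S := hPc.1
  have hfin : Finite P := finite_of_le hPS
  obtain ⟨-, ⟨-, R, hR⟩, -⟩ := Cfsg.Agent.Lib.Helper87.saturated_fullyNormalized p hS F hF hPn
  have hsurj : Function.Surjective
      (QuotientGroup.mk' ((Inn P).subgroupOf (F.autGroup P))) := QuotientGroup.mk'_surjective _
  obtain ⟨g', hg'⟩ := exists_twist_of_stronglyPEmbedded hE (R.mapSurjective hsurj)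
  obtain ⟨g, rfl⟩ := hsurj g'
  have hmemT : ∀ b : F.autGroup P, (b : MulAut P) ∈ autInducedBy S P →
      QuotientGroup.mk' ((Inn P).subgroupOf (F.autGroup P)) b ∈
        ((R.mapSurjective hsurj : Sylow p _) : Subgroup _) := by
    intro b hb
    rw [Sylow.coe_mapSurjective]
    refine ⟨b, ?_, rfl⟩
    show b ∈ (R : Subgroup (F.autGroup P))
    rw [hR, Subgroup.mem_subgroupOf]
    exact hb
  have hne1 : ∀ b : F.autGroup P, (b : MulAut P) ∉ Inn P →
      QuotientGroup.mk' ((Inn P).subgroupOf (F.autGroup P)) b ≠ 1 := by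
    intro b hb h
    apply hb
    have h1 := (QuotientGroup.eq_one_iff b).mp h
    rwa [Subgroup.mem_subgroupOf] at h1
  refine ⟨g.1, g.2, ?_, ?_⟩
  · have hne := (R.mapSurjective hsurj).ne_bot_of_dvd_card hE.1
    obtain ⟨⟨t, ht⟩, ht1⟩ := (Subgroup.ne_bot_iff_exists_ne_one).mp hne
    rw [Sylow.coe_mapSurjective] at ht
    obtain ⟨b, hb, rfl⟩ := ht
    have hb' : b ∈ (R : Subgroup (F.autGroup P)) := hb
    rw [hR, Subgroup.mem_subgroupOf] at hb'
    refine ⟨b.1, hb', fun hI => ?_⟩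
    apply ht1
    apply Subtype.ext
    show QuotientGroup.mk' ((Inn P).subgroupOf (F.autGroup P)) b = 1
    rw [QuotientGroup.mk'_apply, QuotientGroup.eq_one_iff, Subgroup.mem_subgroupOf]
    exact hI
  · intro b hb b' hb' hbI hb'I D hD hbD hgD
    have hbA : b ∈ F.autGroup P := autInducedBy_le_autGroup F hPS hb
    have hb'A : b' ∈ F.autGroup P := autInducedBy_le_autGroup F hPS hb'
    refine hg' _ (hmemT ⟨b, hbA⟩ hb) _ (hmemT ⟨b', hb'A⟩ hb') (hne1 ⟨b, hbA⟩ hbI)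
      (hne1 ⟨b', hb'A⟩ hb'I)
      ((D.subgroupOf (F.autGroup P)).map (QuotientGroup.mk' ((Inn P).subgroupOf (F.autGroup P))))
      ((hD.comap_of_injective _ (Subgroup.subtype_injective _)).map _) ?_ ?_
    · exact ⟨⟨b, hbA⟩, Subgroup.mem_subgroupOf.mpr hbD, rfl⟩
    · refine ⟨g * ⟨b', hb'A⟩ * g⁻¹, Subgroup.mem_subgroupOf.mpr hgD, ?_⟩
      rw [map_mul, map_mul, map_inv]

/-- The transvection lemma for essential subgroups: `P0` normal of index `p` in the essential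
subgroup `P`, `x ∈ P` outside `P0`, and a set `N` of elements of `N_S(P)` centralizing `P0` with
`[x, a] ∈ P0`. Then some `h ∈ Aut_F(P)` has `x⁻¹ a x a⁻¹ ∉ h(P0)` for all `a ∈ N` outside `P`. -/
theorem essential_transvection [Finite S] (p : ℕ) [Fact p.Prime] (hS : IsPGroup p S)
    (F : FusionSystem S) (hF : F.IsSaturated p) {P : Subgroup Ω} (hP : F.IsEssential p P)
    (P0 : Subgroup Ω) (hP0n : (P0.subgroupOf P).Normal) (hidx : (P0.subgroupOf P).index = p)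
    (x : Ω) (hxP : x ∈ P) (hx0 : x ∉ P0) (N : Set Ω) (hNS : ∀ a ∈ N, a ∈ S)
    (hNn : ∀ a ∈ N, a ∈ Subgroup.normalizer (P : Set Ω))
    (hNc : ∀ a ∈ N, ∀ u ∈ P0, u ∈ P → a * u * a⁻¹ = u)
    (hNx : ∀ a ∈ N, x⁻¹ * (a * x * a⁻¹) ∈ P0) :
    ∃ h ∈ F.autGroup P, ∀ a ∈ N, a ∉ P →
      x⁻¹ * (a * x * a⁻¹) ∉ ((P0.subgroupOf P).map h.toMonoidHom).map P.subtype := by
  have hPS : P ≤ S := hP.1.1
  have hcen : centralizerIn S P ≤ P := hP.1.2 P (isConj_refl F hPS)
  have hfin : Finite P := finite_of_le hPS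
  obtain ⟨g, hgA, -, htw⟩ := essential_exists_twist p hS F hF hP
  obtain ⟨𝔅, h𝔅⟩ : ∃ 𝔅 : Set (MulAut P),
      𝔅 = {b | ∃ a ∈ N, ∀ y : P, ((b y : P) : Ω) = a * y * a⁻¹} := ⟨_, rfl⟩
  have h𝔅S : ∀ b ∈ 𝔅, b ∈ autInducedBy S P := by
    intro b hb
    rw [h𝔅] at hb
    obtain ⟨a, ha, hba⟩ := hb
    exact (mem_autInducedBy_iff S P b).mpr ⟨a, hNS a ha, hba⟩
  have hxK : (⟨x, hxP⟩ : P) ∉ P0.subgroupOf P := by
    rw [Subgroup.mem_subgroupOf]
    exact hx0
  obtain ⟨h, hh, hmain⟩ := twist_transvection (hS.to_le hPS) (P0.subgroupOf P) hidx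
    (⟨x, hxP⟩ : P) hxK g 𝔅 (Inn P : Set (MulAut P))
    (by
      intro b hb u hu
      rw [h𝔅] at hb
      obtain ⟨a, ha, hba⟩ := hb
      apply Subtype.ext
      rw [hba]
      exact hNc a ha u (Subgroup.mem_subgroupOf.mp hu) u.2)
    (by
      intro b hb
      rw [h𝔅] at hb
      obtain ⟨a, ha, hba⟩ := hb
      rw [Subgroup.mem_subgroupOf]
      show x⁻¹ * ((b ⟨x, hxP⟩ : P) : Ω) ∈ P0
      rw [hba]
      exact hNx a ha)
    (fun b hb b' hb' hbI hb'I D hD hbD hgD =>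
      htw b (h𝔅S b hb) b' (h𝔅S b' hb') hbI hb'I D hD hbD hgD)
  have hhA : h ∈ F.autGroup P := by
    rcases hh with rfl | rfl
    · exact hgA
    · exact (F.autGroup P).inv_mem hgA
  refine ⟨h, hhA, fun a ha haP hmem => ?_⟩
  have haN := hNn a ha
  have hconj : ∀ y ∈ P, a * y * a⁻¹ ∈ P := fun y hy =>
    (Subgroup.mem_normalizer_iff.mp haN y).mp hy
  obtain ⟨b, -, hb⟩ := exists_aut_of_mor (mor_conj F hPS (hNS a ha)) hconj
  have hb𝔅 : b ∈ 𝔅 := by
    rw [h𝔅]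
    exact ⟨a, ha, hb⟩
  have hbI : b ∉ Inn P := by
    intro hI
    obtain ⟨c, hc, hbc⟩ := (mem_Inn_iff b).mp hI
    apply haP
    have h1 : c⁻¹ * a ∈ centralizerIn S P := by
      refine Subgroup.mem_inf.mpr ⟨S.mul_mem (S.inv_mem (hPS hc)) (hNS a ha), ?_⟩
      rw [Subgroup.mem_centralizer_iff]
      intro y hy
      have h2 := hbc ⟨y, hy⟩
      rw [hb] at h2
      have h3 : y * (c⁻¹ * a) = c⁻¹ * (c * y * c⁻¹) * a := by group
      rw [h3, ← h2]
      group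
    have h4 := P.mul_mem hc (hcen h1)
    rwa [mul_inv_cancel_left] at h4
  apply hmain b hb𝔅 hbI
  obtain ⟨w, hw, hwx⟩ := hmem
  have h5 : w = (⟨x, hxP⟩ : P)⁻¹ * b ⟨x, hxP⟩ := by
    apply Subtype.ext
    rw [Subgroup.coe_mul, Subgroup.coe_inv, hb]
    exact hwx
  rw [← h5]
  exact hw

/-- An essential subgroup is properly contained in its normalizer in `S`. -/
theorem essential_exists_normalizer [Finite S] (p : ℕ) [Fact p.Prime] (hS : IsPGroup p S)
    (F : FusionSystem S) (hF : F.IsSaturated p) {P : Subgroup Ω} (hP : F.IsEssential p P) :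
    ∃ s ∈ S, s ∈ Subgroup.normalizer (P : Set Ω) ∧ s ∉ P := by
  obtain ⟨g, -, ⟨b, hb, hbI⟩, -⟩ := essential_exists_twist p hS F hF hP
  obtain ⟨s, hs, hbs⟩ := (mem_autInducedBy_iff S P b).mp hb
  refine ⟨s, hs, ?_, fun hsP => hbI ((mem_Inn_iff b).mpr ⟨s, hsP, hbs⟩)⟩
  apply Cfsg.Agent.Lib.Helper87.mem_normalizer_of_conj_mem
  · intro y hy
    rw [← hbs ⟨y, hy⟩]
    exact (b ⟨y, hy⟩).2
  · intro y hy
    have h1 := hbs (b⁻¹ ⟨y, hy⟩)
    have h2 : b (b⁻¹ ⟨y, hy⟩) = ⟨y, hy⟩ := by simp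
    rw [h2] at h1
    have h1' : y = s * ((b⁻¹ ⟨y, hy⟩ : P) : Ω) * s⁻¹ := h1
    have h3 : s⁻¹ * y * s = ((b⁻¹ ⟨y, hy⟩ : P) : Ω) := by
      conv_lhs => rw [h1']
      group
    rw [h3]
    exact (b⁻¹ ⟨y, hy⟩).2

end FusTwist

end Cfsg.Agent.Lib.Helper90
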