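import Cfsg.Agent.Lib.Helper90.EssTwist
import Cfsg.Agent.Lib.Helper87.Fusion9

set_option autoImplicit false

namespace Cfsg.Agent.Lib.Helper90

open Cfsg Cfsg.FusionSystem

section ExtraEss

variable {Ω : Type*} [Group Ω]

/-- What we use of an extraspecial subgroup `Q`: commutators are central and the centre has
order `p`. -/
structure ExtraData (p : ℕ) (Q : Subgroup Ω) : Prop where
  comm_mem : ∀ a ∈ Q, ∀ b ∈ Q, a * b * a⁻¹ * b⁻¹ ∈ Q ⊓ Subgroup.centralizer (Q : Set Ω)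
  card : Nat.card ↥(Q ⊓ Subgroup.centralizer (Q : Set Ω)) = p

theorem mem_center_subtype_iff {Q : Subgroup Ω} (w : ↥Q) :
    w ∈ Subgroup.center ↥Q ↔ (w : Ω) ∈ Q ⊓ Subgroup.centralizer (Q : Set Ω) := by
  rw [Subgroup.mem_center_iff, Subgroup.mem_inf, Subgroup.mem_centralizer_iff]
  constructor
  · intro h
    refine ⟨w.2, fun g hg => ?_⟩
    exact congrArg Subtype.val (h ⟨g, hg⟩)
  · rintro ⟨-, h⟩ g
    exact Subtype.ext (h g g.2)

theorem extraData_of_extraspecial {p : ℕ} {Q : Subgroup Ω} (hQ : Cfsg.IsExtraspecial p ↥Q) :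
    ExtraData p Q := by
  obtain ⟨⟨-, -, hcomm⟩, hcard⟩ := hQ
  constructor
  · intro a ha b hb
    have h1 : (⟨a, ha⟩ : ↥Q) * ⟨b, hb⟩ * (⟨a, ha⟩ : ↥Q)⁻¹ * (⟨b, hb⟩ : ↥Q)⁻¹ ∈ commutator ↥Q :=
      Subgroup.commutator_mem_commutator (g₁ := (⟨a, ha⟩ : ↥Q)) (g₂ := (⟨b, hb⟩ : ↥Q))
        (Subgroup.mem_top _) (Subgroup.mem_top _)
    rw [hcomm, mem_center_subtype_iff] at h1
    exact h1
  · rw [← hcard]
    apply Nat.card_congr
    exact
      { toFun := fun w => ⟨⟨w.1, (Subgroup.mem_inf.mp w.2).1⟩, (mem_center_subtype_iff _).mpr w.2⟩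
        invFun := fun w => ⟨w.1.1, (mem_center_subtype_iff w.1).mp w.2⟩
        left_inv := fun _ => rfl
        right_inv := fun _ => rfl }

/-- For `v ∈ Q` the commutator map `q ↦ q v q⁻¹ v⁻¹` is a homomorphism into a central subgroup
containing the commutators. -/
theorem commHom_exists {Q Z : Subgroup Ω} (hcm : ∀ a ∈ Q, ∀ b ∈ Q, a * b * a⁻¹ * b⁻¹ ∈ Z)
    (hZc : ∀ z ∈ Z, ∀ q ∈ Q, q * z = z * q) {v : Ω} (hv : v ∈ Q) :
    ∃ χ : ↥Q →* ↥Z, ∀ q : ↥Q, ((χ q : ↥Z) : Ω) = q * v * (q : Ω)⁻¹ * v⁻¹ := by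
  refine ⟨MonoidHom.mk' (fun q => ⟨q * v * (q : Ω)⁻¹ * v⁻¹, hcm q q.2 v hv⟩) ?_, fun q => rfl⟩
  intro a b
  apply Subtype.ext
  show ((a : Ω) * b) * v * ((a : Ω) * b)⁻¹ * v⁻¹ =
    ((a : Ω) * v * (a : Ω)⁻¹ * v⁻¹) * ((b : Ω) * v * (b : Ω)⁻¹ * v⁻¹)
  have e1 : ((a : Ω) * b) * v * ((a : Ω) * b)⁻¹ * v⁻¹ =
      (a : Ω) * ((b : Ω) * v * (b : Ω)⁻¹ * v⁻¹) * ((a : Ω)⁻¹ * ((a : Ω) * v * (a : Ω)⁻¹ * v⁻¹)) := by
    group
  have hz := hcm b b.2 v hv
  have hq : (a : Ω) * v * (a : Ω)⁻¹ * v⁻¹ ∈ Q :=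
    Q.mul_mem (Q.mul_mem (Q.mul_mem a.2 hv) (Q.inv_mem a.2)) (Q.inv_mem hv)
  rw [e1, hZc _ hz a a.2, mul_assoc, mul_inv_cancel_left, hZc _ hz _ hq]

theorem extra_essential_eq {S : Subgroup Ω} [Finite S] (p : ℕ) [hp : Fact p.Prime]
    (hS : IsPGroup p S) {Q : Subgroup Ω} (hQS : Q ≤ S) (hQ : ExtraData p Q)
    (hcardQ : p ^ 3 < Nat.card Q) (F : FusionSystem S) (hF : F.IsSaturated p)
    {E : Subgroup Ω} (hEQ : E ≤ Q) (hE : F.IsEssential p E) : E = Q := by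
  have hES : E ≤ S := hE.1.1
  have hcen : centralizerIn S E ≤ E := hE.1.2 E (isConj_refl F hES)
  have hfinE : Finite E := finite_of_le hES
  have hfinQ : Finite Q := finite_of_le hQS
  have hEp : IsPGroup p E := hS.to_le hES
  obtain ⟨Z, hZ⟩ : ∃ Z : Subgroup Ω, Z = Q ⊓ Subgroup.centralizer (Q : Set Ω) := ⟨_, rfl⟩
  have hcm : ∀ a ∈ Q, ∀ b ∈ Q, a * b * a⁻¹ * b⁻¹ ∈ Z := by
    rw [hZ]
    exact hQ.comm_mem
  have hZcard : Nat.card Z = p := by
    rw [hZ]
    exact hQ.card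
  have hZQ : Z ≤ Q := by
    rw [hZ]
    exact inf_le_left
  have hZc : ∀ z ∈ Z, ∀ q ∈ Q, q * z = z * q := by
    intro z hz q hq
    rw [hZ] at hz
    exact Subgroup.mem_centralizer_iff.mp (Subgroup.mem_inf.mp hz).2 q hq
  have hfinZ : Finite Z := finite_of_le (hZQ.trans hQS)
  have hZE : Z ≤ E := by
    intro z hz
    apply hcen
    refine Subgroup.mem_inf.mpr ⟨hQS (hZQ hz), ?_⟩
    rw [Subgroup.mem_centralizer_iff]
    intro y hy
    exact hZc z hz y (hEQ hy)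
  have hconjE : ∀ q ∈ Q, ∀ y ∈ E, q * y * q⁻¹ ∈ E := by
    intro q hq y hy
    have e : q * y * q⁻¹ = (q * y * q⁻¹ * y⁻¹) * y := by group
    rw [e]
    exact E.mul_mem (hZE (hcm q hq y (hEQ hy))) hy
  have hconj : ∀ q ∈ Q, ∃ α : MulAut ↥E, α ∈ F.autGroup E ∧ α ∈ autInducedBy S E ∧
      ∀ y : ↥E, ((α y : ↥E) : Ω) = q * y * q⁻¹ := by
    intro q hq
    obtain ⟨α, hα1, hα2⟩ := exists_aut_of_mor (mor_conj F hES (hQS hq)) (hconjE q hq)
    exact ⟨α, hα1, (mem_autInducedBy_iff S E α).mpr ⟨q, hQS hq, hα2⟩, hα2⟩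
  have hinner : ∀ q ∈ Q, ∀ α : MulAut ↥E, (∀ y : ↥E, ((α y : ↥E) : Ω) = q * y * q⁻¹) →
      α ∈ Inn E → q ∈ E := by
    intro q hq α hα hαI
    obtain ⟨e, he, hαe⟩ := (mem_Inn_iff α).mp hαI
    have h1 : e⁻¹ * q ∈ E := by
      apply hcen
      refine Subgroup.mem_inf.mpr ⟨S.mul_mem (S.inv_mem (hES he)) (hQS hq), ?_⟩
      rw [Subgroup.mem_centralizer_iff]
      intro y hy
      have h2 := (hα ⟨y, hy⟩).symm.trans (hαe ⟨y, hy⟩)
      calc y * (e⁻¹ * q) = e⁻¹ * (e * y * e⁻¹) * q := by group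
        _ = e⁻¹ * (q * y * q⁻¹) * q := by rw [← h2]
        _ = e⁻¹ * q * y := by group
    have e2 : q = e * (e⁻¹ * q) := by group
    rw [e2]
    exact E.mul_mem he h1
  have hgenZ : ∀ d : ↥Z, d ≠ 1 → ∀ z : ↥Z, ∃ k : ℤ, d ^ k = z := by
    intro d hd z
    have htop := zpowers_eq_top_of_prime_card (G := ↥Z) (g := d) hZcard hd
    have hmem : z ∈ Subgroup.zpowers d := by
      rw [htop]
      exact Subgroup.mem_top _
    exact Subgroup.mem_zpowers_iff.mp hmem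
  apply le_antisymm hEQ
  by_contra hQE
  obtain ⟨q0, hq0Q, hq0E⟩ := SetLike.not_le_iff_exists.mp hQE
  by_cases hab : ∀ a ∈ E, ∀ b ∈ E, a * b = b * a
  · -- abelian case
    have hL : ∀ w ∈ E, ∃ q ∈ Q, q ∉ E ∧ q * w = w * q := by
      intro w hw
      by_contra hcon
      push Not at hcon
      have hH : ∀ q ∈ Q, q * w = w * q → q ∈ E := fun q hq hc => by
        by_contra hqE
        exact hcon q hq hqE hc
      obtain ⟨χ, hχ⟩ := commHom_exists hcm hZc (hEQ hw)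
      have hker : ∀ q : ↥Q, χ q = 1 → (q : Ω) ∈ E := by
        intro q hq1
        apply hH q q.2
        have h1 : (q : Ω) * w * (q : Ω)⁻¹ * w⁻¹ = 1 := by
          rw [← hχ q, hq1]
          rfl
        calc (q : Ω) * w = ((q : Ω) * w * (q : Ω)⁻¹ * w⁻¹) * (w * q) := by group
          _ = w * q := by rw [h1, one_mul]
      have hχ0 : χ ⟨q0, hq0Q⟩ ≠ 1 := fun h1 => hq0E (hker _ h1)
      have hdecomp : ∀ q' ∈ Q, ∃ k : ℤ, q' * (q0 ^ k)⁻¹ ∈ E := by
        intro q' hq'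
        obtain ⟨k, hk⟩ := hgenZ _ hχ0 (χ ⟨q', hq'⟩)
        refine ⟨k, ?_⟩
        have h1 : χ (⟨q', hq'⟩ * (⟨q0, hq0Q⟩ ^ k)⁻¹) = 1 := by
          rw [map_mul, map_inv, map_zpow, hk, mul_inv_cancel]
        have h2 := hker _ h1
        rw [Subgroup.coe_mul, Subgroup.coe_inv, Subgroup.coe_zpow] at h2
        exact h2
      have hcard1 : Nat.card Q ≤ p * Nat.card E := by
        have h1 := Subgroup.card_mul_index χ.ker
        rw [Subgroup.index_ker] at h1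
        have h2 : Nat.card χ.ker ≤ Nat.card E := by
          have hle : χ.ker ≤ E.subgroupOf Q := fun q hq =>
            Subgroup.mem_subgroupOf.mpr (hker q (MonoidHom.mem_ker.mp hq))
          calc Nat.card χ.ker ≤ Nat.card (E.subgroupOf Q) := Subgroup.card_le_of_le hle
            _ = Nat.card E := Nat.card_congr (Subgroup.subgroupOfEquivOfLe hEQ).toEquiv
        have h3 : Nat.card χ.range ≤ p := by
          rw [← hZcard]
          exact Subgroup.card_le_card_group _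
        calc Nat.card Q = Nat.card χ.ker * Nat.card χ.range := h1.symm
          _ ≤ Nat.card E * p := Nat.mul_le_mul h2 h3
          _ = p * Nat.card E := Nat.mul_comm _ _
      obtain ⟨ψ0, hψ0⟩ := commHom_exists hcm hZc hq0Q
      obtain ⟨ψ, hψ⟩ : ∃ ψ : ↥E →* ↥Z,
          ∀ e : ↥E, ((ψ e : ↥Z) : Ω) = e * q0 * (e : Ω)⁻¹ * q0⁻¹ :=
        ⟨ψ0.comp (Subgroup.inclusion hEQ), fun e => hψ0 _⟩
      have hkerψ : ψ.ker ≤ Z.subgroupOf E := by
        intro e he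
        rw [Subgroup.mem_subgroupOf, hZ]
        have h1 : (e : Ω) * q0 * (e : Ω)⁻¹ * q0⁻¹ = 1 := by
          rw [← hψ e, MonoidHom.mem_ker.mp he]
          rfl
        have hc0 : (e : Ω) * q0 = q0 * e := by
          calc (e : Ω) * q0 = ((e : Ω) * q0 * (e : Ω)⁻¹ * q0⁻¹) * (q0 * e) := by group
            _ = q0 * e := by rw [h1, one_mul]
        refine Subgroup.mem_inf.mpr ⟨hEQ e.2, ?_⟩
        rw [Subgroup.mem_centralizer_iff]
        intro q' hq'
        obtain ⟨k, hk⟩ := hdecomp q' hq'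
        have c1 : Commute (q' * (q0 ^ k)⁻¹) (e : Ω) := hab _ hk _ e.2
        have c2 : Commute (q0 ^ k) (e : Ω) :=
          Commute.zpow_left (show Commute q0 (e : Ω) from hc0.symm) k
        have c3 := c1.mul_left c2
        rw [inv_mul_cancel_right] at c3
        exact c3.eq
      have hcard2 : Nat.card E ≤ p * p := by
        have h1 := Subgroup.card_mul_index ψ.ker
        rw [Subgroup.index_ker] at h1
        have h2 : Nat.card ψ.ker ≤ p := by
          calc Nat.card ψ.ker ≤ Nat.card (Z.subgroupOf E) := Subgroup.card_le_of_le hkerψ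
            _ = Nat.card Z := Nat.card_congr (Subgroup.subgroupOfEquivOfLe hZE).toEquiv
            _ = p := hZcard
        have h3 : Nat.card ψ.range ≤ p := by
          rw [← hZcard]
          exact Subgroup.card_le_card_group _
        calc Nat.card E = Nat.card ψ.ker * Nat.card ψ.range := h1.symm
          _ ≤ p * p := Nat.mul_le_mul h2 h3
      have h3 : Nat.card Q ≤ p ^ 3 := by
        calc Nat.card Q ≤ p * Nat.card E := hcard1
          _ ≤ p * (p * p) := Nat.mul_le_mul_left p hcard2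
          _ = p ^ 3 := by ring
      omega
    obtain ⟨g, hgA, -, htw⟩ := essential_exists_twist p hS F hF hE
    have hnt : Nontrivial ↥Z := by
      rw [← Finite.one_lt_card_iff_nontrivial, hZcard]
      exact hp.out.one_lt
    obtain ⟨c0, hc0⟩ := exists_ne (1 : ↥Z)
    obtain ⟨cE, hcE⟩ : ∃ cE : ↥E, (cE : Ω) = (c0 : Ω) := ⟨⟨c0, hZE c0.2⟩, rfl⟩
    have hgenR : ∀ r : ↥E, (r : Ω) ∈ Z → ∃ k : ℤ, r = cE ^ k := by
      intro r hr
      obtain ⟨k, hk⟩ := hgenZ c0 hc0 ⟨r, hr⟩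
      refine ⟨k, Subtype.ext ?_⟩
      rw [Subgroup.coe_zpow, hcE, ← Subgroup.coe_zpow, hk]
    obtain ⟨R, hR⟩ : ∃ R : Subgroup ↥E, R = Z.subgroupOf E := ⟨_, rfl⟩
    have hRmem : ∀ r : ↥E, r ∈ R ↔ (r : Ω) ∈ Z := by
      intro r
      rw [hR, Subgroup.mem_subgroupOf]
    obtain ⟨W, hW⟩ : ∃ W : Subgroup ↥E, W = R ⊔ R.map g.toMonoidHom := ⟨_, rfl⟩
    have hRW : R ≤ W := by
      rw [hW]
      exact le_sup_left
    have hR'W : ∀ r ∈ R, g r ∈ W := by
      intro r hr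
      rw [hW]
      exact (le_sup_right : R.map g.toMonoidHom ≤ _) ⟨r, hr, rfl⟩
    have hWfix : ∀ β : MulAut ↥E, (∀ r ∈ R, β r = r) → (∀ r ∈ R, β (g r) = g r) →
        ∀ r ∈ W, β r = r := by
      intro β h1 h2 r hr
      have hle : W ≤ MonoidHom.eqLocus β.toMonoidHom (MonoidHom.id ↥E) := by
        rw [hW]
        apply sup_le
        · intro r hr
          exact h1 r hr
        · rintro _ ⟨r, hr, rfl⟩
          exact h2 r hr
      exact hle hr
    have hA1 : ∀ q ∈ Q, ∀ α : MulAut ↥E, (∀ y : ↥E, ((α y : ↥E) : Ω) = q * y * q⁻¹) →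
        (∀ r ∈ R, α r = r) ∧ ∀ y, y⁻¹ * α y ∈ R := by
      intro q hq α hα
      constructor
      · intro r hr
        apply Subtype.ext
        rw [hα, hZc _ ((hRmem r).mp hr) q hq, mul_inv_cancel_right]
      · intro y
        rw [hRmem, Subgroup.coe_mul, Subgroup.coe_inv, hα]
        have e : (y : Ω)⁻¹ * (q * y * q⁻¹) = (y : Ω)⁻¹ * q * (y : Ω)⁻¹⁻¹ * q⁻¹ := by group
        rw [e]
        exact hcm _ (Q.inv_mem (hEQ y.2)) q hq
    obtain ⟨q1, hq1Q, hq1E, hq1c⟩ := hL ((g cE : ↥E) : Ω) (g cE).2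
    obtain ⟨q2, hq2Q, hq2E, hq2c⟩ := hL ((g⁻¹ cE : ↥E) : Ω) (g⁻¹ cE).2
    obtain ⟨α1, -, hα1S, hα1⟩ := hconj q1 hq1Q
    obtain ⟨α2, -, hα2S, hα2⟩ := hconj q2 hq2Q
    have hfix1 : ∀ k : ℤ, α1 (g (cE ^ k)) = g (cE ^ k) := by
      intro k
      apply Subtype.ext
      rw [hα1, map_zpow, Subgroup.coe_zpow]
      have c1 : Commute q1 (((g cE : ↥E) : Ω) ^ k) :=
        Commute.zpow_right (show Commute q1 ((g cE : ↥E) : Ω) from hq1c) k
      rw [c1.eq, mul_inv_cancel_right]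
    have hfix2 : ∀ k : ℤ, α2 (g⁻¹ (cE ^ k)) = g⁻¹ (cE ^ k) := by
      intro k
      apply Subtype.ext
      rw [hα2, map_zpow, Subgroup.coe_zpow]
      have c1 : Commute q2 (((g⁻¹ cE : ↥E) : Ω) ^ k) :=
        Commute.zpow_right (show Commute q2 ((g⁻¹ cE : ↥E) : Ω) from hq2c) k
      rw [c1.eq, mul_inv_cancel_right]
    have hα1W : α1 ∈ stabChain W := by
      rw [mem_stabChain]
      obtain ⟨h1, h2⟩ := hA1 q1 hq1Q α1 hα1
      refine ⟨hWfix α1 h1 ?_, fun y => hRW (h2 y)⟩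
      intro r hr
      obtain ⟨k, rfl⟩ := hgenR r ((hRmem r).mp hr)
      exact hfix1 k
    have hgg : ∀ y : ↥E, g (g⁻¹ y) = y := fun y => by simp
    have hgg' : ∀ y : ↥E, g⁻¹ (g y) = y := fun y => by simp
    have hα2W : g * α2 * g⁻¹ ∈ stabChain W := by
      rw [mem_stabChain]
      obtain ⟨h1, h2⟩ := hA1 q2 hq2Q α2 hα2
      refine ⟨hWfix _ ?_ ?_, fun y => ?_⟩
      · intro r hr
        obtain ⟨k, rfl⟩ := hgenR r ((hRmem r).mp hr)
        rw [MulAut.mul_apply, MulAut.mul_apply, hfix2 k, hgg]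
      · intro r hr
        rw [MulAut.mul_apply, MulAut.mul_apply, hgg', h1 r hr]
      · rw [MulAut.mul_apply, MulAut.mul_apply]
        have e : y⁻¹ * g (α2 (g⁻¹ y)) = g ((g⁻¹ y)⁻¹ * α2 (g⁻¹ y)) := by
          rw [map_mul, map_inv, hgg]
        rw [e]
        exact hR'W _ (h2 _)
    exact htw α1 hα1S α2 hα2S (fun hI => hq1E (hinner q1 hq1Q α1 hα1 hI))
      (fun hI => hq2E (hinner q2 hq2Q α2 hα2 hI)) (stabChain W) (isPGroup_stabChain hEp W)
      hα1W hα2W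
  · -- nonabelian case
    push Not at hab
    obtain ⟨a, ha, b, hb, hne⟩ := hab
    obtain ⟨c, hc⟩ : ∃ c, c = a * b * a⁻¹ * b⁻¹ := ⟨_, rfl⟩
    have hcZ : c ∈ Z := by
      rw [hc]
      exact hcm a (hEQ ha) b (hEQ hb)
    have hc1 : c ≠ 1 := by
      intro h1
      apply hne
      have e : a * b = (a * b * a⁻¹ * b⁻¹) * (b * a) := by group
      rw [e, ← hc, h1, one_mul]
    have hcE' : (⟨c, hZE hcZ⟩ : ↥E) ∈ commutator ↥E := by
      have h1 : (⟨a, ha⟩ : ↥E) * ⟨b, hb⟩ * (⟨a, ha⟩ : ↥E)⁻¹ * (⟨b, hb⟩ : ↥E)⁻¹ ∈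
          commutator ↥E :=
        Subgroup.commutator_mem_commutator (g₁ := (⟨a, ha⟩ : ↥E)) (g₂ := (⟨b, hb⟩ : ↥E))
          (Subgroup.mem_top _) (Subgroup.mem_top _)
      have e : (⟨c, hZE hcZ⟩ : ↥E) =
          (⟨a, ha⟩ : ↥E) * ⟨b, hb⟩ * (⟨a, ha⟩ : ↥E)⁻¹ * (⟨b, hb⟩ : ↥E)⁻¹ := Subtype.ext hc
      rw [e]
      exact h1
    have hZE' : ∀ w : ↥E, (w : Ω) ∈ Z → w ∈ commutator ↥E := by
      intro w hw
      obtain ⟨k, hk⟩ := hgenZ ⟨c, hcZ⟩ (fun h1 => hc1 (congrArg Subtype.val h1)) ⟨w, hw⟩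
      have e : w = (⟨c, hZE hcZ⟩ : ↥E) ^ k := by
        apply Subtype.ext
        rw [Subgroup.coe_zpow]
        have h2 := congrArg Subtype.val hk
        rw [Subgroup.coe_zpow] at h2
        exact h2.symm
      rw [e]
      exact Subgroup.zpow_mem _ hcE' k
    have hE'Z : ∀ w : ↥E, w ∈ commutator ↥E → (w : Ω) ∈ Z := by
      intro w hw
      have hle : commutator ↥E ≤ Z.subgroupOf E := by
        show ⁅(⊤ : Subgroup ↥E), ⊤⁆ ≤ _
        rw [Subgroup.commutator_le]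
        intro g₁ _ g₂ _
        rw [Subgroup.mem_subgroupOf]
        exact hcm g₁ (hEQ g₁.2) g₂ (hEQ g₂.2)
      exact Subgroup.mem_subgroupOf.mp (hle hw)
    apply hq0E
    obtain ⟨α, hαA, -, hα⟩ := hconj q0 hq0Q
    apply hinner q0 hq0Q α hα
    have hrad := Cfsg.Agent.Lib.Helper87.essential_radical p hS F hE
    rw [← hrad.2]
    obtain ⟨T, hT⟩ : ∃ T : ℕ → Subgroup ↥E,
        T = fun i => if i = 0 then ⊥ else if i = 1 then commutator ↥E else ⊤ := ⟨_, rfl⟩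
    have hT0 : T 0 = ⊥ := by
      rw [hT]
      simp
    have hT1 : T 1 = commutator ↥E := by
      rw [hT]
      simp
    have hT2 : ∀ i, 2 ≤ i → T i = ⊤ := by
      intro i hi
      rw [hT]
      have h0 : i ≠ 0 := by omega
      have h1 : i ≠ 1 := by omega
      simp [h0, h1]
    have hmono : Monotone T := by
      apply monotone_nat_of_le_succ
      intro n
      rcases Nat.lt_or_ge n 1 with h0 | h1
      · have h00 : n = 0 := by omega
        subst h00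
        rw [hT0]
        exact bot_le
      · rw [hT2 (n + 1) (by omega)]
        exact le_top
    have hinv : ∀ β ∈ F.autGroup E, ∀ i, ∀ x ∈ T i, β x ∈ T i := by
      intro β _ i x hx
      rcases Nat.lt_or_ge i 1 with h0 | h1
      · have h00 : i = 0 := by omega
        subst h00
        rw [hT0] at hx ⊢
        rw [Subgroup.mem_bot] at hx ⊢
        rw [hx, map_one]
      · rcases Nat.lt_or_ge i 2 with h2 | h2
        · have h11 : i = 1 := by omega
          subst h11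
          rw [hT1] at hx ⊢
          have hchar : (commutator ↥E).Characteristic := inferInstance
          exact Subgroup.characteristic_iff_le_comap.mp hchar β hx
        · rw [hT2 i h2]
          exact Subgroup.mem_top _
    have hstab : ∀ i, ∀ x ∈ T (i + 1), x⁻¹ * α x ∈ T i := by
      intro i x hx
      rcases Nat.lt_or_ge i 1 with h0 | h1
      · have h00 : i = 0 := by omega
        subst h00
        rw [hT0, Subgroup.mem_bot]
        rw [zero_add, hT1] at hx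
        have hxZ := hE'Z x hx
        have e : α x = x := by
          apply Subtype.ext
          rw [hα, hZc _ hxZ q0 hq0Q, mul_inv_cancel_right]
        rw [e, inv_mul_cancel]
      · rcases Nat.lt_or_ge i 2 with h2 | h2
        · have h11 : i = 1 := by omega
          subst h11
          rw [hT1]
          apply hZE'
          rw [Subgroup.coe_mul, Subgroup.coe_inv, hα]
          have e : (x : Ω)⁻¹ * (q0 * x * q0⁻¹) = (x : Ω)⁻¹ * q0 * (x : Ω)⁻¹⁻¹ * q0⁻¹ := by group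
          rw [e]
          exact hcm _ (Q.inv_mem (hEQ x.2)) q0 hq0Q
        · rw [hT2 i h2]
          exact Subgroup.mem_top _
    have hmem := Cfsg.Agent.Lib.Helper87.chain_stab_mem_pCore p hEp (F.autGroup E) T 2 hT0
      (hT2 2 le_rfl) hmono hinv α hαA hstab
    exact ⟨⟨α, hαA⟩, hmem, rfl⟩

end ExtraEss

end Cfsg.Agent.Lib.Helper90
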