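import Mathlib
import Cfsg.Agent.Lib.Helper4.FCDefs

/-!
# Project FC (helper4, S4146): piece LFK1

`|H : C_H(A)| = m` in the context of Lemma F.
-/

set_option autoImplicit false

namespace Cfsg.Agent.Lib.Helper4.FC

universe u

/-- if `G = A ⋊ H` and `A ≤ C` then `|G : C| = |H : C ∩ H|` -/
theorem lfk1_helper90_index {G : Type u} [Group G] [Finite G] (A H C : Subgroup G)
    [hA : A.Normal] (hAH : A ⊓ H = ⊥) (hsup : A ⊔ H = ⊤) (hAC : A ≤ C) :
    C.relIndex H = C.index := by
  have hded : A ⊔ (C ⊓ H) = C := by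
    apply le_antisymm
    · exact sup_le hAC inf_le_left
    · intro c hc
      have hc' : c ∈ (↑(A ⊔ H) : Set G) := by
        rw [hsup]
        exact Subgroup.mem_top c
      rw [Subgroup.normal_mul] at hc'
      obtain ⟨a, ha, h, hh, rfl⟩ := Set.mem_mul.mp hc'
      have hhC : h ∈ C := by
        have h1 := C.mul_mem (C.inv_mem (hAC ha)) hc
        rwa [inv_mul_cancel_left] at h1
      exact Subgroup.mul_mem_sup ha ⟨hhC, hh⟩
  have e1 : A.index = Nat.card H := by
    have h := Subgroup.relIndex_sup_left H A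
    rw [hsup, Subgroup.relIndex_top_right, ← Subgroup.inf_relIndex_right A H, hAH,
      Subgroup.relIndex_bot_left] at h
    exact h
  have e2 : A.relIndex C = Nat.card ↥(C ⊓ H) := by
    have h := Subgroup.relIndex_sup_left (C ⊓ H) A
    have hbot : A ⊓ (C ⊓ H) = ⊥ := by
      apply le_bot_iff.mp
      rw [← hAH]
      exact inf_le_inf_left A inf_le_right
    rw [hded, ← Subgroup.inf_relIndex_right A (C ⊓ H), hbot, Subgroup.relIndex_bot_left] at h
    exact h
  have e3 : A.relIndex C * C.index = A.index := Subgroup.relIndex_mul_index hAC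
  have e4 : Nat.card ↥(C ⊓ H) * C.relIndex H = Nat.card H := by
    have h := Subgroup.relIndex_mul_relIndex ⊥ (C ⊓ H) H bot_le inf_le_right
    rw [Subgroup.relIndex_bot_left, Subgroup.relIndex_bot_left, Subgroup.inf_relIndex_right] at h
    exact h
  have hpos : 0 < Nat.card ↥(C ⊓ H) := Nat.card_pos
  rw [e2, e1, ← e4] at e3
  exact (Nat.eq_of_mul_eq_mul_left hpos e3).symm

theorem fc_lfk1 : LF2Stmt.{u} → LFK1Stmt.{u} := by
  intro hLF2 G _ _ n m A H hctx
  have hctx' := hctx
  obtain ⟨hfour, hAn, hab, hcop, hAH, hsup, hcls, hrel⟩ := hctx'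
  obtain ⟨hn1, hm1, hnm, hall, hxn, hxm, hxnm⟩ := hfour
  have hnle : ¬ A ≤ Subgroup.center G := by
    intro hle
    have h1 := Subgroup.relIndex_eq_one.mpr hle
    omega
  obtain ⟨y, hyA, hyZ⟩ := SetLike.not_le_iff_exists.mp hnle
  have hcsy : cs y = m := by
    rcases hcls y hyA with h1 | h1
    · exfalso
      apply hyZ
      have htop : Cen y = ⊤ := Subgroup.index_eq_one.mp h1
      rw [Subgroup.mem_center_iff]
      intro g
      have hg : g ∈ Cen y := by
        rw [htop]
        exact Subgroup.mem_top g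
      exact (Subgroup.mem_centralizer_iff.mp hg y (Set.mem_singleton y)).symm
    · exact h1
  have hAC : A ≤ Cen y := by
    intro a ha
    rw [Subgroup.mem_centralizer_iff]
    intro h hh
    rw [Set.mem_singleton_iff] at hh
    rw [hh]
    exact hab y hyA a ha
  have hidx : (Cen y).relIndex H = (Cen y).index :=
    haveI := hAn
    lfk1_helper90_index A H (Cen y) hAH hsup hAC
  have heq : Cen y ⊓ H = CHA A H := by
    apply le_antisymm
    · rintro x ⟨hx1, hx2⟩
      have hxy : x * y = y * x :=
        (Subgroup.mem_centralizer_iff.mp hx1 y (Set.mem_singleton y)).symm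
      exact hLF2 G n m A H x y hctx hx2 hyA hcsy hxy
    · intro x hx
      have hx' : x ∈ H ⊓ Subgroup.centralizer (A : Set G) := hx
      refine Subgroup.mem_inf.mpr ⟨?_, hx'.1⟩
      rw [Subgroup.mem_centralizer_iff]
      intro h hh
      rw [Set.mem_singleton_iff] at hh
      rw [hh]
      exact Subgroup.mem_centralizer_iff.mp hx'.2 y hyA
  rw [← heq, Subgroup.inf_relIndex_right, hidx]
  exact hcsy

end Cfsg.Agent.Lib.Helper4.FC
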