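import Cfsg.Agent.Lib.Helper90.MetaNormal

set_option autoImplicit false

namespace Cfsg.Agent.Lib.Helper90

open Cfsg Cfsg.FusionSystem

variable {Ω : Type*} [Group Ω] {S : Subgroup Ω} {F : FusionSystem S} {P Q R : Subgroup Ω}
  {f g : Ω → Ω}

theorem Mor.map_pow' (h : Mor F P f) {x : Ω} (hx : x ∈ P) (n : ℕ) : f (x ^ n) = f x ^ n := by
  obtain ⟨φ, _, hf⟩ := h
  have h1 := map_pow φ ⟨x, hx⟩ n
  rw [hf ⟨x, hx⟩] at h1
  rw [← h1]
  exact (hf (⟨x, hx⟩ ^ n)).symm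

theorem Mor.map_zpow' (h : Mor F P f) {x : Ω} (hx : x ∈ P) (n : ℤ) : f (x ^ n) = f x ^ n := by
  obtain ⟨φ, _, hf⟩ := h
  have h1 := map_zpow φ ⟨x, hx⟩ n
  rw [hf ⟨x, hx⟩] at h1
  rw [← h1]
  exact (hf (⟨x, hx⟩ ^ n)).symm

/-- A strongly closed subgroup `P` with a chain of strongly closed subgroups from `1` to `P`
whose factors are centralized by `P` is normal in the system (any prime). -/
theorem isNormal_of_chain_full [Finite S] {p : ℕ} [Fact p.Prime] (hS : IsPGroup p S)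
    (hF : F.IsSaturated p) (hP : F.StronglyClosed P) (n : ℕ)
    (Q : Fin (n + 1) → Subgroup Ω) (h0 : Q 0 = ⊥) (hn : Q (Fin.last n) = P)
    (hQ : ∀ i : Fin (n + 1), F.StronglyClosed (Q i))
    (hc : ∀ i : Fin n, ⁅Q i.succ, P⁆ ≤ Q i.castSucc) : F.IsNormal P := by
  apply isNormal_of_le_centric_radical hS hF hP
  intro R hfa hrec hcen hrad
  have hR : R ≤ S := hfa.1
  have : Finite R := finite_of_le hR
  have hRp : IsPGroup p R := hS.to_le hR
  have hPS : P ≤ S := hP.1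
  apply le_of_centric_radical hS hcen hrad hPS (fun s hs q hq => stronglyClosed_conj_mem hP hs hq)
  intro a ha haN κ hκ
  have haS : a ∈ S := hPS ha
  have hκF : κ ∈ F.autGroup R :=
    autInducedBy_le_autGroup F hR ((mem_autInducedBy_iff S R κ).mpr ⟨a, haS, hκ⟩)
  have hκinv : ∀ x : R, ((κ⁻¹ x : R) : Ω) = a⁻¹ * x * a⁻¹⁻¹ := by
    intro x
    have h1 := hκ (κ⁻¹ x)
    have h2 : κ (κ⁻¹ x) = x := by simp
    rw [h2] at h1
    rw [h1]
    group
  refine le_pCore_map_of_coprime_trivial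
    (F.autGroup R ⊓ stabRel S P R ⊓ ⨅ i : Fin n, stabRel (Q i.succ) (Q i.castSucc) R)
    (fun g hg => hg.1.1) ?_ ?_ ?_
  · rintro α hα g ⟨⟨hg1, hg2⟩, hg3⟩
    refine ⟨⟨Subgroup.mul_mem _ (Subgroup.mul_mem _ hα hg1) (Subgroup.inv_mem _ hα),
      stabRel_conj_mem (stronglyClosed_top F) hP hR hα hg2⟩, ?_⟩
    have hg3' := Subgroup.mem_iInf.mp hg3
    refine Subgroup.mem_iInf.mpr ?_
    intro i
    exact stabRel_conj_mem (hQ _) (hQ _) hR hα (hg3' i)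
  · rintro β ⟨⟨hβ1, hβ2⟩, hβ3⟩ hβm
    replace hβ3 := Subgroup.mem_iInf.mp hβ3
    have hpow : ∀ x : R, (β ^ orderOf β) x = x := by
      intro x
      rw [pow_orderOf_eq_one]
      rfl
    have hchain : ∀ i : Fin (n + 1), ∀ x : R, (x : Ω) ∈ Q i → β x = x := by
      intro i
      induction i using Fin.induction with
      | zero =>
        intro x hx
        rw [h0, Subgroup.mem_bot] at hx
        have hx1 : x = 1 := Subtype.ext hx
        rw [hx1, map_one]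
      | succ i ih =>
        intro x hx
        obtain ⟨-, -, h3, -⟩ := hβ3 i x hx
        have hfix : β (x⁻¹ * β x) = x⁻¹ * β x := ih _ h3
        obtain ⟨k, hk⟩ := hRp (x⁻¹ * β x)
        exact aut_fix_of_fix_comm β hβm x hfix (hpow x) hk
    ext x
    obtain ⟨-, -, h3, -⟩ := hβ2 x (hR x.2)
    have h3' : ((x⁻¹ * β x : R) : Ω) ∈ Q (Fin.last n) := by
      rw [hn]
      exact h3
    have hfix : β (x⁻¹ * β x) = x⁻¹ * β x := hchain (Fin.last n) _ h3'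
    obtain ⟨k, hk⟩ := hRp (x⁻¹ * β x)
    have := aut_fix_of_fix_comm β hβm x hfix (hpow x) hk
    rw [this]
    rfl
  · refine ⟨⟨hκF, ?_⟩, ?_⟩
    · intro x hx
      refine ⟨hR (κ x).2, hR (κ⁻¹ x).2, ?_, ?_⟩
      · rw [hκ]
        have h1 : (x : Ω)⁻¹ * a * (x : Ω)⁻¹⁻¹ ∈ P :=
          stronglyClosed_conj_mem hP (S.inv_mem hx) ha
        have e : (x : Ω)⁻¹ * (a * x * a⁻¹) = ((x : Ω)⁻¹ * a * (x : Ω)⁻¹⁻¹) * a⁻¹ := by group
        rw [e]
        exact P.mul_mem h1 (P.inv_mem ha)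
      · rw [hκinv]
        have h1 : (x : Ω)⁻¹ * a⁻¹ * (x : Ω)⁻¹⁻¹ ∈ P :=
          stronglyClosed_conj_mem hP (S.inv_mem hx) (P.inv_mem ha)
        have e : (x : Ω)⁻¹ * (a⁻¹ * x * a⁻¹⁻¹) = ((x : Ω)⁻¹ * a⁻¹ * (x : Ω)⁻¹⁻¹) * a := by group
        rw [e]
        exact P.mul_mem h1 ha
    · refine Subgroup.mem_iInf.mpr ?_
      intro i x hx
      refine ⟨?_, ?_, ?_, ?_⟩
      · rw [hκ]
        exact stronglyClosed_conj_mem (hQ _) haS hx
      · rw [hκinv]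
        exact stronglyClosed_conj_mem (hQ _) (S.inv_mem haS) hx
      · rw [hκ]
        have h1 : (x : Ω)⁻¹ * a * (x : Ω)⁻¹⁻¹ * a⁻¹ ∈ ⁅Q i.succ, P⁆ :=
          Subgroup.commutator_mem_commutator (Subgroup.inv_mem _ hx) ha
        have e : (x : Ω)⁻¹ * (a * x * a⁻¹) = (x : Ω)⁻¹ * a * (x : Ω)⁻¹⁻¹ * a⁻¹ := by group
        rw [e]
        exact hc i h1
      · rw [hκinv]
        have h1 : (x : Ω)⁻¹ * a⁻¹ * (x : Ω)⁻¹⁻¹ * a⁻¹⁻¹ ∈ ⁅Q i.succ, P⁆ :=
          Subgroup.commutator_mem_commutator (Subgroup.inv_mem _ hx) (P.inv_mem ha)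
        have e : (x : Ω)⁻¹ * (a⁻¹ * x * a⁻¹⁻¹) = (x : Ω)⁻¹ * a⁻¹ * (x : Ω)⁻¹⁻¹ * a⁻¹⁻¹ := by group
        rw [e]
        exact hc i h1

section ClassTwo

variable {G : Type*} [Group G]

/-- Class two commutator identity: if `d = y t y⁻¹ t⁻¹` commutes with `y` and `t`, then
`y ^ n * t = d ^ n * t * y ^ n`. -/
theorem zpow_mul_of_comm {y t d : G} (hd : y * t * y⁻¹ * t⁻¹ = d)
    (hdy : Commute d y) (hdt : Commute d t) (n : ℤ) : y ^ n * t = d ^ n * t * y ^ n := by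
  have h1 : t⁻¹ * y * t⁻¹⁻¹ = d * y := by
    have h0 : y * t = d * t * y := by rw [← hd]; group
    calc t⁻¹ * y * t⁻¹⁻¹ = t⁻¹ * (y * t) := by group
      _ = t⁻¹ * (d * t * y) := by rw [h0]
      _ = t⁻¹ * (t * d) * y := by rw [hdt.eq]; group
      _ = d * y := by group
  have h2 : t⁻¹ * y ^ n * t⁻¹⁻¹ = d ^ n * y ^ n := by
    rw [← conj_zpow, h1, hdy.mul_zpow]
  calc y ^ n * t = t * (t⁻¹ * y ^ n * t⁻¹⁻¹) := by group
    _ = t * (d ^ n * y ^ n) := by rw [h2]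
    _ = d ^ n * t * y ^ n := by rw [← mul_assoc, ← (hdt.zpow_left n).eq]

/-- Class two commutator identity: `y * t ^ n = d ^ n * t ^ n * y`. -/
theorem mul_zpow_of_comm {y t d : G} (hd : y * t * y⁻¹ * t⁻¹ = d)
    (_hdy : Commute d y) (hdt : Commute d t) (n : ℤ) : y * t ^ n = d ^ n * t ^ n * y := by
  have h1 : y * t * y⁻¹ = d * t := by rw [← hd]; group
  have h2 : y * t ^ n * y⁻¹ = d ^ n * t ^ n := by
    rw [← conj_zpow, h1, hdt.mul_zpow]
  calc y * t ^ n = (y * t ^ n * y⁻¹) * y := by group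
    _ = d ^ n * t ^ n * y := by rw [h2]

/-- Decomposition of a group `P` with central commutator subgroup `D` of prime order, relative to
an abelian centralizer `M = C_P(y)`. -/
theorem class_two_decomp {P M D : Subgroup G}
    (hDc : ∀ d ∈ D, ∀ x ∈ P, x * d = d * x)
    (hcomm : ∀ a ∈ P, ∀ b ∈ P, a * b * a⁻¹ * b⁻¹ ∈ D)
    (hDgen : ∀ d ∈ D, d ≠ 1 → Subgroup.zpowers d = D)
    {y t : G} (hy : y ∈ P) (ht : t ∈ P) (hyt : y * t ≠ t * y)
    (hMmem : ∀ g, g ∈ M ↔ g ∈ P ∧ y * g = g * y)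
    (hMcomm : ∀ a ∈ M, ∀ b ∈ M, a * b = b * a) :
    (∀ g ∈ P, ∃ m ∈ M, ∃ k : ℤ, g = m * t ^ k) ∧
    (∀ c ∈ M, c * t = t * c → ∀ h ∈ P, c * h = h * c) ∧
    (∀ m ∈ M, ∃ c ∈ M, (∀ h ∈ P, c * h = h * c) ∧ ∃ e : ℤ, m = y ^ e * c) := by
  obtain ⟨d₀, hd₀⟩ : ∃ d₀, y * t * y⁻¹ * t⁻¹ = d₀ := ⟨_, rfl⟩
  have hd₀D : d₀ ∈ D := hd₀ ▸ hcomm y hy t ht
  have hd₀1 : d₀ ≠ 1 := by
    intro h
    apply hyt
    rw [h] at hd₀
    calc y * t = (y * t * y⁻¹ * t⁻¹) * (t * y) := by group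
      _ = t * y := by rw [hd₀, one_mul]
  have hzp : Subgroup.zpowers d₀ = D := hDgen d₀ hd₀D hd₀1
  have hdy : Commute d₀ y := (hDc d₀ hd₀D y hy).symm
  have hdt : Commute d₀ t := (hDc d₀ hd₀D t ht).symm
  have hMP : M ≤ P := fun g hg => ((hMmem g).mp hg).1
  have hyM : y ∈ M := (hMmem y).mpr ⟨hy, rfl⟩
  have h1 : ∀ g ∈ P, ∃ m ∈ M, ∃ k : ℤ, g = m * t ^ k := by
    intro g hg
    have hcg : y * g * y⁻¹ * g⁻¹ ∈ D := hcomm y hy g hg
    rw [← hzp] at hcg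
    obtain ⟨k, hk⟩ := Subgroup.mem_zpowers_iff.mp hcg
    refine ⟨g * t ^ (-k), (hMmem _).mpr ⟨P.mul_mem hg (P.zpow_mem ht _), ?_⟩, k, by group⟩
    have e1 : y * g = d₀ ^ k * g * y := by rw [hk]; group
    have e2 : y * t ^ (-k) = d₀ ^ (-k) * t ^ (-k) * y := mul_zpow_of_comm hd₀ hdy hdt (-k)
    have e3 : g * d₀ ^ (-k) = d₀ ^ (-k) * g := hDc _ (D.zpow_mem hd₀D _) g hg
    calc y * (g * t ^ (-k)) = (y * g) * t ^ (-k) := by group
      _ = d₀ ^ k * g * (y * t ^ (-k)) := by rw [e1]; group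
      _ = d₀ ^ k * (g * d₀ ^ (-k)) * t ^ (-k) * y := by rw [e2]; group
      _ = g * t ^ (-k) * y := by rw [e3]; group
  have h2 : ∀ c ∈ M, c * t = t * c → ∀ h ∈ P, c * h = h * c := by
    intro c hc hct h hh
    obtain ⟨m, hm, k, rfl⟩ := h1 h hh
    have e1 : c * m = m * c := hMcomm c hc m hm
    have e2 : Commute c (t ^ k) := Commute.zpow_right hct k
    calc c * (m * t ^ k) = (c * m) * t ^ k := by group
      _ = m * (c * t ^ k) := by rw [e1]; group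
      _ = m * t ^ k * c := by rw [e2.eq]; group
  refine ⟨h1, h2, ?_⟩
  intro m hm
  have hmP : m ∈ P := hMP hm
  have hcm : m * t * m⁻¹ * t⁻¹ ∈ D := hcomm m hmP t ht
  rw [← hzp] at hcm
  obtain ⟨e, he⟩ := Subgroup.mem_zpowers_iff.mp hcm
  have hcM : y ^ (-e) * m ∈ M := M.mul_mem (M.zpow_mem hyM _) hm
  refine ⟨y ^ (-e) * m, hcM, h2 _ hcM ?_, e, by group⟩
  have e1 : m * t = d₀ ^ e * t * m := by rw [he]; group
  have e2 : y ^ (-e) * t = d₀ ^ (-e) * t * y ^ (-e) := zpow_mul_of_comm hd₀ hdy hdt (-e)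
  have e3 : y ^ (-e) * d₀ ^ e = d₀ ^ e * y ^ (-e) :=
    hDc _ (D.zpow_mem hd₀D _) _ (P.zpow_mem hy _)
  calc y ^ (-e) * m * t = y ^ (-e) * (m * t) := by group
    _ = (y ^ (-e) * d₀ ^ e) * t * m := by rw [e1]; group
    _ = d₀ ^ e * (y ^ (-e) * t) * m := by rw [e3]; group
    _ = t * (y ^ (-e) * m) := by rw [e2]; group

end ClassTwo

/-- Main step for generalized extraspecial strongly closed subgroups: either the central subgroup
`D` of order `p` (containing commutators and `p`-th powers of `P`) is strongly closed, or `P` has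
a very restricted structure. -/
theorem stronglyClosed_or_structure [Finite S] {p : ℕ} [hp : Fact p.Prime] (hS : IsPGroup p S)
    (hF : F.IsSaturated p) {P D : Subgroup Ω} (hP : F.StronglyClosed P) (hDP : D ≤ P)
    (hDcard : Nat.card D = p)
    (hcomm : ∀ a ∈ P, ∀ b ∈ P, a * b * a⁻¹ * b⁻¹ ∈ D)
    (hpow : ∀ a ∈ P, a ^ p ∈ D)
    (hDF : ∀ α ∈ F.autGroup P, ∀ x : P, (x : Ω) ∈ D → ((α x : P) : Ω) ∈ D) :
    F.StronglyClosed D ∨
    ∃ y ∈ P, ∃ t ∈ P, y ^ p = 1 ∧ t ^ p = 1 ∧ y * t ≠ t * y ∧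
      ∀ g ∈ P, ∃ c ∈ P, (∀ h ∈ P, c * h = h * c) ∧ c ^ p = 1 ∧
        ∃ i j : ℤ, g = c * y ^ i * t ^ j := by
  classical
  have hPS : P ≤ S := hP.1
  have hDS : D ≤ S := hDP.trans hPS
  have : Finite P := finite_of_le hPS
  have : Finite D := finite_of_le hDS
  have hPp : IsPGroup p P := hS.to_le hPS
  have hDn : ∀ s ∈ S, ∀ d ∈ D, s * d * s⁻¹ ∈ D := by
    intro s hs d hd
    obtain ⟨α, hα, hαf⟩ := exists_aut_of_mor (mor_conj F hPS hs)
      (fun x hx => stronglyClosed_conj_mem hP hs hx)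
    have h1 := hDF α hα ⟨d, hDP hd⟩ hd
    rw [hαf] at h1
    exact h1
  have hDc : ∀ d ∈ D, ∀ x ∈ P, x * d = d * x :=
    central_of_normal_card_le hPp hDP (fun s hs d hd => hDn s (hPS hs) d hd) (le_of_eq hDcard)
  have hDpow : ∀ d ∈ D, d ^ p = 1 := by
    intro d hd
    have h1 : (⟨d, hd⟩ : D) ^ Nat.card D = 1 := pow_card_eq_one'
    rw [hDcard] at h1
    exact congrArg Subtype.val h1
  have hDgen : ∀ d ∈ D, d ≠ 1 → Subgroup.zpowers d = D := by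
    intro d hd hd1
    apply Subgroup.eq_of_le_of_card_ge (Subgroup.zpowers_le.mpr hd)
    rw [Nat.card_zpowers, orderOf_eq_prime (hDpow d hd) hd1, hDcard]
  by_cases hDsc : F.StronglyClosed D
  · exact Or.inl hDsc
  right
  have hex : ∃ f, Mor F D f ∧ ∃ x ∈ D, f x ∉ D := by
    by_contra hcon
    push Not at hcon
    apply hDsc
    refine ⟨hDS, fun R hR φ hφ x => ?_⟩
    have : Finite R := finite_of_le (hR.trans hDS)
    have hRcard : Nat.card R ≤ p := hDcard ▸ Subgroup.card_le_of_le hR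
    rcases card_eq_one_or_prime hS (hR.trans hDS) hRcard with h1 | h1
    · have hRbot : R = ⊥ := Subgroup.card_eq_one.mp h1
      have hx1 : x = 1 := by
        apply Subtype.ext
        have h3 : R ≤ ⊥ := le_of_eq hRbot
        exact Subgroup.mem_bot.mp (h3 x.2)
      rw [hx1, map_one]
      exact D.one_mem
    · have hRD : R = D := Subgroup.eq_of_le_of_card_ge hR (by rw [h1, hDcard])
      subst hRD
      have h2 := hcon (extFun R φ) (mor_of_hom hφ) x x.2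
      rwa [extFun_apply] at h2
  obtain ⟨f, hf, x, hxD, hfx⟩ := hex
  obtain ⟨y, hy⟩ : ∃ y, y = f x := ⟨_, rfl⟩
  rw [← hy] at hfx
  have hx1 : x ≠ 1 := by
    rintro rfl
    apply hfx
    rw [hy, hf.map_one]
    exact D.one_mem
  have hzx : Subgroup.zpowers x = D := hDgen x hxD hx1
  have hyP : y ∈ P := by rw [hy]; exact stronglyClosed_mor_mem hP hf hDP hxD
  have hyp : y ^ p = 1 := by rw [hy, ← hf.map_pow' hxD, hDpow x hxD, hf.map_one]
  have hy1 : y ≠ 1 := fun h => hfx (h ▸ D.one_mem)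
  -- `D` is fully normalized, hence receptive
  have hND : normalizerIn S D = S := by
    apply le_antisymm inf_le_left
    intro t ht
    exact ⟨ht, mem_normalizer_of_finite (fun w hw => hDn t ht w hw)⟩
  have hfnD : F.IsFullyNormalized D := by
    refine ⟨hDS, fun Q _ => ?_⟩
    rw [hND]
    exact Subgroup.card_le_of_le inf_le_left
  obtain ⟨-, -, hrecD⟩ := Cfsg.Agent.Lib.Helper87.saturated_fullyNormalized p hS F hF hfnD
  -- images of elements of `D` that are central in `P` lie in `D`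
  have hL1 : ∀ f' : Ω → Ω, Mor F D f' → ∀ x' ∈ D, f' x' ∈ P →
      (∀ h ∈ P, f' x' * h = h * f' x') → f' x' ∈ D := by
    intro f' hf' x' hx' hwP hwc
    by_cases hx'1 : x' = 1
    · rw [hx'1, hf'.map_one]
      exact D.one_mem
    have hzx' : Subgroup.zpowers x' = D := hDgen x' hx' hx'1
    obtain ⟨W, hW⟩ : ∃ W, W = img D f' := ⟨_, rfl⟩
    have hψ₀ : Mor F W (invFn D f') := by rw [hW]; exact hf'.inv
    have hψ₀img : img W (invFn D f') = D := by rw [hW]; exact hf'.img_inv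
    obtain ⟨ψ, hψ, hψW⟩ := receptive_extend' hrecD hψ₀ hψ₀img
    have hPext : P ≤ extFn S W (invFn D f') := by
      refine le_trans ?_ hψ₀.centralizerIn_le_extFn
      intro g hg
      refine Subgroup.mem_inf.mpr ⟨hPS hg, Subgroup.mem_centralizer_iff.mpr (fun u hu => ?_)⟩
      rw [hW] at hu
      obtain ⟨d, hd, rfl⟩ := hf'.mem_img.mp hu
      rw [← hzx'] at hd
      obtain ⟨k, rfl⟩ := Subgroup.mem_zpowers_iff.mp hd
      rw [hf'.map_zpow' hx']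
      have h1 : Commute (f' x') g := hwc g hg
      exact (h1.zpow_left k).eq
    have hψP : Mor F P ψ := hψ.restrict hPext
    obtain ⟨α, hα, hαf⟩ := exists_aut_of_mor hψP
      (fun g hg => stronglyClosed_mor_mem hP hψP le_rfl hg)
    have hwW : f' x' ∈ W := by rw [hW]; exact hf'.mem_img_of_mem hx'
    have h1 : α ⟨f' x', hwP⟩ = ⟨x', hDP hx'⟩ := by
      apply Subtype.ext
      rw [hαf]
      show ψ (f' x') = x'
      rw [hψW _ hwW, hf'.invFn_apply hx']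
    have h2 := hDF α⁻¹ (Subgroup.inv_mem _ hα) ⟨x', hDP hx'⟩ hx'
    rw [← h1, MulAut.inv_apply_self] at h2
    exact h2
  have hyZ : ∃ t₀ ∈ P, y * t₀ ≠ t₀ * y := by
    by_contra hcon
    push Not at hcon
    apply hfx
    have h1 := hL1 f hf x hxD (hy ▸ hyP) (fun h hh => by rw [← hy]; exact hcon h hh)
    rw [hy]
    exact h1
  obtain ⟨t₀, ht₀P, hyt₀⟩ := hyZ
  -- the map `ψ` on `M = C_P(y)`
  obtain ⟨Y, hY⟩ : ∃ Y, Y = img D f := ⟨_, rfl⟩
  have hψ₀ : Mor F Y (invFn D f) := by rw [hY]; exact hf.inv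
  have hψ₀img : img Y (invFn D f) = D := by rw [hY]; exact hf.img_inv
  obtain ⟨ψ, hψ, hψY⟩ := receptive_extend' hrecD hψ₀ hψ₀img
  obtain ⟨M, hM⟩ : ∃ M : Subgroup Ω, M = P ⊓ Subgroup.centralizer ({y} : Set Ω) := ⟨_, rfl⟩
  have hMmem : ∀ g, g ∈ M ↔ g ∈ P ∧ y * g = g * y := by
    intro g
    rw [hM, Subgroup.mem_inf, Subgroup.mem_centralizer_iff]
    constructor
    · rintro ⟨h1, h2⟩
      exact ⟨h1, h2 y rfl⟩
    · rintro ⟨h1, h2⟩
      refine ⟨h1, fun h hh => ?_⟩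
      rw [Set.mem_singleton_iff.mp hh]
      exact h2
  have hMP : M ≤ P := fun g hg => ((hMmem g).mp hg).1
  have hyM : y ∈ M := (hMmem y).mpr ⟨hyP, rfl⟩
  have hMext : M ≤ extFn S Y (invFn D f) := by
    refine le_trans ?_ hψ₀.centralizerIn_le_extFn
    intro g hg
    refine Subgroup.mem_inf.mpr ⟨hPS (hMP hg), Subgroup.mem_centralizer_iff.mpr (fun u hu => ?_)⟩
    rw [hY] at hu
    obtain ⟨d, hd, rfl⟩ := hf.mem_img.mp hu
    rw [← hzx] at hd
    obtain ⟨k, rfl⟩ := Subgroup.mem_zpowers_iff.mp hd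
    rw [hf.map_zpow' hxD, ← hy]
    have h1 : Commute y g := ((hMmem g).mp hg).2
    exact (h1.zpow_left k).eq
  have hψM : Mor F M ψ := hψ.restrict hMext
  have hyY : y ∈ Y := by rw [hY, hy]; exact hf.mem_img_of_mem hxD
  have hψy : ψ y = x := by rw [hψY y hyY, hy, hf.invFn_apply hxD]
  have hψP : ∀ m ∈ M, ψ m ∈ P := fun m hm => stronglyClosed_mor_mem hP hψM hMP hm
  -- an element of `D ∩ M` mapped into `D` by `ψ` is trivial
  have hkey : ∀ c ∈ M, c ∈ D → ψ c ∈ D → c = 1 := by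
    intro c hcM hcD hψc
    by_contra hc1
    have hψc1 : ψ c ≠ 1 := fun h => hc1 (hψM.inj hcM M.one_mem (by rw [h, hψM.map_one]))
    have hzp : Subgroup.zpowers (ψ c) = D := hDgen _ hψc hψc1
    have hx' : x ∈ Subgroup.zpowers (ψ c) := by rw [hzp]; exact hxD
    obtain ⟨k, hk⟩ := Subgroup.mem_zpowers_iff.mp hx'
    have h1 : ψ (c ^ k) = ψ y := by rw [hψM.map_zpow' hcM, hk, hψy]
    have h2 := hψM.inj (M.zpow_mem hcM k) hyM h1
    exact hfx (h2 ▸ D.zpow_mem hcD k)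
  have hMcomm : ∀ a ∈ M, ∀ b ∈ M, a * b = b * a := by
    intro a ha b hb
    have hcM : a * b * a⁻¹ * b⁻¹ ∈ M :=
      M.mul_mem (M.mul_mem (M.mul_mem ha hb) (M.inv_mem ha)) (M.inv_mem hb)
    have hψc : ψ (a * b * a⁻¹ * b⁻¹) ∈ D := by
      rw [hψM.map_mul (M.mul_mem (M.mul_mem ha hb) (M.inv_mem ha)) (M.inv_mem hb),
        hψM.map_mul (M.mul_mem ha hb) (M.inv_mem ha), hψM.map_mul ha hb, hψM.map_inv ha,
        hψM.map_inv hb]
      exact hcomm _ (hψP a ha) _ (hψP b hb)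
    have h1 := hkey _ hcM (hcomm a (hMP ha) b (hMP hb)) hψc
    calc a * b = (a * b * a⁻¹ * b⁻¹) * (b * a) := by group
      _ = b * a := by rw [h1, one_mul]
  have hMexp : ∀ m ∈ M, m ^ p = 1 := by
    intro m hm
    apply hkey _ (M.pow_mem hm p) (hpow m (hMP hm))
    rw [hψM.map_pow' hm]
    exact hpow _ (hψP m hm)
  obtain ⟨hG1, hG2, hG3⟩ := class_two_decomp hDc hcomm hDgen hyP ht₀P hyt₀ hMmem hMcomm
  -- it remains to find `t` outside `M` with `t ^ p = 1`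
  have hstruct : ∀ t ∈ P, y * t ≠ t * y → t ^ p = 1 →
      ∃ y ∈ P, ∃ t ∈ P, y ^ p = 1 ∧ t ^ p = 1 ∧ y * t ≠ t * y ∧
      ∀ g ∈ P, ∃ c ∈ P, (∀ h ∈ P, c * h = h * c) ∧ c ^ p = 1 ∧
        ∃ i j : ℤ, g = c * y ^ i * t ^ j := by
    intro t htP hyt htp
    obtain ⟨hG1', -, hG3'⟩ := class_two_decomp hDc hcomm hDgen hyP htP hyt hMmem hMcomm
    refine ⟨y, hyP, t, htP, hyp, htp, hyt, fun g hg => ?_⟩
    obtain ⟨m, hm, k, rfl⟩ := hG1' g hg
    obtain ⟨c, hcM, hcc, e, rfl⟩ := hG3' m hm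
    refine ⟨c, hMP hcM, hcc, hMexp c hcM, e, k, ?_⟩
    rw [hcc _ (P.zpow_mem hyP e)]
  by_contra hno
  have hno' : ∀ t ∈ P, y * t ≠ t * y → t ^ p ≠ 1 :=
    fun t htP hyt htp => hno (hstruct t htP hyt htp)
  by_cases hp2 : p = 2
  · -- the case `p = 2`
    have ht₀2 : t₀ ^ p ≠ 1 := hno' t₀ ht₀P hyt₀
    obtain ⟨d₀, hd₀⟩ : ∃ d₀, y * t₀ * y⁻¹ * t₀⁻¹ = d₀ := ⟨_, rfl⟩
    have hd₀D : d₀ ∈ D := hd₀ ▸ hcomm y hyP t₀ ht₀P
    have hd₀1 : d₀ ≠ 1 := by
      intro h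
      apply hyt₀
      rw [h] at hd₀
      calc y * t₀ = (y * t₀ * y⁻¹ * t₀⁻¹) * (t₀ * y) := by group
        _ = t₀ * y := by rw [hd₀, one_mul]
    have hd₀2 : d₀ ^ 2 = 1 := by
      have h3 := hDpow d₀ hd₀D
      rw [hp2] at h3
      exact h3
    have hteq : t₀ ^ 2 = d₀ := by
      have h3 : t₀ ^ p ∈ Subgroup.zpowers d₀ := by
        rw [hDgen d₀ hd₀D hd₀1]
        exact hpow t₀ ht₀P
      rw [hp2] at h3 ht₀2
      obtain ⟨k, hk⟩ := Subgroup.mem_zpowers_iff.mp h3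
      have hd₀2' : d₀ ^ (2 : ℤ) = 1 := by
        rw [← hd₀2]
        exact zpow_ofNat d₀ 2
      have h4 := zpow_eq_zpow_emod k hd₀2'
      rcases Int.emod_two_eq_zero_or_one k with h5 | h5
      · exfalso
        apply ht₀2
        rw [← hk, h4, h5, zpow_zero]
      · rw [← hk, h4, h5, zpow_one]
    have hy2 : y ^ 2 = 1 := by
      have h3 := hyp
      rw [hp2] at h3
      exact h3
    have h6 : y * t₀ = d₀ * t₀ * y := by rw [← hd₀]; group
    have h7 : (y * t₀) ^ p = 1 := by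
      rw [hp2, pow_two]
      have hyy : y * y = 1 := by rw [← pow_two]; exact hy2
      have htt : t₀ * t₀ = d₀ := by rw [← pow_two]; exact hteq
      have h9 : y * t₀ * (y * t₀) = (d₀ * t₀ * y) * (y * t₀) := congrArg (· * (y * t₀)) h6
      calc y * t₀ * (y * t₀) = (d₀ * t₀ * y) * (y * t₀) := h9
        _ = d₀ * t₀ * (y * y) * t₀ := by group
        _ = d₀ * (t₀ * t₀) := by rw [hyy]; group
        _ = 1 := by rw [htt, ← pow_two, hd₀2]
    refine hno' (y * t₀) (P.mul_mem hyP ht₀P) ?_ h7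
    intro h
    apply hyt₀
    have h8 : y * (y * t₀) = y * (t₀ * y) := by rw [h]; group
    exact mul_left_cancel h8
  · -- the case `p` odd
    have hMiff : ∀ g, g ∈ M ↔ g ∈ P ∧ g ^ p = 1 := by
      intro g
      constructor
      · intro hg
        exact ⟨hMP hg, hMexp g hg⟩
      · rintro ⟨hgP, hgp⟩
        by_contra hgM
        have h3 : y * g ≠ g * y := fun h => hgM ((hMmem g).mpr ⟨hgP, h⟩)
        exact hno' g hgP h3 hgp
    have hMS : M ≤ S := hMP.trans hPS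
    have : Finite M := finite_of_le hMS
    have hMc : F.StronglyClosed M := by
      refine ⟨hMS, fun R hR φ hφ x => (hMiff _).mpr ⟨hP.2 R (hR.trans hMP) φ hφ x, ?_⟩⟩
      have h1 : x ^ p = 1 :=
        Subtype.ext (by rw [Subgroup.coe_pow]; exact ((hMiff _).mp (hR x.2)).2)
      rw [← map_pow, h1, map_one]
    have hMn : ∀ s ∈ S, ∀ v ∈ M, s * v * s⁻¹ ∈ M :=
      fun s hs v hv => stronglyClosed_conj_mem hMc hs hv
    have hDM : D ≤ M := fun d hd => (hMiff d).mpr ⟨hDP hd, hDpow d hd⟩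
    have hxM : x ∈ M := hDM hxD
    have hψMM : ∀ m ∈ M, ψ m ∈ M := fun m hm => stronglyClosed_mor_mem hMc hψM le_rfl hm
    obtain ⟨γ, hγΓ, hγ⟩ := exists_aut_of_mor hψM hψMM
    have ht₀S : t₀ ∈ S := hPS ht₀P
    obtain ⟨τ, hτΓ, hτ⟩ := exists_aut_of_mor (mor_conj F hMS ht₀S)
      (fun v hv => hMn t₀ ht₀S v hv)
    obtain ⟨yM, hyMdef⟩ : ∃ yM : M, yM = ⟨y, hyM⟩ := ⟨_, rfl⟩
    obtain ⟨xM, hxMdef⟩ : ∃ xM : M, xM = ⟨x, hxM⟩ := ⟨_, rfl⟩
    have hMcomm' : ∀ a b : M, a * b = b * a := fun a b => Subtype.ext (hMcomm a a.2 b b.2)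
    have hγy : γ yM = xM := by
      rw [hyMdef, hxMdef]
      apply Subtype.ext
      rw [hγ]
      exact hψy
    have hγinvx : γ⁻¹ xM = yM := by rw [← hγy, MulAut.inv_apply_self]
    have hτfix : ∀ w : M, (w : Ω) ∈ D → τ w = w := by
      intro w hw
      apply Subtype.ext
      rw [hτ, hDc w hw t₀ ht₀P, mul_assoc, mul_inv_cancel, mul_one]
    have hτcomm : ∀ v : M, ((v⁻¹ * τ v : M) : Ω) ∈ D := by
      intro v
      have h1 := hcomm (v : Ω)⁻¹ (P.inv_mem (hMP v.2)) t₀ ht₀P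
      have h3 : ((v⁻¹ * τ v : M) : Ω) = (v : Ω)⁻¹ * t₀ * (v : Ω)⁻¹⁻¹ * t₀⁻¹ := by
        rw [Subgroup.coe_mul, Subgroup.coe_inv, hτ]
        group
      rw [h3]
      exact h1
    have hxMτ : τ xM = xM := hτfix xM (by rw [hxMdef]; exact hxD)
    obtain ⟨τ', hτ'def⟩ : ∃ τ' : MulAut M, τ' = γ⁻¹ * τ * γ := ⟨_, rfl⟩
    have hτ'y : τ' yM = yM := by
      rw [hτ'def, MulAut.mul_apply, MulAut.mul_apply, hγy, hxMτ, hγinvx]
    obtain ⟨z₁, hz₁def⟩ : ∃ z₁ : M, z₁ = yM⁻¹ * τ yM := ⟨_, rfl⟩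
    have hz₁D : (z₁ : Ω) ∈ D := by rw [hz₁def]; exact hτcomm yM
    have hz₁1 : z₁ ≠ 1 := by
      intro h
      rw [hz₁def] at h
      have h1 : τ yM = yM := by
        have := congrArg (fun w => yM * w) h
        simpa using this
      have h3 := congrArg Subtype.val h1
      rw [hτ, hyMdef] at h3
      apply hyt₀
      have h4 : t₀ * y * t₀⁻¹ = y := h3
      calc y * t₀ = (t₀ * y * t₀⁻¹) * t₀ := by rw [h4]
        _ = t₀ * y := by group
    have hz₁Ω1 : (z₁ : Ω) ≠ 1 := fun h => hz₁1 (Subtype.ext h)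
    have hzpz₁ : Subgroup.zpowers (z₁ : Ω) = D := hDgen _ hz₁D hz₁Ω1
    obtain ⟨u, hudef⟩ : ∃ u : M, u = γ z₁ := ⟨_, rfl⟩
    obtain ⟨c, hcdef⟩ : ∃ c : M, c = u⁻¹ * τ u := ⟨_, rfl⟩
    have hcD : (c : Ω) ∈ D := by rw [hcdef]; exact hτcomm u
    have hy₁eq : z₁⁻¹ * τ' z₁ = γ⁻¹ c := by
      rw [hτ'def, MulAut.mul_apply, MulAut.mul_apply, ← hudef, hcdef, map_mul, map_inv, hudef,
        MulAut.inv_apply_self]
    have hDxM : ∀ w : M, (w : Ω) ∈ D → ∃ m : ℤ, w = xM ^ m := by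
      intro w hw
      rw [← hzx] at hw
      obtain ⟨m, hm⟩ := Subgroup.mem_zpowers_iff.mp hw
      refine ⟨m, ?_⟩
      apply Subtype.ext
      rw [Subgroup.coe_zpow, hxMdef]
      exact hm.symm
    obtain ⟨m, hcm⟩ := hDxM c hcD
    have hy₁m : z₁⁻¹ * τ' z₁ = yM ^ m := by
      rw [hy₁eq, hcm, map_zpow, hγinvx]
    have hyMp : yM ^ p = 1 := by
      apply Subtype.ext
      rw [Subgroup.coe_pow, hyMdef]
      exact hyp
    have hc1 : c ≠ 1 := by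
      intro h
      have h1 : τ u = u := by
        rw [hcdef] at h
        have := congrArg (fun w => u * w) h
        simpa using this
      have h3 : (u : Ω) * t₀ = t₀ * (u : Ω) := by
        have h4 := congrArg Subtype.val h1
        rw [hτ] at h4
        calc (u : Ω) * t₀ = (t₀ * (u : Ω) * t₀⁻¹) * t₀ := by rw [h4]
          _ = t₀ * (u : Ω) := by group
      have hucen : ∀ h ∈ P, (u : Ω) * h = h * (u : Ω) := hG2 u u.2 h3
      have hγD : Mor F D (autFun M γ) := ((mem_autGroup_iff F hMS γ).mp hγΓ).restrict hDM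
      have hval : autFun M γ (z₁ : Ω) = (u : Ω) := by rw [autFun_apply, hudef]
      have h4 := hL1 (autFun M γ) hγD (z₁ : Ω) hz₁D (by rw [hval]; exact hMP u.2)
        (by rw [hval]; exact hucen)
      rw [hval] at h4
      obtain ⟨e, he⟩ := hDxM u h4
      have h5 : z₁ = yM ^ e := by
        have h6 : γ⁻¹ u = z₁ := by rw [hudef, MulAut.inv_apply_self]
        rw [← h6, he, map_zpow, hγinvx]
      have h7 : (z₁ : Ω) ∈ Subgroup.zpowers y := by
        rw [h5, Subgroup.coe_zpow, hyMdef]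
        exact Subgroup.zpow_mem_zpowers y e
      have h8 : Subgroup.zpowers (z₁ : Ω) = Subgroup.zpowers y := zpowers_eq_of_mem h7 hz₁Ω1 hyp
      apply hfx
      rw [← hzpz₁, h8]
      exact Subgroup.mem_zpowers y
    have hy₁1 : yM ^ m ≠ 1 := by
      intro h
      apply hc1
      have h1 : γ⁻¹ c = 1 := by rw [← hy₁eq, hy₁m, h]
      have h3 := congrArg γ h1
      rw [MulAut.apply_inv_self, map_one] at h3
      exact h3
    have hzpy₁ : Subgroup.zpowers (yM ^ m) = Subgroup.zpowers yM :=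
      zpowers_eq_of_mem (Subgroup.zpow_mem_zpowers yM m) hy₁1 hyMp
    obtain ⟨j, hj⟩ : ∃ j : ℕ, (yM ^ m) ^ j = yM⁻¹ := by
      have h1 : yM⁻¹ ∈ Subgroup.zpowers (yM ^ m) := by
        rw [hzpy₁]
        exact Subgroup.inv_mem _ (Subgroup.mem_zpowers yM)
      rw [← mem_powers_iff_mem_zpowers] at h1
      exact (Submonoid.mem_powers_iff _ _).mp h1
    have hA1 : τ (yM⁻¹ * τ yM) = yM⁻¹ * τ yM := by
      rw [← hz₁def]
      exact hτfix z₁ hz₁D
    have hA2 : yM * (yM⁻¹ * τ yM) = (yM⁻¹ * τ yM) * yM := hMcomm' _ _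
    have hA3 : τ' ((yM⁻¹ * τ yM)⁻¹ * τ' (yM⁻¹ * τ yM)) =
        (yM⁻¹ * τ yM)⁻¹ * τ' (yM⁻¹ * τ yM) := by
      rw [← hz₁def, hy₁m, map_zpow, hτ'y]
    have hA4 : ((yM⁻¹ * τ yM)⁻¹ * τ' (yM⁻¹ * τ yM)) ^ j = yM⁻¹ := by
      rw [← hz₁def, hy₁m]
      exact hj
    obtain ⟨β, hβcl, hβy, hβz⟩ :=
      exists_aut_inv_of_transvections τ τ' yM hτ'y hA1 hA2 hA3 j hA4
    rw [← hz₁def] at hβz
    have hτ'Γ : τ' ∈ F.autGroup M := by
      rw [hτ'def]
      exact Subgroup.mul_mem _ (Subgroup.mul_mem _ (Subgroup.inv_mem _ hγΓ) hτΓ) hγΓ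
    have hβΓ : β ∈ F.autGroup M := by
      have hle : Subgroup.closure ({τ, τ'} : Set (MulAut M)) ≤ F.autGroup M := by
        rw [Subgroup.closure_le]
        rintro t (rfl | rfl)
        · exact hτΓ
        · exact hτ'Γ
      exact hle hβcl
    -- `β` commutes with `τ`
    have hτ'z₁ : τ' z₁ = z₁ * yM ^ m := by
      rw [← hy₁m]
      group
    have hτyM : τ yM = yM * z₁ := by
      rw [hz₁def]
      group
    have hfixK : ∀ k : M, τ k = k → τ' k = k → β k = k := by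
      intro k hk1 hk2
      have hle : Subgroup.closure ({τ, τ'} : Set (MulAut M)) ≤
          MulAction.stabilizer (MulAut M) k := by
        rw [Subgroup.closure_le]
        rintro t (rfl | rfl)
        · exact MulAction.mem_stabilizer_iff.mpr hk1
        · exact MulAction.mem_stabilizer_iff.mpr hk2
      exact MulAction.mem_stabilizer_iff.mp (hle hβcl)
    have hβτ : ∀ v : M, β (τ v) = τ (β v) := by
      intro v
      obtain ⟨c₀, hc₀M, hc₀c, e, hve⟩ := hG3 (v : Ω) v.2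
      obtain ⟨c₀M, hc₀Mdef⟩ : ∃ c₀M : M, c₀M = ⟨c₀, hc₀M⟩ := ⟨_, rfl⟩
      have hv : v = yM ^ e * c₀M := by
        apply Subtype.ext
        rw [Subgroup.coe_mul, Subgroup.coe_zpow, hyMdef, hc₀Mdef]
        exact hve
      have hτc₀ : τ c₀M = c₀M := by
        apply Subtype.ext
        rw [hτ, hc₀Mdef]
        show t₀ * c₀ * t₀⁻¹ = c₀
        rw [← hc₀c t₀ ht₀P]
        group
      obtain ⟨w, hwdef⟩ : ∃ w : M, w = (γ c₀M)⁻¹ * τ (γ c₀M) := ⟨_, rfl⟩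
      have hwD : (w : Ω) ∈ D := by rw [hwdef]; exact hτcomm _
      obtain ⟨e', he'⟩ := hDxM w hwD
      have hτ'c₀ : τ' c₀M = c₀M * yM ^ e' := by
        have h1 : c₀M⁻¹ * τ' c₀M = γ⁻¹ w := by
          rw [hτ'def, MulAut.mul_apply, MulAut.mul_apply, hwdef, map_mul, map_inv,
            MulAut.inv_apply_self]
        have h3 : γ⁻¹ w = yM ^ e' := by rw [he', map_zpow, hγinvx]
        rw [← h3, ← h1]
        group
      obtain ⟨b, hb⟩ : ∃ b : ℤ, (yM ^ m) ^ b = yM ^ e' := by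
        have h1 : yM ^ e' ∈ Subgroup.zpowers (yM ^ m) := by
          rw [hzpy₁]
          exact Subgroup.zpow_mem_zpowers yM e'
        exact Subgroup.mem_zpowers_iff.mp h1
      obtain ⟨k, hkdef⟩ : ∃ k : M, k = c₀M * z₁ ^ (-b) := ⟨_, rfl⟩
      have hτk : τ k = k := by
        rw [hkdef, map_mul, map_zpow, hτc₀, hτfix z₁ hz₁D]
      have hτ'k : τ' k = k := by
        rw [hkdef, map_mul, map_zpow, hτ'c₀, hτ'z₁]
        have h1 : (z₁ * yM ^ m) ^ (-b) = z₁ ^ (-b) * (yM ^ m) ^ (-b) :=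
          Commute.mul_zpow (show Commute z₁ (yM ^ m) from hMcomm' z₁ (yM ^ m)) (-b)
        rw [h1, zpow_neg (yM ^ m) b, hb]
        have h3 : yM ^ e' * (z₁ ^ (-b) * (yM ^ e')⁻¹) = z₁ ^ (-b) := by
          rw [hMcomm' (z₁ ^ (-b)) ((yM ^ e')⁻¹)]
          group
        rw [mul_assoc, h3]
      have hβk : β k = k := hfixK k hτk hτ'k
      have hvk : v = yM ^ e * z₁ ^ b * k := by
        rw [hv, hkdef]
        have h1 : z₁ ^ b * (c₀M * z₁ ^ (-b)) = c₀M := by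
          rw [hMcomm' c₀M (z₁ ^ (-b))]
          group
        rw [mul_assoc, h1]
      have hA : β (τ yM) = τ (β yM) := by
        rw [hτyM, map_mul, hβy, hβz, map_inv, hτyM, mul_inv_rev]
        exact hMcomm' _ _
      have hB : β (τ z₁) = τ (β z₁) := by
        rw [hτfix z₁ hz₁D, hβz, map_inv, hτfix z₁ hz₁D]
      have hC : β (τ k) = τ (β k) := by rw [hτk, hβk, hτk]
      rw [hvk]
      simp only [map_mul, map_zpow]
      rw [hA, hB, hC]
    -- extend `β` to `P`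
    have hβF : Mor F M (autFun M β) := (mem_autGroup_iff F hMS β).mp hβΓ
    have hNM : normalizerIn S M = S := by
      apply le_antisymm inf_le_left
      intro s hs
      exact ⟨hs, mem_normalizer_of_finite (fun v hv => hMn s hs v hv)⟩
    have hfnM : F.IsFullyNormalized M := by
      refine ⟨hMS, fun Q _ => ?_⟩
      rw [hNM]
      exact Subgroup.card_le_of_le inf_le_left
    obtain ⟨-, -, hrecM⟩ := Cfsg.Agent.Lib.Helper87.saturated_fullyNormalized p hS F hF hfnM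
    obtain ⟨β', hβ', hβ'M⟩ := receptive_extend' hrecM hβF (img_autFun β)
    have hβconj : ∀ v ∈ M, autFun M β (t₀ * v * t₀⁻¹) = t₀ * autFun M β v * t₀⁻¹ := by
      intro v hv
      have h3 : τ ⟨v, hv⟩ = ⟨t₀ * v * t₀⁻¹, hMn t₀ ht₀S v hv⟩ := Subtype.ext (hτ _)
      rw [autFun_apply' β hv, autFun_apply' β (hMn t₀ ht₀S v hv), ← h3, hβτ, hτ]
    have htext : t₀ ∈ extFn S M (autFun M β) := by
      rw [hβF.mem_extFn]
      exact ⟨ht₀S, mem_normalizer_of_finite (fun v hv => hMn t₀ ht₀S v hv), t₀, ht₀S, hβconj⟩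
    have hPext : P ≤ extFn S M (autFun M β) := by
      intro g hg
      obtain ⟨m', hm', k, rfl⟩ := hG1 g hg
      exact Subgroup.mul_mem _ (hβF.le_extFn hm') (Subgroup.zpow_mem _ htext k)
    have hβ'P : Mor F P β' := hβ'.restrict hPext
    have hβ'PP : ∀ g ∈ P, β' g ∈ P := fun g hg => stronglyClosed_mor_mem hP hβ'P le_rfl hg
    obtain ⟨t', ht'⟩ : ∃ t', t' = β' t₀ := ⟨_, rfl⟩
    have ht'P : t' ∈ P := ht' ▸ hβ'PP t₀ ht₀P
    have hβ'y : β' y⁻¹ = y := by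
      rw [hβ'M _ (M.inv_mem hyM), autFun_apply' β (M.inv_mem hyM)]
      have h1 : (⟨y⁻¹, M.inv_mem hyM⟩ : M) = yM⁻¹ := by rw [hyMdef]; rfl
      rw [h1, map_inv, hβy, inv_inv, hyMdef]
    have hconj : t' * y * t'⁻¹ = t₀ * y * t₀⁻¹ := by
      have h1 : β' (t₀ * y⁻¹ * t₀⁻¹) = t' * y * t'⁻¹ := by
        rw [hβ'P.map_mul (P.mul_mem ht₀P (P.inv_mem hyP)) (P.inv_mem ht₀P),
          hβ'P.map_mul ht₀P (P.inv_mem hyP), hβ'P.map_inv ht₀P, hβ'y, ← ht']
      have hconjM : t₀ * y⁻¹ * t₀⁻¹ ∈ M := hMn t₀ ht₀S _ (M.inv_mem hyM)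
      have h3 : β' (t₀ * y⁻¹ * t₀⁻¹) = t₀ * y * t₀⁻¹ := by
        rw [hβ'M _ hconjM, hβconj _ (M.inv_mem hyM), ← hβ'M _ (M.inv_mem hyM), hβ'y]
      rw [← h1, h3]
    obtain ⟨m₀, hm₀⟩ : ∃ m₀, m₀ = t₀⁻¹ * t' := ⟨_, rfl⟩
    have hm₀M : m₀ ∈ M := by
      rw [hMmem]
      refine ⟨hm₀ ▸ P.mul_mem (P.inv_mem ht₀P) ht'P, ?_⟩
      rw [hm₀]
      calc y * (t₀⁻¹ * t') = t₀⁻¹ * (t₀ * y * t₀⁻¹) * t' := by group
        _ = t₀⁻¹ * (t' * y * t'⁻¹) * t' := by rw [hconj]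
        _ = t₀⁻¹ * t' * y := by group
    have ht'eq : t' = t₀ * m₀ := by
      rw [hm₀]
      group
    have hpow' : t' ^ p = t₀ ^ p := by
      obtain ⟨c', hc'⟩ : ∃ c', c' = m₀ * t₀ * m₀⁻¹ * t₀⁻¹ := ⟨_, rfl⟩
      have hc'D : c' ∈ D := hc' ▸ hcomm m₀ (hMP hm₀M) t₀ ht₀P
      have hc1' : m₀ * t₀ = c' * t₀ * m₀ := by
        rw [hc']
        group
      have hc2 : Commute c' t₀ := (hDc c' hc'D t₀ ht₀P).symm
      have hc3 : Commute c' m₀ := (hDc c' hc'D m₀ (hMP hm₀M)).symm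
      have h1 := mul_pow_of_central hc1' hc2 hc3 p
      have h3 : p ∣ p.choose 2 := hp.out.dvd_choose_self (by norm_num) (by
        have := hp.out.two_le
        omega)
      obtain ⟨q, hq⟩ := h3
      rw [ht'eq, h1, hMexp m₀ hm₀M, hq, pow_mul, hDpow c' hc'D, one_pow, mul_one, mul_one]
    have htpD : t₀ ^ p ∈ D := hpow t₀ ht₀P
    have htp1 : t₀ ^ p ≠ 1 := hno' t₀ ht₀P hyt₀
    have hβ'tp : β' (t₀ ^ p) = (t₀ ^ p)⁻¹ := by
      have htpM : t₀ ^ p ∈ M := hDM htpD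
      rw [hβ'M _ htpM, autFun_apply' β htpM]
      have h1 : t₀ ^ p ∈ Subgroup.zpowers (z₁ : Ω) := by
        rw [hzpz₁]
        exact htpD
      obtain ⟨k, hk⟩ := Subgroup.mem_zpowers_iff.mp h1
      have h3 : (⟨t₀ ^ p, htpM⟩ : M) = z₁ ^ k := by
        apply Subtype.ext
        rw [Subgroup.coe_zpow]
        exact hk.symm
      rw [h3, map_zpow, hβz, inv_zpow, Subgroup.coe_inv, Subgroup.coe_zpow, hk]
    have h5 : (t₀ ^ p)⁻¹ = t₀ ^ p := by
      rw [← hβ'tp, hβ'P.map_pow' ht₀P, ← ht', hpow']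
    have h6 : (t₀ ^ p) ^ 2 = 1 := by
      rw [pow_two]
      nth_rewrite 1 [← h5]
      exact inv_mul_cancel _
    have h7 : orderOf (t₀ ^ p) ∣ Nat.gcd 2 p :=
      Nat.dvd_gcd (orderOf_dvd_of_pow_eq_one h6) (orderOf_dvd_of_pow_eq_one (hDpow _ htpD))
    have h8 : Nat.gcd 2 p = 1 := (Nat.coprime_primes Nat.prime_two hp.out).mpr (Ne.symm hp2)
    rw [h8, Nat.dvd_one] at h7
    exact htp1 (orderOf_eq_one_iff.mp h7)

end Cfsg.Agent.Lib.Helper90
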