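import Cfsg.Agent.Lib.Helper90.GenExtra
import Cfsg.Agent.Lib.Helper72.Frattini
import Cfsg.Agent.Lib.Helper12.NormAbCyc2
import Cfsg.Agent.Lib.Helper3.Extra

set_option autoImplicit false

namespace Cfsg.Agent.Lib.Helper90

open Cfsg

open scoped commutatorElement

section Cube

variable {H : Type*} [Group H]

/-- A group of order `p ^ k` with `k ≤ 2` is commutative. -/
theorem comm_of_card_pow_le_two {p k : ℕ} [hp : Fact p.Prime]
    (h : Nat.card H = p ^ k) (hk : k ≤ 2) : ∀ a b : H, a * b = b * a := by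
  interval_cases k
  · rw [pow_zero] at h
    have : Subsingleton H := (Nat.card_eq_one_iff_unique.mp h).1
    intro a b
    rw [Subsingleton.elim a 1, Subsingleton.elim b 1]
  · rw [pow_one] at h
    have : IsCyclic H := isCyclic_of_prime_card h
    intro a b
    exact IsCyclic.isMulCommutative.is_comm.comm a b
  · intro a b
    exact (IsPGroup.isMulCommutative_of_card_eq_prime_sq (p := p) h).is_comm.comm a b

/-- A nonabelian group of order `p ^ 3` is extraspecial. -/
theorem isExtraspecial_of_card_cube {p : ℕ} [hp : Fact p.Prime]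
    (hcard : Nat.card H = p ^ 3) (hna : ∃ a b : H, a * b ≠ b * a) : Cfsg.IsExtraspecial p H := by
  have hfin : Finite H := Nat.finite_of_card_ne_zero (by rw [hcard]; exact pow_ne_zero _ hp.out.ne_zero)
  have hH : IsPGroup p H := IsPGroup.of_card hcard
  have hnt : Nontrivial H := by
    obtain ⟨a, b, hab⟩ := hna
    exact ⟨⟨a * b, b * a, hab⟩⟩
  obtain ⟨a₀, b₀, hab₀⟩ := hna
  -- the centre has order `p`
  have hZcard : Nat.card (Subgroup.center H) = p := by
    obtain ⟨k, hk⟩ := IsPGroup.iff_card.mp (hH.to_subgroup (Subgroup.center H))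
    have hidx := (Subgroup.center H).card_mul_index
    rw [hk, hcard] at hidx
    have hk3 : k ≤ 3 := by
      have h1 : p ^ k ∣ p ^ 3 := Dvd.intro _ hidx
      exact (Nat.pow_dvd_pow_iff_le_right hp.out.one_lt).mp h1
    have hk0 : k ≠ 0 := by
      rintro rfl
      rw [pow_zero] at hk
      have h1 : Nontrivial (Subgroup.center H) := hH.center_nontrivial
      have h2 := Finite.one_lt_card_iff_nontrivial.mpr h1
      omega
    have hidx' : (Subgroup.center H).index = p ^ (3 - k) := by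
      have h1 : p ^ k * p ^ (3 - k) = p ^ 3 := by
        rw [← pow_add]
        congr 1
        omega
      rw [← h1] at hidx
      exact Nat.eq_of_mul_eq_mul_left (pow_pos hp.out.pos k) hidx
    have hqc : Nat.card (H ⧸ Subgroup.center H) = p ^ (3 - k) := by
      rw [← hidx']
      rfl
    have hk1 : k = 1 := by
      by_contra hk1
      have h2 : 3 - k ≤ 1 := by omega
      -- the quotient by the centre is cyclic
      have hcyc : IsCyclic (H ⧸ Subgroup.center H) := by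
        rcases (by omega : 3 - k = 0 ∨ 3 - k = 1) with h3 | h3
        · rw [h3, pow_zero] at hqc
          have : Subsingleton (H ⧸ Subgroup.center H) := (Nat.card_eq_one_iff_unique.mp hqc).1
          exact isCyclic_of_subsingleton
        · rw [h3, pow_one] at hqc
          exact isCyclic_of_prime_card hqc
      apply hab₀
      exact (MonoidHom.isMulCommutative_of_isCyclic_of_ker_le_center
        (QuotientGroup.mk' (Subgroup.center H)) (by rw [QuotientGroup.ker_mk'])).is_comm.comm a₀ b₀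
    rw [hk, hk1, pow_one]
  have hqcard : Nat.card (H ⧸ Subgroup.center H) = p ^ 2 := by
    have hidx := (Subgroup.center H).card_mul_index
    rw [hZcard, hcard] at hidx
    have h1 : p * p ^ 2 = p ^ 3 := by ring
    rw [← h1] at hidx
    exact Nat.eq_of_mul_eq_mul_left hp.out.pos hidx
  have hqcomm : ∀ a b : H ⧸ Subgroup.center H, a * b = b * a :=
    fun a b => (IsPGroup.isMulCommutative_of_card_eq_prime_sq (p := p) hqcard).is_comm.comm a b
  have hcomm : ∀ a b : H, a * b * a⁻¹ * b⁻¹ ∈ Subgroup.center H := by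
    intro a b
    rw [← QuotientGroup.eq_one_iff]
    have h1 := hqcomm (a : H ⧸ Subgroup.center H) (b : H ⧸ Subgroup.center H)
    simp only [QuotientGroup.mk_mul, QuotientGroup.mk_inv]
    rw [h1]
    group
  have hpow : ∀ a : H, a ^ p ∈ Subgroup.center H := by
    intro a
    rw [← QuotientGroup.eq_one_iff, QuotientGroup.mk_pow]
    obtain ⟨q, hq⟩ : ∃ q : H ⧸ Subgroup.center H, q = (a : H ⧸ Subgroup.center H) := ⟨_, rfl⟩
    rw [← hq]
    have hfq : Finite (H ⧸ Subgroup.center H) := inferInstance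
    have h1 : orderOf q ∣ p ^ 2 := hqcard ▸ orderOf_dvd_natCard q
    obtain ⟨j, hj, hoj⟩ := (Nat.dvd_prime_pow hp.out).mp h1
    have hj2 : j ≠ 2 := by
      rintro rfl
      have hcyc : IsCyclic (H ⧸ Subgroup.center H) :=
        isCyclic_of_orderOf_eq_card q (by rw [hoj, hqcard])
      apply hab₀
      exact (MonoidHom.isMulCommutative_of_isCyclic_of_ker_le_center
        (QuotientGroup.mk' (Subgroup.center H)) (by rw [QuotientGroup.ker_mk'])).is_comm.comm a₀ b₀
    have hj1 : j ≤ 1 := by omega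
    have h2 : orderOf q ∣ p := by
      rw [hoj]
      have h3 : p ^ j ∣ p ^ 1 := pow_dvd_pow p hj1
      rwa [pow_one] at h3
    exact orderOf_dvd_iff_pow_eq_one.mp h2
  have hcle : commutator H ≤ Subgroup.center H := by
    rw [commutator_def, Subgroup.commutator_le]
    intro a _ b _
    rw [commutatorElement_def]
    exact hcomm a b
  have hcne : commutator H ≠ ⊥ := by
    intro h
    apply hab₀
    have h1 : ⁅a₀, b₀⁆ ∈ commutator H := by
      rw [commutator_def]
      exact Subgroup.commutator_mem_commutator (Subgroup.mem_top _) (Subgroup.mem_top _)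
    rw [h, Subgroup.mem_bot, commutatorElement_def] at h1
    calc a₀ * b₀ = (a₀ * b₀ * a₀⁻¹ * b₀⁻¹) * (b₀ * a₀) := by group
      _ = b₀ * a₀ := by rw [h1, one_mul]
  have hceq : commutator H = Subgroup.center H := by
    apply Subgroup.eq_of_le_of_card_ge hcle
    rw [hZcard]
    obtain ⟨k, hk⟩ := IsPGroup.iff_card.mp (hH.to_subgroup (commutator H))
    rw [hk]
    have hk0 : k ≠ 0 := by
      rintro rfl
      rw [pow_zero] at hk
      exact hcne (Subgroup.card_eq_one.mp hk)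
    calc p = p ^ 1 := (pow_one p).symm
      _ ≤ p ^ k := Nat.pow_le_pow_right hp.out.pos (by omega)
  have hfeq : frattini H = Subgroup.center H := by
    apply le_antisymm
    · exact Cfsg.Agent.Lib.Helper72.frattini_le_of_forall_pow_mem hp.out (Subgroup.center H) hpow hcomm
    · rw [← hceq, commutator_def, Subgroup.commutator_le]
      intro a _ b _
      rw [commutatorElement_def]
      exact Cfsg.Agent.Lib.Helper72.comm_mem_frattini hH a b
  exact ⟨⟨hH, hfeq, hceq⟩, hZcard⟩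

end Cube

section Complement

variable {G : Type*} [Group G]

/-- In a central subgroup `Z₁` of exponent `p`, every subgroup `D₀` has a complement. -/
theorem exists_complement_of_exp [Finite G] {p : ℕ} [hp : Fact p.Prime] (Z₁ D₀ : Subgroup G)
    (hZc : ∀ a ∈ Z₁, ∀ g : G, a * g = g * a) (hexp : ∀ a ∈ Z₁, a ^ p = 1) (hD : D₀ ≤ Z₁) :
    ∃ A : Subgroup G, A ≤ Z₁ ∧ A ⊓ D₀ = ⊥ ∧ ∀ c ∈ Z₁, ∃ d ∈ D₀, ∃ a ∈ A, c = d * a := by
  classical
  let 𝒜 : Set (Subgroup G) := {A | A ≤ Z₁ ∧ A ⊓ D₀ = ⊥}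
  have hne : Nonempty 𝒜 := ⟨⟨⊥, bot_le, bot_inf_eq _⟩⟩
  obtain ⟨⟨A, hAZ, hAD⟩, hmax⟩ := Finite.exists_max (fun A : 𝒜 => Nat.card (A : Subgroup G))
  refine ⟨A, hAZ, hAD, ?_⟩
  have key : ∀ c ∈ Z₁, c ∈ D₀ ⊔ A := by
    intro c hc
    by_contra hcn
    have hA₁Z : A ⊔ Subgroup.zpowers c ≤ Z₁ := sup_le hAZ (Subgroup.zpowers_le.mpr hc)
    have hA₁D : (A ⊔ Subgroup.zpowers c) ⊓ D₀ = ⊥ := by
      rw [eq_bot_iff]
      intro g hg
      obtain ⟨hg1, hg2⟩ := Subgroup.mem_inf.mp hg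
      obtain ⟨a, ha, w, hw, rfl⟩ := exists_mul_of_mem_sup (P := A) (Q := Subgroup.zpowers c)
        (fun x hx q hq => by
          have h1 : x * q * x⁻¹ = q := by rw [hZc x (hAZ hx) q]; group
          rw [h1]
          exact hq) hg1
      by_cases hw1 : w = 1
      · rw [hw1, mul_one] at hg2 ⊢
        have h1 : a ∈ A ⊓ D₀ := Subgroup.mem_inf.mpr ⟨ha, hg2⟩
        rw [hAD] at h1
        exact h1
      · exfalso
        apply hcn
        have h1 : Subgroup.zpowers w = Subgroup.zpowers c := zpowers_eq_of_mem hw hw1 (hexp c hc)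
        have h2 : w ∈ D₀ ⊔ A := by
          have h3 : w = a⁻¹ * (a * w) := by group
          rw [h3]
          exact Subgroup.mul_mem _ (Subgroup.mem_sup_right (A.inv_mem ha))
            (Subgroup.mem_sup_left hg2)
        have h3 : Subgroup.zpowers w ≤ D₀ ⊔ A := Subgroup.zpowers_le.mpr h2
        rw [h1] at h3
        exact h3 (Subgroup.mem_zpowers c)
    have h1 : Nat.card (A ⊔ Subgroup.zpowers c : Subgroup G) ≤ Nat.card A :=
      hmax ⟨A ⊔ Subgroup.zpowers c, hA₁Z, hA₁D⟩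
    have h2 : A = A ⊔ Subgroup.zpowers c := Subgroup.eq_of_le_of_card_ge le_sup_left h1
    apply hcn
    have h3 : c ∈ A := by
      rw [h2]
      exact Subgroup.mem_sup_right (Subgroup.mem_zpowers c)
    exact Subgroup.mem_sup_right h3
  intro c hc
  obtain ⟨d, hd, a, ha, rfl⟩ := exists_mul_of_mem_sup (P := D₀) (Q := A)
    (fun x hx q hq => by
      have h1 : x * q * x⁻¹ = q := by rw [hZc x (hD hx) q]; group
      rw [h1]
      exact hq) (key c hc)
  exact ⟨d, hd, a, ha, rfl⟩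

/-- A type in `Type` with `n` elements and no algebraic structure. -/
structure Pt (n : ℕ) where
  /-- the underlying index -/
  val : Fin n

/-- The points of `Pt n` are indexed by `Fin n`. -/
def ptEquiv (n : ℕ) : Pt n ≃ Fin n := ⟨Pt.val, Pt.mk, fun _ => rfl, fun _ => rfl⟩

theorem exists_type0_group (H : Type*) [Group H] [Finite H] :
    ∃ (H' : Type) (_ : Group H'), Nonempty (H ≃* H') := by
  let e : Pt (Nat.card H) ≃ H := (ptEquiv _).trans (Finite.equivFin H).symm
  letI G0 : Group (Pt (Nat.card H)) := e.group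
  let φ : Pt (Nat.card H) ≃* H := { e with map_mul' := fun a b => e.apply_symm_apply _ }
  exact ⟨Pt (Nat.card H), G0, ⟨φ.symm⟩⟩

theorem exists_type0_commGroup (H : Type*) [Group H] [Finite H]
    (hc : ∀ a b : H, a * b = b * a) :
    ∃ (H' : Type) (_ : CommGroup H'), Nonempty (H ≃* H') := by
  let e : Pt (Nat.card H) ≃ H := (ptEquiv _).trans (Finite.equivFin H).symm
  letI G0 : Group (Pt (Nat.card H)) := e.group
  let φ : Pt (Nat.card H) ≃* H := { e with map_mul' := fun a b => e.apply_symm_apply _ }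
  refine ⟨Pt (Nat.card H), { G0 with mul_comm := fun a b => ?_ }, ⟨φ.symm⟩⟩
  apply φ.injective
  rw [map_mul, map_mul, hc]

end Complement

section Iso

variable {G : Type*} [Group G]

theorem exists_fin_zpow {p : ℕ} [hp : Fact p.Prime] (x : G) (hx : x ^ p = 1) (m : ℤ) :
    ∃ n : Fin p, x ^ m = x ^ ((n : ℕ) : ℤ) := by
  obtain ⟨r, hr⟩ : ∃ r : ℤ, r = m % (p : ℤ) := ⟨_, rfl⟩
  have hpz : (0 : ℤ) < p := by exact_mod_cast hp.out.pos
  have h0 : 0 ≤ r := hr ▸ Int.emod_nonneg m hpz.ne'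
  have h1 : r < p := hr ▸ Int.emod_lt_of_pos m hpz
  refine ⟨⟨r.toNat, by omega⟩, ?_⟩
  show x ^ m = x ^ ((r.toNat : ℕ) : ℤ)
  rw [Int.toNat_of_nonneg h0, hr]
  exact zpow_eq_zpow_emod' m hx

open Cfsg.Agent.Lib.Helper3.Extra in
/-- The structure of the exceptional groups: a direct product of a nonabelian group of order
`p ^ 3` and a central subgroup of exponent `p`. -/
theorem exists_decomp [Finite G] {p : ℕ} [hp : Fact p.Prime] (hG : IsPGroup p G)
    (y t : G) (hy : y ^ p = 1) (ht : t ^ p = 1) (hyt : y * t ≠ t * y)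
    (hd : y * t * y⁻¹ * t⁻¹ ∈ Subgroup.center G)
    (hdec : ∀ g : G, ∃ c ∈ Subgroup.center G, c ^ p = 1 ∧ ∃ i j : ℤ, g = c * y ^ i * t ^ j) :
    ∃ E A : Subgroup G, Nat.card E = p ^ 3 ∧ (∃ u v : E, u * v ≠ v * u) ∧
      (p ≠ 2 → ∀ e : E, e ^ p = 1) ∧
      (p = 2 → Nonempty (E ≃* DihedralGroup 4)) ∧
      (∀ a b : A, a * b = b * a) ∧ (∀ a : A, a ^ p = 1) ∧ Nonempty (G ≃* E × A) := by
  classical
  obtain ⟨d₀, hd₀⟩ : ∃ d₀, y * t * y⁻¹ * t⁻¹ = d₀ := ⟨_, rfl⟩
  rw [hd₀] at hd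
  have hd₀1 : d₀ ≠ 1 := by
    intro h
    apply hyt
    rw [h] at hd₀
    calc y * t = (y * t * y⁻¹ * t⁻¹) * (t * y) := by group
      _ = t * y := by rw [hd₀, one_mul]
  have hdc : ∀ g : G, g * d₀ = d₀ * g := fun g => Subgroup.mem_center_iff.mp hd g
  have hdy : Commute d₀ y := (hdc y).symm
  have hdt : Commute d₀ t := (hdc t).symm
  have hd₀p : d₀ ^ p = 1 := by
    have h1 := zpow_mul_of_comm hd₀ hdy hdt (p : ℤ)
    rw [zpow_natCast, zpow_natCast, hy, one_mul, mul_one] at h1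
    have h2 := congrArg (· * t⁻¹) h1
    simp only [mul_inv_cancel, mul_inv_cancel_right] at h2
    exact h2.symm
  have hord : orderOf d₀ = p := orderOf_eq_prime hd₀p hd₀1
  have h : y * t = d₀ * t * y := by rw [← hd₀]; group
  obtain ⟨Φ, hΦ⟩ : ∃ Φ : Heis →* G, ∀ u : Heis, Φ u = d₀ ^ u.a * y ^ u.b * t ^ u.c :=
    ⟨heisHom y t d₀ h hdy.eq hdt.eq, fun u => heisHom_apply y t d₀ h hdy.eq hdt.eq u⟩
  obtain ⟨E, hE⟩ : ∃ E : Subgroup G, E = Φ.range := ⟨_, rfl⟩
  have hmemE : ∀ g, g ∈ E ↔ ∃ u : Heis, Φ u = g := by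
    intro g
    rw [hE]
    exact MonoidHom.mem_range
  have hyE : y ∈ E := (hmemE y).mpr ⟨⟨0, 1, 0⟩, by rw [hΦ]; simp⟩
  have htE : t ∈ E := (hmemE t).mpr ⟨⟨0, 0, 1⟩, by rw [hΦ]; simp⟩
  have hcardle : Nat.card E ≤ p ^ 3 := by
    let q : Fin p × Fin p × Fin p → E := fun abc =>
      ⟨Φ ⟨((abc.1 : ℕ) : ℤ), ((abc.2.1 : ℕ) : ℤ), ((abc.2.2 : ℕ) : ℤ)⟩, (hmemE _).mpr ⟨_, rfl⟩⟩
    have hq : Function.Surjective q := by
      rintro ⟨g, hg⟩
      obtain ⟨u, rfl⟩ := (hmemE g).mp hg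
      obtain ⟨na, hna⟩ := exists_fin_zpow d₀ hd₀p u.a
      obtain ⟨nb, hnb⟩ := exists_fin_zpow y hy u.b
      obtain ⟨nc, hnc⟩ := exists_fin_zpow t ht u.c
      refine ⟨⟨na, nb, nc⟩, ?_⟩
      apply Subtype.ext
      show Φ ⟨((na : ℕ) : ℤ), ((nb : ℕ) : ℤ), ((nc : ℕ) : ℤ)⟩ = Φ u
      rw [hΦ, hΦ]
      show d₀ ^ ((na : ℕ) : ℤ) * y ^ ((nb : ℕ) : ℤ) * t ^ ((nc : ℕ) : ℤ) = _
      rw [← hna, ← hnb, ← hnc]
    have h1 := Nat.card_le_card_of_surjective q hq
    rw [Nat.card_prod, Nat.card_prod, Nat.card_fin] at h1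
    calc Nat.card E ≤ p * (p * p) := h1
      _ = p ^ 3 := by ring
  have hEp : IsPGroup p E := hG.to_subgroup E
  obtain ⟨k, hk⟩ := IsPGroup.iff_card.mp hEp
  have hEna : ∃ u v : E, u * v ≠ v * u :=
    ⟨⟨y, hyE⟩, ⟨t, htE⟩, fun h' => hyt (congrArg Subtype.val h')⟩
  have hk3 : k = 3 := by
    have h1 : 2 < k := by
      by_contra h2
      obtain ⟨u, v, huv⟩ := hEna
      exact huv (comm_of_card_pow_le_two hk (by omega) u v)
    have h2 : k ≤ 3 := by
      rw [hk] at hcardle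
      exact (Nat.pow_le_pow_iff_right hp.out.one_lt).mp hcardle
    omega
  have hEcard : Nat.card E = p ^ 3 := by rw [hk, hk3]
  -- the central elements of exponent `p`
  let Z₁ : Subgroup G :=
    { carrier := {c | c ∈ Subgroup.center G ∧ c ^ p = 1}
      mul_mem' := by
        rintro a b ⟨ha, hap⟩ ⟨hb, hbp⟩
        refine ⟨Subgroup.mul_mem _ ha hb, ?_⟩
        have hc : Commute a b := (Subgroup.mem_center_iff.mp ha b).symm
        rw [hc.mul_pow, hap, hbp, one_mul]
      one_mem' := ⟨Subgroup.one_mem _, one_pow _⟩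
      inv_mem' := by
        rintro a ⟨ha, hap⟩
        exact ⟨Subgroup.inv_mem _ ha, by rw [inv_pow, hap, inv_one]⟩ }
  have hZ₁mem : ∀ c, c ∈ Z₁ ↔ c ∈ Subgroup.center G ∧ c ^ p = 1 := fun c => Iff.rfl
  have hD₀Z : Subgroup.zpowers d₀ ≤ Z₁ := Subgroup.zpowers_le.mpr ((hZ₁mem d₀).mpr ⟨hd, hd₀p⟩)
  obtain ⟨A, hAZ, hAD, hAdec⟩ := exists_complement_of_exp Z₁ (Subgroup.zpowers d₀)
    (fun a ha g => (Subgroup.mem_center_iff.mp ((hZ₁mem a).mp ha).1 g).symm)
    (fun a ha => ((hZ₁mem a).mp ha).2) hD₀Z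
  have hAc : ∀ a ∈ A, ∀ g : G, a * g = g * a :=
    fun a ha g => (Subgroup.mem_center_iff.mp ((hZ₁mem a).mp (hAZ ha)).1 g).symm
  -- a central element `y ^ b * t ^ c` is trivial
  have hcen : ∀ b c : ℤ, y ^ b * t ^ c ∈ Subgroup.center G → y ^ b = 1 ∧ t ^ c = 1 := by
    intro b c hbc
    have h1 := Subgroup.mem_center_iff.mp hbc t
    have h2 := Subgroup.mem_center_iff.mp hbc y
    have h3 : y ^ b * t = t * y ^ b := by
      have h4 : t * y ^ b * t ^ c = y ^ b * t * t ^ c := by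
        calc t * y ^ b * t ^ c = t * (y ^ b * t ^ c) := by group
          _ = y ^ b * t ^ c * t := h1
          _ = y ^ b * t * t ^ c := by group
      exact (mul_right_cancel h4).symm
    have h4 := zpow_mul_of_comm hd₀ hdy hdt b
    have h5 : d₀ ^ b = 1 := by
      rw [h3] at h4
      have h6 : d₀ ^ b * (t * y ^ b) = 1 * (t * y ^ b) := by
        rw [one_mul, ← mul_assoc]
        exact h4.symm
      exact mul_right_cancel h6
    have h6 : y * t ^ c = t ^ c * y := by
      have h7 : y ^ b * (y * t ^ c) = y ^ b * (t ^ c * y) := by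
        calc y ^ b * (y * t ^ c) = y * (y ^ b * t ^ c) := by group
          _ = y ^ b * t ^ c * y := h2
          _ = y ^ b * (t ^ c * y) := by group
      exact mul_left_cancel h7
    have h7 := mul_zpow_of_comm hd₀ hdy hdt c
    have h8 : d₀ ^ c = 1 := by
      rw [h6] at h7
      have h9 : d₀ ^ c * (t ^ c * y) = 1 * (t ^ c * y) := by
        rw [one_mul, ← mul_assoc]
        exact h7.symm
      exact mul_right_cancel h9
    have hb : (p : ℤ) ∣ b := by
      rw [← hord]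
      exact orderOf_dvd_iff_zpow_eq_one.mpr h5
    have hc : (p : ℤ) ∣ c := by
      rw [← hord]
      exact orderOf_dvd_iff_zpow_eq_one.mpr h8
    obtain ⟨b', rfl⟩ := hb
    obtain ⟨c', rfl⟩ := hc
    constructor
    · rw [zpow_mul, zpow_natCast, hy, one_zpow]
    · rw [zpow_mul, zpow_natCast, ht, one_zpow]
  have hEA : ∀ g, g ∈ E → g ∈ A → g = 1 := by
    intro g hgE hgA
    obtain ⟨u, rfl⟩ := (hmemE g).mp hgE
    rw [hΦ] at hgA ⊢
    have hgc : d₀ ^ u.a * y ^ u.b * t ^ u.c ∈ Subgroup.center G := ((hZ₁mem _).mp (hAZ hgA)).1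
    have h1 : y ^ u.b * t ^ u.c ∈ Subgroup.center G := by
      have h2 : y ^ u.b * t ^ u.c = (d₀ ^ u.a)⁻¹ * (d₀ ^ u.a * y ^ u.b * t ^ u.c) := by group
      rw [h2]
      exact Subgroup.mul_mem _ (Subgroup.inv_mem _ (Subgroup.zpow_mem _ hd _)) hgc
    obtain ⟨h3, h4⟩ := hcen _ _ h1
    rw [h3, h4, mul_one, mul_one] at hgA ⊢
    have h5 : d₀ ^ u.a ∈ A ⊓ Subgroup.zpowers d₀ :=
      Subgroup.mem_inf.mpr ⟨hgA, Subgroup.zpow_mem_zpowers d₀ _⟩
    rw [hAD] at h5
    exact Subgroup.mem_bot.mp h5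
  -- the isomorphism
  let Ψ : E × A →* G :=
    MonoidHom.noncommCoprod E.subtype A.subtype (fun e a => (hAc a a.2 e).symm)
  have hΨ : ∀ x : E × A, Ψ x = (x.1 : G) * (x.2 : G) := fun x => rfl
  have hinj : Function.Injective Ψ := by
    rw [injective_iff_map_eq_one]
    rintro ⟨e, a⟩ hea
    rw [hΨ] at hea
    have h1 : (e : G) = (a : G)⁻¹ := eq_inv_of_mul_eq_one_left hea
    have h2 : (e : G) = 1 := hEA _ e.2 (by rw [h1]; exact A.inv_mem a.2)
    have h3 : (a : G) = 1 := by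
      have h4 : (e : G) * (a : G) = 1 := hea
      rw [h2, one_mul] at h4
      exact h4
    exact Prod.ext (Subtype.ext h2) (Subtype.ext h3)
  have hsurj : Function.Surjective Ψ := by
    intro g
    obtain ⟨c, hc, hcp, i, j, rfl⟩ := hdec g
    obtain ⟨d, hdd, a, ha, rfl⟩ := hAdec c ((hZ₁mem c).mpr ⟨hc, hcp⟩)
    obtain ⟨k', rfl⟩ := Subgroup.mem_zpowers_iff.mp hdd
    refine ⟨⟨⟨Φ ⟨k', i, j⟩, (hmemE _).mpr ⟨_, rfl⟩⟩, ⟨a, ha⟩⟩, ?_⟩
    rw [hΨ]
    show Φ ⟨k', i, j⟩ * a = d₀ ^ k' * a * y ^ i * t ^ j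
    rw [hΦ]
    show d₀ ^ k' * y ^ i * t ^ j * a = d₀ ^ k' * a * y ^ i * t ^ j
    calc d₀ ^ k' * y ^ i * t ^ j * a = d₀ ^ k' * ((y ^ i * t ^ j) * a) := by group
      _ = d₀ ^ k' * (a * (y ^ i * t ^ j)) := by rw [hAc a ha]
      _ = d₀ ^ k' * a * y ^ i * t ^ j := by group
  refine ⟨E, A, hEcard, hEna, ?_, ?_, ?_, ?_, ⟨(MulEquiv.ofBijective Ψ ⟨hinj, hsurj⟩).symm⟩⟩
  · -- exponent `p` for odd `p`
    intro hp2 e
    obtain ⟨u, hu⟩ := (hmemE e).mp e.2
    apply Subtype.ext
    rw [Subgroup.coe_pow, ← hu, hΦ]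
    show (d₀ ^ u.a * y ^ u.b * t ^ u.c) ^ p = 1
    have hs := swap_zpow y t d₀ h hdy.eq hdt.eq u.b u.c
    obtain ⟨c', hc'⟩ : ∃ c', c' = d₀ ^ (-(u.c * u.b)) := ⟨_, rfl⟩
    rw [← hc'] at hs
    have hc'y : Commute c' (y ^ u.b) := by
      rw [hc']
      exact (hdy.zpow_left _).zpow_right _
    have hc't : Commute c' (t ^ u.c) := by
      rw [hc']
      exact (hdt.zpow_left _).zpow_right _
    have h1 := mul_pow_of_central hs hc'y hc't p
    have h3 : p ∣ p.choose 2 := hp.out.dvd_choose_self (by norm_num) (by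
      have := hp.out.two_le
      omega)
    obtain ⟨q, hq⟩ := h3
    have hpowp : ∀ (x : G) (n : ℤ), x ^ p = 1 → (x ^ n) ^ p = 1 := by
      intro x n hx
      rw [← zpow_natCast, ← zpow_mul, mul_comm, zpow_mul, zpow_natCast, hx, one_zpow]
    have hc'p : c' ^ p = 1 := by
      rw [hc']
      exact hpowp d₀ _ hd₀p
    have hcomm1 : Commute (d₀ ^ u.a) (y ^ u.b * t ^ u.c) :=
      ((hdy.zpow_left _).zpow_right _).mul_right ((hdt.zpow_left _).zpow_right _)
    rw [mul_assoc, hcomm1.mul_pow, hpowp d₀ _ hd₀p, one_mul, h1, hpowp y _ hy, hpowp t _ ht, hq,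
      pow_mul, hc'p, one_pow, mul_one, mul_one]
  · -- the dihedral group for `p = 2`
    intro hp2
    subst hp2
    have hy2 : y * y = 1 := by rw [← pow_two]; exact hy
    have ht2 : t * t = 1 := by rw [← pow_two]; exact ht
    have hyinv : y⁻¹ = y := inv_eq_of_mul_eq_one_left hy2
    have htinv : t⁻¹ = t := inv_eq_of_mul_eq_one_left ht2
    have hyt2 : (y * t) * (y * t) = d₀ := by
      rw [← hd₀, hyinv, htinv]
      group
    have hytE : y * t ∈ E := E.mul_mem hyE htE
    have ha4 : orderOf (⟨y * t, hytE⟩ : E) = 4 := by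
      have h1 : ¬ (⟨y * t, hytE⟩ : E) ^ 2 ^ 1 = 1 := by
        intro h2
        apply hd₀1
        have h3 := congrArg Subtype.val h2
        rw [pow_one, pow_two] at h3
        rw [← hyt2]
        exact h3
      have h2 : (⟨y * t, hytE⟩ : E) ^ 2 ^ (1 + 1) = 1 := by
        apply Subtype.ext
        show (y * t) ^ 2 ^ (1 + 1) = 1
        have h3 : (y * t) ^ 2 ^ (1 + 1) = ((y * t) * (y * t)) ^ 2 := by
          rw [← pow_two, ← pow_mul]
          norm_num
        rw [h3, hyt2]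
        exact hd₀p
      have h3 := orderOf_eq_prime_pow h1 h2
      rw [h3]
      norm_num
    refine Cfsg.Agent.Lib.Helper12.nonempty_mulEquiv_dihedral (by norm_num)
      (⟨y * t, hytE⟩ : E) (⟨y, hyE⟩ : E) (by rw [hEcard]; norm_num) ha4 ?_ ?_ ?_
    · intro hmem
      obtain ⟨n, hn⟩ := Subgroup.mem_zpowers_iff.mp hmem
      apply hyt
      have h2 := congrArg Subtype.val hn
      rw [Subgroup.coe_zpow] at h2
      have h3 : (y * t) ^ n = y := h2
      have h4 := (Commute.refl (y * t)).zpow_right n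
      rw [h3] at h4
      have h5 : y * t * y = y * (y * t) := h4.eq
      rw [mul_assoc] at h5
      exact (mul_left_cancel h5).symm
    · apply Subtype.ext
      rw [Subgroup.coe_pow]
      exact hy
    · apply Subtype.ext
      show y * (y * t) * y⁻¹ = (y * t)⁻¹
      rw [mul_inv_rev, hyinv, htinv, ← mul_assoc, hy2, one_mul]
  · intro a b
    exact Subtype.ext (hAc a a.2 b)
  · intro a
    apply Subtype.ext
    rw [Subgroup.coe_pow]
    exact ((hZ₁mem a).mp (hAZ a.2)).2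

end Iso

section Final

variable {G : Type*} [Group G]

/-- The exceptional groups, with models in `Type`. -/
theorem exists_exceptional_iso [Finite G] {p : ℕ} [hp : Fact p.Prime] (hG : IsPGroup p G)
    (y t : G) (hy : y ^ p = 1) (ht : t ^ p = 1) (hyt : y * t ≠ t * y)
    (hd : y * t * y⁻¹ * t⁻¹ ∈ Subgroup.center G)
    (hdec : ∀ g : G, ∃ c ∈ Subgroup.center G, c ^ p = 1 ∧ ∃ i j : ℤ, g = c * y ^ i * t ^ j) :
    (p = 2 → ∃ (A : Type) (_ : CommGroup A), (∀ a : A, a ^ 2 = 1) ∧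
      Nonempty (G ≃* DihedralGroup 4 × A)) ∧
    (p ≠ 2 → ∃ (E : Type) (_ : Group E) (A : Type) (_ : CommGroup A),
      Cfsg.IsExtraspecial p E ∧ Nat.card E = p ^ 3 ∧ Monoid.exponent E = p ∧
      (∀ a : A, a ^ p = 1) ∧ Nonempty (G ≃* E × A)) := by
  obtain ⟨E, A, hEcard, hEna, hexp, hdih, hAcomm, hAexp, ⟨φ⟩⟩ :=
    exists_decomp hG y t hy ht hyt hd hdec
  obtain ⟨A', instA', ⟨ψA⟩⟩ := exists_type0_commGroup A hAcomm
  have hA'exp : ∀ a : A', a ^ p = 1 := by
    intro a
    obtain ⟨a₀, rfl⟩ := ψA.surjective a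
    rw [← map_pow, hAexp, map_one]
  constructor
  · intro hp2
    obtain ⟨δ⟩ := hdih hp2
    refine ⟨A', instA', ?_, ⟨φ.trans (MulEquiv.prodCongr δ ψA)⟩⟩
    intro a
    have h1 := hA'exp a
    rw [hp2] at h1
    exact h1
  · intro hp2
    obtain ⟨E', instE', ⟨ψE⟩⟩ := exists_type0_group E
    have hE'card : Nat.card E' = p ^ 3 := by
      rw [← hEcard]
      exact Nat.card_congr ψE.symm.toEquiv
    have hE'na : ∃ a b : E', a * b ≠ b * a := by
      obtain ⟨u, v, huv⟩ := hEna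
      exact ⟨ψE u, ψE v, fun h => huv (ψE.injective (by rw [map_mul, map_mul, h]))⟩
    have hE'exp : ∀ e : E', e ^ p = 1 := by
      intro e
      obtain ⟨e₀, rfl⟩ := ψE.surjective e
      rw [← map_pow, hexp hp2, map_one]
    refine ⟨E', instE', A', instA', isExtraspecial_of_card_cube hE'card hE'na, hE'card, ?_,
      hA'exp, ⟨φ.trans (MulEquiv.prodCongr ψE ψA)⟩⟩
    have h1 : Monoid.exponent E' ∣ p := Monoid.exponent_dvd_of_forall_pow_eq_one hE'exp
    rcases (Nat.dvd_prime hp.out).mp h1 with h2 | h2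
    · exfalso
      have hsub : Subsingleton E' := Monoid.exp_eq_one_iff.mp h2
      obtain ⟨a, b, hab⟩ := hE'na
      exact hab (Subsingleton.elim _ _)
    · exact h2

end Final

section Fusion

open Cfsg.FusionSystem

variable {Ω : Type*} [Group Ω] {S : Subgroup Ω} {F : FusionSystem S}

/-- A strongly closed generalized extraspecial subgroup is normal, unless it is one of the
exceptional groups. -/
theorem isNormal_of_genExtraspecial [Finite S] {p : ℕ} [hp : Fact p.Prime] (hS : IsPGroup p S)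
    (hF : F.IsSaturated p) {P : Subgroup Ω} (hP : F.StronglyClosed P)
    (hge : frattini ↥P = commutator ↥P ∧ Nat.card ↥(commutator ↥P) = p)
    (h2 : p = 2 → ¬ ∃ (A : Type) (_ : CommGroup A), (∀ a : A, a ^ 2 = 1) ∧
      Nonempty (↥P ≃* DihedralGroup 4 × A))
    (hodd : p ≠ 2 → ¬ ∃ (E : Type) (_ : Group E) (A : Type) (_ : CommGroup A),
      Cfsg.IsExtraspecial p E ∧ Nat.card E = p ^ 3 ∧ Monoid.exponent E = p ∧
      (∀ a : A, a ^ p = 1) ∧ Nonempty (↥P ≃* E × A)) : F.IsNormal P := by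
  classical
  have hPS : P ≤ S := hP.1
  have : Finite P := finite_of_le hPS
  have hPp : IsPGroup p P := hS.to_le hPS
  obtain ⟨D, hDdef⟩ : ∃ D : Subgroup Ω, D = (commutator ↥P).map P.subtype := ⟨_, rfl⟩
  have hDP : D ≤ P := by
    rw [hDdef]
    exact Subgroup.map_subtype_le _
  have hDcard : Nat.card D = p := by
    rw [hDdef, Subgroup.card_map_of_injective P.subtype_injective]
    exact hge.2
  have hDmem : ∀ x : P, (x : Ω) ∈ D ↔ x ∈ commutator ↥P := by
    intro x
    rw [hDdef]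
    exact Subgroup.mem_map_iff_mem P.subtype_injective
  have hcomm : ∀ a ∈ P, ∀ b ∈ P, a * b * a⁻¹ * b⁻¹ ∈ D := by
    intro a ha b hb
    have h1 : ⁅(⟨a, ha⟩ : P), (⟨b, hb⟩ : P)⁆ ∈ commutator ↥P := by
      rw [commutator_def]
      exact Subgroup.commutator_mem_commutator (Subgroup.mem_top _) (Subgroup.mem_top _)
    rw [commutatorElement_def] at h1
    exact (hDmem _).mpr h1
  have hpow : ∀ a ∈ P, a ^ p ∈ D := by
    intro a ha
    have h1 : (⟨a, ha⟩ : P) ^ p ∈ commutator ↥P := by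
      rw [← hge.1]
      exact Cfsg.Agent.Lib.Helper72.pow_mem_frattini hPp _
    exact (hDmem _).mpr h1
  have hDF : ∀ α ∈ F.autGroup P, ∀ x : P, (x : Ω) ∈ D → ((α x : P) : Ω) ∈ D := by
    intro α _ x hx
    rw [hDmem] at hx ⊢
    have hchar : (commutator ↥P).Characteristic := inferInstance
    have h1 : (commutator ↥P).comap α.toMonoidHom = commutator ↥P :=
      hchar.fixed α
    rw [← h1] at hx
    exact hx
  have hDc : ∀ d ∈ D, ∀ x ∈ P, x * d = d * x :=
    central_of_normal_card_le hPp hDP (fun s hs d hd => by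
      have h1 := D.mul_mem (hcomm s hs d (hDP hd)) hd
      have e : s * d * s⁻¹ * d⁻¹ * d = s * d * s⁻¹ := by group
      rwa [e] at h1) (le_of_eq hDcard)
  rcases stronglyClosed_or_structure hS hF hP hDP hDcard hcomm hpow hDF with
    hDsc | ⟨y, hyP, t, htP, hyp, htp, hyt, hdec⟩
  · -- `D` is strongly closed: central chain `1 ≤ D ≤ P`
    refine isNormal_of_chain_full hS hF hP 2
      (fun i => if (i : ℕ) = 0 then ⊥ else if (i : ℕ) = 1 then D else P) ?_ ?_ ?_ ?_
    · simp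
    · simp
    · intro i
      by_cases hi0 : (i : ℕ) = 0
      · simp only [hi0, if_true]
        exact stronglyClosed_bot F
      · by_cases hi1 : (i : ℕ) = 1
        · simp only [hi1, if_true, one_ne_zero, if_false]
          exact hDsc
        · simp only [hi0, hi1, if_false]
          exact hP
    · intro i
      rw [Subgroup.commutator_le]
      intro a ha b hb
      rw [commutatorElement_def]
      fin_cases i
      · have ha' : a ∈ D := by simpa using ha
        show a * b * a⁻¹ * b⁻¹ ∈ (⊥ : Subgroup Ω)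
        rw [Subgroup.mem_bot, ← hDc a ha' b hb]
        group
      · have ha' : a ∈ P := by simpa using ha
        show a * b * a⁻¹ * b⁻¹ ∈ D
        exact hcomm a ha' b hb
  · -- the exceptional structure
    exfalso
    have hd' : (⟨y, hyP⟩ : P) * ⟨t, htP⟩ * (⟨y, hyP⟩ : P)⁻¹ * (⟨t, htP⟩ : P)⁻¹ ∈
        Subgroup.center ↥P := by
      rw [Subgroup.mem_center_iff]
      intro g
      apply Subtype.ext
      exact hDc _ (hcomm y hyP t htP) g g.2
    have hdec' : ∀ g : P, ∃ c ∈ Subgroup.center ↥P, c ^ p = 1 ∧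
        ∃ i j : ℤ, g = c * (⟨y, hyP⟩ : P) ^ i * (⟨t, htP⟩ : P) ^ j := by
      intro g
      obtain ⟨c, hcP, hcc, hcp, i, j, hg⟩ := hdec g g.2
      refine ⟨⟨c, hcP⟩, ?_, Subtype.ext hcp, i, j, ?_⟩
      · rw [Subgroup.mem_center_iff]
        intro h
        exact Subtype.ext (hcc h h.2).symm
      · apply Subtype.ext
        rw [Subgroup.coe_mul, Subgroup.coe_mul, Subgroup.coe_zpow, Subgroup.coe_zpow]
        exact hg
    obtain ⟨hA, hB⟩ := exists_exceptional_iso hPp (⟨y, hyP⟩ : P) ⟨t, htP⟩ (Subtype.ext hyp)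
      (Subtype.ext htp) (fun h => hyt (congrArg Subtype.val h)) hd' hdec'
    by_cases hp2 : p = 2
    · exact h2 hp2 (hA hp2)
    · exact hodd hp2 (hB hp2)

end Fusion

end Cfsg.Agent.Lib.Helper90
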