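import Cfsg.Agent.Lib.Helper90.IdxSqA

set_option autoImplicit false
set_option linter.unusedSectionVars false

namespace Cfsg.Agent.Lib.Helper90

open Cfsg Cfsg.FusionSystem

variable {Ω : Type*} [Group Ω] {S : Subgroup Ω} {F : FusionSystem S} {P Q R : Subgroup Ω}
  {f g c : Ω → Ω}

/-- Every element of `S` is conjugate in the system to an element of the centre of `S`. -/
def ConjIntoCenter (F : FusionSystem S) : Prop :=
  ∀ x ∈ S, ∃ z ∈ S ⊓ Subgroup.centralizer (S : Set Ω), F.IsConjElt x z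

/-- An element of `S` inverted by an element of `S` has order at most two. -/
def InvProp (S : Subgroup Ω) : Prop :=
  ∀ u ∈ S, ∀ a ∈ S, a * u * a⁻¹ = u⁻¹ → u ^ 2 = 1

theorem exists_mor_of_isConjElt {x z : Ω} (h : F.IsConjElt x z) :
    ∃ f, Mor F (Subgroup.zpowers x) f ∧ f x = z := by
  obtain ⟨φ, hφ, hφx⟩ := h
  refine ⟨extFun _ φ, mor_of_hom hφ, ?_⟩
  rw [extFun_apply' _ φ (Subgroup.mem_zpowers x)]
  exact hφx

theorem invProp_of_conjIntoCenter [Finite S] (hS : IsPGroup 2 S) (hF : F.IsSaturated 2)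
    (h : ConjIntoCenter F) : InvProp S := by
  intro u hu a ha hau
  obtain ⟨z, hz, hconj⟩ := h u hu
  obtain ⟨f, hf, hfu⟩ := exists_mor_of_isConjElt hconj
  have hu0 : u ∈ Subgroup.zpowers u := Subgroup.mem_zpowers u
  have hP : Subgroup.zpowers u ≤ S := hf.le
  obtain ⟨Z, hZ⟩ : ∃ Z, Z = img (Subgroup.zpowers u) f := ⟨_, rfl⟩
  have hinv : Mor F Z (invFn (Subgroup.zpowers u) f) := by rw [hZ]; exact hf.inv
  -- every element of `Z` is a power of `z`
  have hZz : ∀ y ∈ Z, ∃ k : ℤ, y = z ^ k ∧ invFn (Subgroup.zpowers u) f y = u ^ k := by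
    intro y hy
    rw [hZ] at hy
    obtain ⟨x, hx, rfl⟩ := hf.mem_img.mp hy
    obtain ⟨k, rfl⟩ := Subgroup.mem_zpowers_iff.mp hx
    refine ⟨k, ?_, ?_⟩
    · rw [hf.map_zpow' hu0, hfu]
    · rw [hf.invFn_apply hx]
  have hZS : Z ≤ S := hinv.le
  have hZc : ∀ y ∈ Z, ∀ s ∈ S, s * y * s⁻¹ = y := by
    intro y hy s hs
    obtain ⟨k, rfl, -⟩ := hZz y hy
    have h1 : z ^ k ∈ Subgroup.centralizer (S : Set Ω) := Subgroup.zpow_mem _ hz.2 k
    have h2 := Subgroup.mem_centralizer_iff.mp h1 s hs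
    rw [h2]; group
  -- the inversion map on `Z` is in the system
  have hθ : Mor F Z (fun y => y⁻¹) := by
    have hc : Mor F (Subgroup.zpowers u) (fun x => a * x * a⁻¹) := mor_conj F hP ha
    have hcP : ∀ x ∈ Subgroup.zpowers u, a * x * a⁻¹ = x⁻¹ := by
      intro x hx
      obtain ⟨k, rfl⟩ := Subgroup.mem_zpowers_iff.mp hx
      have h1 : a * u ^ k * a⁻¹ = (a * u * a⁻¹) ^ k := by
        have h0 := map_zpow (MulAut.conj a) u k
        rw [MulAut.conj_apply, MulAut.conj_apply] at h0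
        exact h0
      rw [h1, hau, inv_zpow]
    have h1 : Mor F Z ((fun x => a * x * a⁻¹) ∘ invFn (Subgroup.zpowers u) f) :=
      hinv.comp hc (fun y hy => by rw [hZ] at hy; exact hf.invFn_mem hy)
    have h2 : Mor F Z (f ∘ ((fun x => a * x * a⁻¹) ∘ invFn (Subgroup.zpowers u) f)) := by
      refine h1.comp hf (fun y hy => ?_)
      rw [hZ] at hy
      have h3 := hf.invFn_mem hy
      show a * invFn (Subgroup.zpowers u) f y * a⁻¹ ∈ Subgroup.zpowers u
      rw [hcP _ h3]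
      exact Subgroup.inv_mem _ h3
    refine h2.congr (fun y hy => ?_)
    rw [hZ] at hy
    have h3 := hf.invFn_mem hy
    show f (a * invFn (Subgroup.zpowers u) f y * a⁻¹) = y⁻¹
    rw [hcP _ h3, hf.map_inv h3, hf.apply_invFn hy]
  have : Finite Z := finite_of_le hZS
  have hθZ : ∀ y ∈ Z, (fun y : Ω => y⁻¹) y ∈ Z := fun y hy => Z.inv_mem hy
  obtain ⟨α, hα, hαθ⟩ := exists_aut_of_mor hθ hθZ
  -- `Z` is fully normalized, hence fully automized
  have hNZ : normalizerIn S Z = S := by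
    apply le_antisymm inf_le_left
    intro s hs
    refine ⟨hs, ?_⟩
    apply mem_normalizer_of_finite
    intro y hy
    rw [hZc y hy s hs]
    exact hy
  have hfn : F.IsFullyNormalized Z := by
    refine ⟨hZS, fun Q _ => ?_⟩
    rw [hNZ]
    exact Subgroup.card_le_of_le inf_le_left
  have hfa : F.IsFullyAutomized 2 Z :=
    (Cfsg.Agent.Lib.Helper87.saturated_fullyNormalized 2 hS F hF hfn).2.1
  have hA : IsPGroup 2 (Subgroup.zpowers α) := by
    intro β
    refine ⟨1, ?_⟩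
    obtain ⟨k, hk⟩ := Subgroup.mem_zpowers_iff.mp β.2
    have hα2 : α ^ 2 = 1 := by
      ext y
      have h1 : ((α (α y) : Z) : Ω) = y := by
        rw [hαθ, hαθ]; simp
      rw [pow_two]
      exact h1
    apply Subtype.ext
    show (β : MulAut Z) ^ 2 ^ 1 = 1
    rw [← hk, pow_one, ← zpow_natCast, ← zpow_mul, mul_comm, zpow_mul, zpow_natCast, hα2, one_zpow]
  have hAle : Subgroup.zpowers α ≤ F.autGroup Z := by
    rw [Subgroup.zpowers_le]; exact hα
  obtain ⟨γ, hγ, hγA⟩ := exists_conj_le_autInducedBy hfa (Subgroup.zpowers α) hA hAle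
  obtain ⟨b, hb, hbγ⟩ := (mem_autInducedBy_iff S Z _).mp (hγA α (Subgroup.mem_zpowers α))
  -- hence every element of `Z` is its own inverse
  have hzZ : z ∈ Z := by rw [hZ, ← hfu]; exact hf.mem_img_of_mem hu0
  have h1 := hbγ ⟨z, hzZ⟩
  have h2 : (((γ * α * γ⁻¹) ⟨z, hzZ⟩ : Z) : Ω) = z⁻¹ := by
    show ((γ (α (γ⁻¹ ⟨z, hzZ⟩)) : Z) : Ω) = z⁻¹
    have h3 : α (γ⁻¹ ⟨z, hzZ⟩) = (γ⁻¹ ⟨z, hzZ⟩)⁻¹ := by
      apply Subtype.ext
      rw [hαθ]; rfl
    rw [h3, map_inv]
    simp
  rw [h2, hZc z hzZ b hb] at h1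
  -- so `z ^ 2 = 1` and `u ^ 2 = 1`
  have hz2 : z ^ 2 = 1 := by
    rw [pow_two]
    nth_rewrite 1 [← h1]
    simp
  apply hf.inj (Subgroup.pow_mem _ hu0 2) (Subgroup.one_mem _)
  rw [hf.map_pow' hu0, hfu, hz2, hf.map_one]

/-- Under `InvProp`, any two involutions of `S` commute. -/
theorem InvProp.comm (hI : InvProp S) {u v : Ω} (hu : u ∈ S) (hv : v ∈ S) (hu2 : u ^ 2 = 1)
    (hv2 : v ^ 2 = 1) : u * v = v * u := by
  have hu' : u⁻¹ = u := by
    rw [inv_eq_iff_mul_eq_one, ← pow_two]; exact hu2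
  have hv' : v⁻¹ = v := by
    rw [inv_eq_iff_mul_eq_one, ← pow_two]; exact hv2
  have h1 : u * (u * v) * u⁻¹ = (u * v)⁻¹ := by
    rw [mul_inv_rev, hu', hv']
    have : u * u = 1 := by rw [← pow_two]; exact hu2
    calc u * (u * v) * u = (u * u) * v * u := by group
      _ = v * u := by rw [this, one_mul]
  have h2 := hI (u * v) (S.mul_mem hu hv) u hu h1
  have h3 : (u * v)⁻¹ = u * v := by
    rw [inv_eq_iff_mul_eq_one, ← pow_two]; exact h2
  rw [← h3, mul_inv_rev, hu', hv']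

/-- Under `InvProp`, an automorphism of odd order of a subgroup `R` of the `2`-group `S` that
fixes every element of order at most two of `R` is trivial. -/
theorem aut_eq_one_of_odd (hS : IsPGroup 2 S) (hI : InvProp S) (hR : R ≤ S) (ρ : MulAut R)
    {m : ℕ} (hm : Odd m) (hρm : ρ ^ m = 1) (hfix : ∀ u : R, u ^ 2 = 1 → ρ u = u) : ρ = 1 := by
  have key : ∀ k : ℕ, ∀ a : R, a ^ 2 ^ k = 1 → ρ a = a := by
    intro k
    induction k with
    | zero =>
      intro a ha
      rw [pow_zero, pow_one] at ha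
      rw [ha, map_one]
    | succ k ih =>
      intro a ha
      have h1 : (a ^ 2) ^ 2 ^ k = 1 := by
        rw [← pow_mul, ← pow_succ']; exact ha
      have h2 : ρ a ^ 2 = a ^ 2 := by rw [← map_pow, ih _ h1]
      obtain ⟨u, hu⟩ : ∃ u, u = a⁻¹ * ρ a := ⟨_, rfl⟩
      have hb : ρ a = a * u := by rw [hu]; group
      have h3 : a * u * a⁻¹ = u⁻¹ := by
        rw [hu, mul_inv_rev, inv_inv]
        have h4 : ρ a * ρ a = a * a := by rw [← pow_two, ← pow_two]; exact h2
        calc a * (a⁻¹ * ρ a) * a⁻¹ = (ρ a)⁻¹ * (ρ a * ρ a) * a⁻¹ := by group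
          _ = (ρ a)⁻¹ * (a * a) * a⁻¹ := by rw [h4]
          _ = (ρ a)⁻¹ * a := by group
      have h5 : ((u : R) : Ω) ^ 2 = 1 := by
        apply hI (u : Ω) (hR u.2) (a : Ω) (hR a.2)
        have := congrArg (Subtype.val) h3
        simpa using this
      have hu2 : u ^ 2 = 1 := by
        apply Subtype.ext
        simpa using h5
      have hρu : ρ u = u := hfix u hu2
      have hpow : ∀ j : ℕ, (ρ ^ j) a = a * u ^ j := by
        intro j
        induction j with
        | zero => simp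
        | succ j ihj =>
          rw [pow_succ', MulAut.mul_apply, ihj, map_mul, map_pow, hρu, hb, pow_succ']
          group
      have h6 := hpow m
      rw [hρm, MulAut.one_apply] at h6
      have h7 : u ^ m = 1 := by
        have := h6.symm
        rwa [mul_eq_left] at this
      obtain ⟨t, rfl⟩ := hm
      rw [pow_succ, pow_mul, hu2, one_pow, one_mul] at h7
      rw [hb, h7, mul_one]
  ext a
  obtain ⟨k, hk⟩ := (hS.to_le hR) a
  rw [key k a hk]
  rfl

/-- Key lemma: in the situation of `InvProp`, let `R` be fully automized and `f` an automorphism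
of `R` in the system which does not extend (`N_f = R`). Then an element of `N_S(R)` centralizing
all elements of order at most two of `R` lies in `R`. -/
theorem mem_of_comm_invol [Finite S] (hS : IsPGroup 2 S) (hI : InvProp S)
    (hfa : F.IsFullyAutomized 2 R) (hf : Mor F R f) (hfR : ∀ x ∈ R, f x ∈ R)
    (hne : ∀ a ∈ extFn S R f, a ∈ R) {a : Ω} (ha : a ∈ S)
    (haN : a ∈ Subgroup.normalizer (R : Set Ω))
    (hac : ∀ u ∈ R, u ^ 2 = 1 → a * u * a⁻¹ = u) : a ∈ R := by
  have hR : R ≤ S := hf.le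
  have : Finite R := finite_of_le hR
  let B : Subgroup (MulAut R) :=
    { carrier := {β | β ∈ F.autGroup R ∧ ∀ u : R, u ^ 2 = 1 → β u = u}
      mul_mem' := by
        rintro β γ ⟨hβ, hβu⟩ ⟨hγ, hγu⟩
        refine ⟨Subgroup.mul_mem _ hβ hγ, fun u hu => ?_⟩
        show β (γ u) = u
        rw [hγu u hu, hβu u hu]
      one_mem' := ⟨Subgroup.one_mem _, fun u _ => rfl⟩
      inv_mem' := by
        rintro β ⟨hβ, hβu⟩
        refine ⟨Subgroup.inv_mem _ hβ, fun u hu => ?_⟩
        have h1 : β⁻¹ (β u) = u := by simp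
        rw [hβu u hu] at h1
        exact h1 }
  have hBle : B ≤ F.autGroup R := fun β hβ => hβ.1
  have hBn : ∀ α ∈ F.autGroup R, ∀ β ∈ B, α * β * α⁻¹ ∈ B := by
    intro α hα β hβ
    refine ⟨Subgroup.mul_mem _ (Subgroup.mul_mem _ hα hβ.1) (Subgroup.inv_mem _ hα), fun u hu => ?_⟩
    show α (β (α⁻¹ u)) = u
    have h1 : (α⁻¹ u) ^ 2 = 1 := by rw [← map_pow, hu, map_one]
    rw [hβ.2 _ h1]
    simp
  have hB : IsPGroup 2 B := by
    apply isPGroup_of_coprime_trivial
    intro β hβ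
    have hodd : Odd (orderOf β) := Nat.Coprime.odd_of_right hβ
    have h1 : (β : MulAut R) = 1 := by
      refine aut_eq_one_of_odd hS hI hR (β : MulAut R) hodd ?_ β.2.2
      rw [← Subgroup.coe_pow, pow_orderOf_eq_one]
      rfl
    exact Subtype.ext h1
  have hBS := normal_pSubgroup_le_autInducedBy hfa B hB hBle hBn
  obtain ⟨κ, hκ, hκa⟩ := exists_aut_of_mor (mor_conj F hR ha)
    (fun x hx => conj_mem_of_mem_normalizer haN hx)
  have hκB : κ ∈ B := by
    refine ⟨hκ, fun u hu => ?_⟩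
    apply Subtype.ext
    rw [hκa]
    apply hac u u.2
    have := congrArg Subtype.val hu
    simpa using this
  obtain ⟨α, hα, hαf⟩ := exists_aut_of_mor hf hfR
  obtain ⟨b, hb, hαβ⟩ := (mem_autInducedBy_iff S R _).mp (hBS (hBn α hα κ hκB))
  apply hne
  rw [hf.mem_extFn]
  refine ⟨ha, haN, b, hb, fun x hx => ?_⟩
  have h1 := hαβ (α ⟨x, hx⟩)
  have h2 : (α * κ * α⁻¹) (α ⟨x, hx⟩) = α (κ ⟨x, hx⟩) := by
    show α (κ (α⁻¹ (α ⟨x, hx⟩))) = _
    simp
  rw [h2, hαf, hαf, hκa] at h1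
  exact h1

/-- Under `ConjIntoCenter`, a strongly closed subgroup containing the centre of `S` is `S`. -/
theorem le_of_stronglyClosed_of_conjIntoCenter (h : ConjIntoCenter F) (hQ : F.StronglyClosed Q)
    (hZ : S ⊓ Subgroup.centralizer (S : Set Ω) ≤ Q) : S ≤ Q := by
  intro t ht
  obtain ⟨z, hz, hconj⟩ := h t ht
  obtain ⟨f, hf, hft⟩ := exists_mor_of_isConjElt hconj
  have ht0 : t ∈ Subgroup.zpowers t := Subgroup.mem_zpowers t
  have hle : img (Subgroup.zpowers t) f ≤ Q := by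
    intro y hy
    obtain ⟨x, hx, rfl⟩ := hf.mem_img.mp hy
    obtain ⟨k, rfl⟩ := Subgroup.mem_zpowers_iff.mp hx
    rw [hf.map_zpow' ht0, hft]
    exact Q.zpow_mem (hZ hz) k
  have h1 := stronglyClosed_mor_mem hQ hf.inv hle (hf.mem_img_of_mem ht0)
  rw [hf.invFn_apply ht0] at h1
  exact h1

/-- Henke's theorem: if every element of the `2`-group `S` is conjugate, in the saturated fusion
system `F`, to an element of `Z(S)`, then `S` is abelian. -/
theorem comm_of_conjIntoCenter [Finite S] (hS : IsPGroup 2 S) (hF : F.IsSaturated 2)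
    (h : ConjIntoCenter F) : ∀ x ∈ S, ∀ y ∈ S, x * y = y * x := by
  have hI := invProp_of_conjIntoCenter hS hF h
  -- Step 1: the centralizer of the involutions is normal in `F`
  obtain ⟨T, hT⟩ : ∃ T, T = S ⊓ Subgroup.centralizer {e : Ω | e ∈ S ∧ e ^ 2 = 1} := ⟨_, rfl⟩
  have hTS : T ≤ S := by rw [hT]; exact inf_le_left
  have hTmem : ∀ t, t ∈ T ↔ t ∈ S ∧ ∀ e ∈ S, e ^ 2 = 1 → e * t = t * e := by
    intro t
    rw [hT, Subgroup.mem_inf, Subgroup.mem_centralizer_iff]
    constructor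
    · rintro ⟨h1, h2⟩
      exact ⟨h1, fun e he he2 => h2 e ⟨he, he2⟩⟩
    · rintro ⟨h1, h2⟩
      exact ⟨h1, fun e he => h2 e he.1 he.2⟩
  have hTn : ∀ s ∈ S, ∀ q ∈ T, s * q * s⁻¹ ∈ T := by
    intro s hs q hq
    rw [hTmem] at hq ⊢
    refine ⟨S.mul_mem (S.mul_mem hs hq.1) (S.inv_mem hs), fun e he he2 => ?_⟩
    have h1 : (s⁻¹ * e * s) ^ 2 = 1 := by
      have : (s⁻¹ * e * s) ^ 2 = s⁻¹ * e ^ 2 * s := by rw [pow_two, pow_two]; group
      rw [this, he2]; group
    have h2 := hq.2 (s⁻¹ * e * s) (S.mul_mem (S.mul_mem (S.inv_mem hs) he) hs) h1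
    calc e * (s * q * s⁻¹) = s * ((s⁻¹ * e * s) * q) * s⁻¹ := by group
      _ = s * (q * (s⁻¹ * e * s)) * s⁻¹ := by rw [h2]
      _ = s * q * s⁻¹ * e := by group
  have hET : ∀ e ∈ S, e ^ 2 = 1 → e ∈ T := by
    intro e he he2
    rw [hTmem]
    exact ⟨he, fun e' he' he2' => hI.comm he' he he2' he2⟩
  have hTnormal : F.IsNormal T := by
    apply isNormal_of_centric_invariant hS hF hTS
    intro R hfa hrec hcent f hf hfR hne
    have hR : R ≤ S := hf.le
    have : Finite R := finite_of_le hR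
    have hTR : T ≤ R := by
      by_contra hTR
      obtain ⟨q, hqT, hqN, hqR⟩ := exists_normalizing_not_mem hS hR hTS hTn hTR
      apply hqR
      refine mem_of_comm_invol hS hI hfa hf hfR hne (hTS hqT) hqN (fun u hu hu2 => ?_)
      rw [← ((hTmem q).mp hqT).2 u (hR hu) hu2]; group
    refine ⟨hTR, fun x hx => ?_⟩
    rw [hTmem]
    refine ⟨hR (hfR x (hTR hx)), fun e he he2 => ?_⟩
    have heR : e ∈ R := hTR (hET e he he2)
    obtain ⟨e', he'R, rfl⟩ := hf.surj_of_finite hfR e heR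
    have he'2 : e' ^ 2 = 1 := by
      apply hf.inj (R.pow_mem he'R 2) R.one_mem
      rw [hf.map_pow' he'R, he2, hf.map_one]
    rw [← hf.map_mul he'R (hTR hx), ← hf.map_mul (hTR hx) he'R,
      ((hTmem x).mp hx).2 e' (hR he'R) he'2]
  -- Step 2: hence every involution of `S` is central
  have hST : S ≤ T := by
    apply le_of_stronglyClosed_of_conjIntoCenter h (stronglyClosed_of_isNormal hTnormal)
    intro z hz
    rw [hTmem]
    exact ⟨hz.1, fun e he _ => Subgroup.mem_centralizer_iff.mp hz.2 e he⟩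
  -- Step 3: the centre of `S` is normal in `F`
  obtain ⟨Z, hZ⟩ : ∃ Z, Z = S ⊓ Subgroup.centralizer (S : Set Ω) := ⟨_, rfl⟩
  have hZS : Z ≤ S := by rw [hZ]; exact inf_le_left
  have hZmem : ∀ z, z ∈ Z ↔ z ∈ S ∧ ∀ s ∈ S, s * z = z * s := by
    intro z
    rw [hZ, Subgroup.mem_inf, Subgroup.mem_centralizer_iff]
    rfl
  have hZnormal : F.IsNormal Z := by
    apply isNormal_of_centric_invariant hS hF hZS
    intro R hfa hrec hcent f hf hfR hne
    have hR : R ≤ S := hf.le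
    have : Finite R := finite_of_le hR
    have hSR : S ≤ R := by
      by_contra hSR
      obtain ⟨q, hqS, hqN, hqR⟩ := exists_normalizing_not_mem hS hR le_rfl
        (fun s hs q hq => S.mul_mem (S.mul_mem hs hq) (S.inv_mem hs)) hSR
      apply hqR
      refine mem_of_comm_invol hS hI hfa hf hfR hne hqS hqN (fun u hu hu2 => ?_)
      rw [← ((hTmem q).mp (hST hqS)).2 u (hR hu) hu2]; group
    have hZR : Z ≤ R := hZS.trans hSR
    refine ⟨hZR, fun x hx => ?_⟩
    rw [hZmem]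
    refine ⟨hR (hfR x (hZR hx)), fun s hs => ?_⟩
    obtain ⟨s', hs'R, rfl⟩ := hf.surj_of_finite hfR s (hSR hs)
    rw [← hf.map_mul hs'R (hZR hx), ← hf.map_mul (hZR hx) hs'R,
      ((hZmem x).mp hx).2 s' (hR hs'R)]
  -- Step 4: conclusion
  have hSZ : S ≤ Z := by
    apply le_of_stronglyClosed_of_conjIntoCenter h (stronglyClosed_of_isNormal hZnormal)
    rw [hZ]
  intro x hx y hy
  exact ((hZmem y).mp (hSZ hy)).2 x hx

end Cfsg.Agent.Lib.Helper90
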