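import Cfsg.Agent.Lib.Helper90.GenExtraIso
import Cfsg.Agent.Lib.Helper87.Fusion3

set_option autoImplicit false

namespace Cfsg.Agent.Lib.Helper90

open Cfsg Cfsg.FusionSystem

variable {Ω : Type*} [Group Ω] {S : Subgroup Ω} {F : FusionSystem S} {P Q R A : Subgroup Ω}
  {f g : Ω → Ω}

/-- Normality criterion: a subgroup contained in every fully automized receptive subgroup `R`
with `C_S(R) ≤ R` having an automorphism in the system that does not extend to a larger subgroup,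
and invariant under those automorphisms, is normal in the (saturated) system. -/
theorem isNormal_of_centric_invariant [Finite S] {p : ℕ} [Fact p.Prime] (hS : IsPGroup p S)
    (hF : F.IsSaturated p) (hQS : Q ≤ S)
    (h : ∀ R, F.IsFullyAutomized p R → F.IsReceptive R → centralizerIn S R ≤ R →
      ∀ f, Mor F R f → (∀ x ∈ R, f x ∈ R) → (∀ a ∈ extFn S R f, a ∈ R) →
        Q ≤ R ∧ ∀ x ∈ Q, f x ∈ Q) : F.IsNormal Q := by
  apply isNormal_of_extQ hQS
  apply extQ_of_alperin hS hF hQS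
  intro P hfa hrec prem f hf hfP
  by_cases hE : ∃ a ∈ extFn S P f, a ∉ P
  · obtain ⟨a, ha, haP⟩ := hE
    exact extQ_of_extFn hrec hf hfP prem ha haP
  · push Not at hE
    have hcent : centralizerIn S P ≤ P := fun z hz => hE z (hf.centralizerIn_le_extFn hz)
    obtain ⟨hQP, hinv⟩ := h P hfa hrec hcent f hf hfP hE
    exact extQ_of_le hQP hf hinv

/-- Bounding the focal subgroup: if `x⁻¹ f(x) ∈ M` for the automorphisms `f` of the fully
automized receptive subgroups `R` with `C_S(R) ≤ R` that do not extend to a larger subgroup, then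
this holds for every map of the system. -/
theorem focal_le_of_centric [Finite S] {p : ℕ} [Fact p.Prime] (hS : IsPGroup p S)
    (hF : F.IsSaturated p) (M : Subgroup Ω)
    (h : ∀ R, F.IsFullyAutomized p R → F.IsReceptive R → centralizerIn S R ≤ R →
      ∀ f, Mor F R f → (∀ x ∈ R, f x ∈ R) → (∀ a ∈ extFn S R f, a ∈ R) →
        ∀ x ∈ R, x⁻¹ * f x ∈ M) :
    ∀ (P : Subgroup Ω) (f : Ω → Ω), Mor F P f → ∀ x ∈ P, x⁻¹ * f x ∈ M := by
  apply alperin_induction hS hF (fun P f => ∀ x ∈ P, x⁻¹ * f x ∈ M)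
  · intro P f g hgood hfg x hx
    rw [← hfg x hx]; exact hgood x hx
  · intro P P₀ f _ hgood h0 x hx
    exact hgood x (h0 hx)
  · intro P Q f g hf hg hPQ hgf hgg x hx
    have e : x⁻¹ * g (f x) = (x⁻¹ * f x) * ((f x)⁻¹ * g (f x)) := by group
    show x⁻¹ * g (f x) ∈ M
    rw [e]
    exact M.mul_mem (hgf x hx) (hgg _ (hPQ x hx))
  · intro P f hf hgood y hy
    obtain ⟨x, hx, rfl⟩ := hf.mem_img.mp hy
    rw [hf.invFn_apply hx]
    have := M.inv_mem (hgood x hx)
    simpa using this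
  · intro P hfa hrec prem f hf hfP
    by_cases hE : ∃ a ∈ extFn S P f, a ∉ P
    · obtain ⟨a, ha, haP⟩ := hE
      have : Finite P := finite_of_le hf.le
      obtain ⟨f₁, hf₁, hf₁P⟩ := receptive_extend' hrec hf (hf.img_eq_self hfP)
      have hlt : P < extFn S P f := SetLike.lt_iff_le_and_exists.mpr ⟨hf.le_extFn, a, ha, haP⟩
      intro x hx
      rw [← hf₁P x hx]
      exact prem _ f₁ hlt hf₁ x (hf.le_extFn hx)
    · push Not at hE
      have hcent : centralizerIn S P ≤ P := fun z hz => hE z (hf.centralizerIn_le_extFn hz)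
      exact h P hfa hrec hcent f hf hfP hE

theorem hyperfocal_le_of_focal (p : ℕ) (M : Subgroup Ω)
    (h : ∀ (P : Subgroup Ω) (f : Ω → Ω), Mor F P f → ∀ x ∈ P, x⁻¹ * f x ∈ M) :
    F.hyperfocalSubgroup p ≤ M := by
  unfold FusionSystem.hyperfocalSubgroup
  rw [Subgroup.closure_le]
  rintro y ⟨P, α, x, hP, -, rfl⟩
  have hm : Mor F P (autFun P α) := (mem_autGroup_iff F hP α).mp α.2
  have := h P _ hm x x.2
  rwa [autFun_apply] at this

/-- An `F`-automorphism of `S` acts on the centre of `S` as an element of a `p'`-group: if it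
fixes `x⁻¹ δ(x)` for a central `x`, then it fixes `x`. -/
theorem aut_top_fix_center [Finite S] {p : ℕ} [hp : Fact p.Prime] (hS : IsPGroup p S)
    (hF : F.IsSaturated p) {δ : Ω → Ω} (hδ : Mor F S δ) {x : Ω} (hx : x ∈ centralizerIn S S)
    (hfix : δ (x⁻¹ * δ x) = x⁻¹ * δ x) : δ x = x := by
  obtain ⟨d, hd, hdδ⟩ := exists_aut_of_mor hδ (fun y hy => hδ.mem hy)
  obtain ⟨-, T, hT⟩ := (top_fullyAutomized_receptive hF).1
  have hxS : x ∈ S := hx.1
  have hN : ((autInducedBy S S).subgroupOf (F.autGroup S)).Normal := by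
    refine ⟨fun n hn g => ?_⟩
    rw [Subgroup.mem_subgroupOf] at hn ⊢
    obtain ⟨s, hs, hns⟩ := (mem_autInducedBy_iff S S _).mp hn
    refine (mem_autInducedBy_iff S S _).mpr
      ⟨((g : MulAut S) ⟨s, hs⟩ : S), ((g : MulAut S) ⟨s, hs⟩).2, fun y => ?_⟩
    show (((g : MulAut S) ((n : MulAut S) ((g : MulAut S)⁻¹ y)) : S) : Ω) = _
    have h1 : (n : MulAut S) ((g : MulAut S)⁻¹ y) =
        ⟨s, hs⟩ * ((g : MulAut S)⁻¹ y) * (⟨s, hs⟩ : S)⁻¹ := Subtype.ext (hns _)
    rw [h1, map_mul, map_mul, map_inv]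
    simp
  have hidx : ¬ p ∣ ((autInducedBy S S).subgroupOf (F.autGroup S)).index := by
    rw [← hT]
    exact T.not_dvd_index
  have hcop : Nat.Coprime ((autInducedBy S S).subgroupOf (F.autGroup S)).index p :=
    (Nat.Coprime.symm ((Nat.Prime.coprime_iff_not_dvd hp.out).mpr hidx))
  have hpowmem := Subgroup.pow_index_mem ((autInducedBy S S).subgroupOf (F.autGroup S))
    (⟨d, hd⟩ : F.autGroup S)
  rw [Subgroup.mem_subgroupOf] at hpowmem
  obtain ⟨s, hs, hds⟩ := (mem_autInducedBy_iff S S _).mp hpowmem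
  have hpow : (d ^ ((autInducedBy S S).subgroupOf (F.autGroup S)).index) ⟨x, hxS⟩ = ⟨x, hxS⟩ := by
    apply Subtype.ext
    have h1 := hds ⟨x, hxS⟩
    have h2 : s * x * s⁻¹ = x := by
      have := Subgroup.mem_centralizer_iff.mp hx.2 s hs
      rw [this]; group
    exact h1.trans h2
  obtain ⟨k, hk⟩ := IsPGroup.iff_card.mp hS
  have hfix' : d ((⟨x, hxS⟩ : S)⁻¹ * d ⟨x, hxS⟩) = (⟨x, hxS⟩ : S)⁻¹ * d ⟨x, hxS⟩ := by
    apply Subtype.ext
    rw [hdδ]
    show δ (x⁻¹ * ((d ⟨x, hxS⟩ : S) : Ω)) = x⁻¹ * ((d ⟨x, hxS⟩ : S) : Ω)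
    rw [hdδ]
    exact hfix
  have hp' : ((⟨x, hxS⟩ : S)⁻¹ * d ⟨x, hxS⟩) ^ (p ^ k) = 1 := by
    rw [← hk]; exact pow_card_eq_one'
  have := aut_fix_of_fix_comm d hcop (⟨x, hxS⟩ : S) hfix' hpow hp'
  have h3 := congrArg Subtype.val this
  rw [hdδ] at h3
  exact h3

end Cfsg.Agent.Lib.Helper90
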