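import Cfsg.Agent.Lib.Helper90.IdxSqA

set_option autoImplicit false
set_option linter.unusedSectionVars false

namespace Cfsg.Agent.Lib.Helper90

open Cfsg Cfsg.FusionSystem

variable {Ω : Type*} [Group Ω] {S : Subgroup Ω} {A B : Subgroup Ω}

theorem mem_centralizerIn_self {x : Ω} :
    x ∈ centralizerIn S S ↔ x ∈ S ∧ ∀ s ∈ S, s * x = x * s := by
  unfold centralizerIn
  rw [Subgroup.mem_inf, Subgroup.mem_centralizer_iff]
  rfl

/-- The data of a finite `p`-group whose centre has index `p ^ 2`, at the level of elements. -/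
structure IdxSq (S : Subgroup Ω) (p : ℕ) : Prop where
  card : Nat.card S = Nat.card (centralizerIn S S) * p ^ 2
  comm : ∀ x ∈ S, ∀ y ∈ S, x * y * x⁻¹ * y⁻¹ ∈ centralizerIn S S
  pow : ∀ x ∈ S, x ^ p ∈ centralizerIn S S
  na : ∃ a ∈ S, ∃ b ∈ S, a * b ≠ b * a

theorem idxSq_of_index [Finite S] {p : ℕ} [hp : Fact p.Prime] (hS : IsPGroup p S)
    (hZ : (Subgroup.center S).index ≤ p ^ 2) (hna : ∃ a b : S, a * b ≠ b * a) : IdxSq S p := by
  have hmem : ∀ x : S, (x : Ω) ∈ centralizerIn S S ↔ x ∈ Subgroup.center S := by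
    intro x
    rw [mem_centralizerIn_self, Subgroup.mem_center_iff]
    constructor
    · rintro ⟨-, h⟩ g
      exact Subtype.ext (h g g.2)
    · intro h
      exact ⟨x.2, fun s hs => congrArg Subtype.val (h ⟨s, hs⟩)⟩
  have hmap : centralizerIn S S = (Subgroup.center S).map S.subtype := by
    ext x
    constructor
    · intro hx
      exact ⟨⟨x, hx.1⟩, (hmem ⟨x, hx.1⟩).mp hx, rfl⟩
    · rintro ⟨y, hy, rfl⟩
      exact (hmem y).mpr hy
  have hnotcyc : ¬ IsCyclic (S ⧸ Subgroup.center S) := by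
    intro hcyc
    have hcomm := ((QuotientGroup.mk' (Subgroup.center S)).isMulCommutative_of_isCyclic_of_ker_le_center
      (by rw [QuotientGroup.ker_mk'])).is_comm.comm
    obtain ⟨a, b, hab⟩ := hna
    exact hab (hcomm a b)
  obtain ⟨k, hk⟩ := hS.index (Subgroup.center S)
  have hk2 : k ≤ 2 := (Nat.pow_le_pow_iff_right hp.out.one_lt).mp (hk ▸ hZ)
  have hk0 : k ≠ 0 := by
    rintro rfl
    rw [pow_zero, Subgroup.index_eq_one] at hk
    obtain ⟨a, b, hab⟩ := hna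
    have : a ∈ Subgroup.center S := hk ▸ Subgroup.mem_top a
    exact hab ((Subgroup.mem_center_iff.mp this b).symm)
  have hk1 : k ≠ 1 := by
    rintro rfl
    rw [pow_one] at hk
    exact hnotcyc (isCyclic_of_prime_card hk)
  have hidx : (Subgroup.center S).index = p ^ 2 := by
    have : k = 2 := by omega
    rw [hk, this]
  have hq : Nat.card (S ⧸ Subgroup.center S) = p ^ 2 := hidx
  have hqcomm := (IsPGroup.isMulCommutative_of_card_eq_prime_sq hq).is_comm.comm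
  refine ⟨?_, ?_, ?_, ?_⟩
  · rw [hmap, Subgroup.card_map_of_injective (Subgroup.subtype_injective S), ← hidx]
    exact (Subgroup.card_mul_index _).symm
  · intro x hx y hy
    have h1 : ((⟨x, hx⟩ * ⟨y, hy⟩ * (⟨x, hx⟩ : S)⁻¹ * (⟨y, hy⟩ : S)⁻¹ : S) : S ⧸ Subgroup.center S) = 1 := by
      simp only [QuotientGroup.mk_mul, QuotientGroup.mk_inv]
      rw [hqcomm (QuotientGroup.mk ⟨x, hx⟩) (QuotientGroup.mk ⟨y, hy⟩)]
      simp
    have h2 := (QuotientGroup.eq_one_iff _).mp h1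
    exact (hmem _).mpr h2
  · intro x hx
    have h1 : orderOf (QuotientGroup.mk ⟨x, hx⟩ : S ⧸ Subgroup.center S) ∣ p ^ 2 := by
      rw [← hq]; exact orderOf_dvd_natCard _
    obtain ⟨j, hj2, hj⟩ := (Nat.dvd_prime_pow hp.out).mp h1
    have hj1 : j ≤ 1 := by
      by_contra hcon
      have : j = 2 := by omega
      rw [this, ← hq] at hj
      exact hnotcyc (isCyclic_of_orderOf_eq_card _ hj)
    have h3 : (QuotientGroup.mk ⟨x, hx⟩ : S ⧸ Subgroup.center S) ^ p = 1 := by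
      apply orderOf_dvd_iff_pow_eq_one.mp
      rw [hj]
      exact pow_dvd_pow p hj1 |>.trans (by rw [pow_one])
    rw [← QuotientGroup.mk_pow, QuotientGroup.eq_one_iff] at h3
    exact (hmem _).mpr h3
  · obtain ⟨a, b, hab⟩ := hna
    exact ⟨a, a.2, b, b.2, fun h => hab (Subtype.ext h)⟩

theorem exists_pow_of_mem_zpowers [Finite S] {a x : Ω} (ha : a ∈ S)
    (hx : x ∈ Subgroup.zpowers a) : ∃ i : ℕ, x = a ^ i := by
  obtain ⟨n, rfl⟩ := Subgroup.mem_zpowers_iff.mp hx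
  have h1 : (⟨a, ha⟩ : S) ^ n ∈ Subgroup.zpowers (⟨a, ha⟩ : S) := Subgroup.zpow_mem_zpowers _ n
  rw [← mem_powers_iff_mem_zpowers] at h1
  obtain ⟨i, hi⟩ := (Submonoid.mem_powers_iff _ _).mp h1
  refine ⟨i, ?_⟩
  have := congrArg Subtype.val hi
  simpa using this.symm

/-- A subgroup strictly between `X` and a subgroup `Y` with `|Y| = p |X|` is all of `Y`. -/
theorem eq_of_lt_of_card_mul [Finite S] {p : ℕ} [hp : Fact p.Prime] (hS : IsPGroup p S)
    {X Y : Subgroup Ω} (hXB : X < B) (hBY : B ≤ Y) (hYS : Y ≤ S)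
    (hcard : Nat.card Y = Nat.card X * p) : B = Y := by
  have hBS : B ≤ S := hBY.trans hYS
  have : Finite Y := finite_of_le hYS
  have : Finite B := finite_of_le hBS
  have : Finite X := finite_of_le (hXB.le.trans hBS)
  obtain ⟨j, hj⟩ := IsPGroup.iff_card.mp (hS.to_le (hXB.le.trans hBS))
  obtain ⟨m, hm⟩ := IsPGroup.iff_card.mp (hS.to_le hBS)
  have h1 : Nat.card X < Nat.card B := card_lt_of_lt hXB
  have h2 : Nat.card B ≤ Nat.card Y := Subgroup.card_le_of_le hBY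
  rw [hcard, hj, hm] at h2
  rw [hj, hm] at h1
  have h3 : j < m := (Nat.pow_lt_pow_iff_right hp.out.one_lt).mp h1
  have h4 : m ≤ j + 1 := by
    rw [← pow_succ] at h2
    exact (Nat.pow_le_pow_iff_right hp.out.one_lt).mp h2
  have h5 : m = j + 1 := by omega
  apply Subgroup.eq_of_le_of_card_ge hBY
  rw [hcard, hj, hm, h5, pow_succ]

namespace IdxSq

variable [Finite S] {p : ℕ} [hp : Fact p.Prime]

theorem card_mid (h : IdxSq S p) (hS : IsPGroup p S) (hZA : centralizerIn S S < A) (hAS : A < S) :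
    Nat.card A = Nat.card (centralizerIn S S) * p ∧ Nat.card S = Nat.card A * p := by
  have : Finite A := finite_of_le hAS.le
  have hZS : centralizerIn S S ≤ S := inf_le_left
  have : Finite (centralizerIn S S) := finite_of_le hZS
  obtain ⟨k, hk⟩ := IsPGroup.iff_card.mp (hS.to_le hZS)
  obtain ⟨j, hj⟩ := IsPGroup.iff_card.mp (hS.to_le hAS.le)
  have h1 : Nat.card (centralizerIn S S) < Nat.card A := card_lt_of_lt hZA
  have h2 : Nat.card A < Nat.card S := card_lt_of_lt hAS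
  have hc := h.card
  rw [hk, ← pow_add] at hc
  rw [hc, hj] at h2
  rw [hk, hj] at h1
  have h3 : k < j := (Nat.pow_lt_pow_iff_right hp.out.one_lt).mp h1
  have h4 : j < k + 2 := (Nat.pow_lt_pow_iff_right hp.out.one_lt).mp h2
  have h5 : j = k + 1 := by omega
  rw [hc, hj, hk, h5]
  exact ⟨pow_succ _ _, by rw [← pow_succ]⟩

theorem conj_mem (h : IdxSq S p) (hZA : centralizerIn S S ≤ A) (hAS : A ≤ S) {s x : Ω}
    (hs : s ∈ S) (hx : x ∈ A) : s * x * s⁻¹ ∈ A := by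
  have h1 := hZA (h.comm s hs x (hAS hx))
  have h2 := A.mul_mem h1 hx
  have e : s * x * s⁻¹ * x⁻¹ * x = s * x * s⁻¹ := by group
  rwa [e] at h2

theorem mid_gen (h : IdxSq S p) (hS : IsPGroup p S) (hZA : centralizerIn S S < A) (hAS : A < S)
    {a : Ω} (ha : a ∈ S) (haA : a ∉ A) {s : Ω} (hs : s ∈ S) :
    ∃ i : ℕ, ∃ y ∈ A, s = a ^ i * y := by
  have hle : Subgroup.zpowers a ≤ S := Subgroup.zpowers_le.mpr ha
  have hB : Subgroup.zpowers a ⊔ A ≤ S := sup_le hle hAS.le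
  have hlt : A < Subgroup.zpowers a ⊔ A :=
    lt_of_le_of_ne le_sup_right (fun heq => haA (heq ▸ Subgroup.mem_sup_left (Subgroup.mem_zpowers a)))
  have hBS := eq_of_lt_of_card_mul hS hlt hB le_rfl (h.card_mid hS hZA hAS).2
  have hs' : s ∈ Subgroup.zpowers a ⊔ A := hBS ▸ hs
  obtain ⟨x, hx, q, hq, rfl⟩ := exists_mul_of_mem_sup
    (fun x hx q hq => h.conj_mem hZA.le hAS.le (hle hx) hq) hs'
  obtain ⟨i, rfl⟩ := exists_pow_of_mem_zpowers ha hx
  exact ⟨i, q, hq, rfl⟩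

theorem mid_gen_center (h : IdxSq S p) (hS : IsPGroup p S) (hZA : centralizerIn S S < A)
    (hAS : A < S) {b : Ω} (hb : b ∈ A) (hbZ : b ∉ centralizerIn S S) {x : Ω} (hx : x ∈ A) :
    ∃ i : ℕ, ∃ c ∈ centralizerIn S S, x = b ^ i * c := by
  have hbS : b ∈ S := hAS.le hb
  have hle : Subgroup.zpowers b ≤ S := Subgroup.zpowers_le.mpr hbS
  have hB : Subgroup.zpowers b ⊔ centralizerIn S S ≤ A :=
    sup_le (Subgroup.zpowers_le.mpr hb) hZA.le
  have hlt : centralizerIn S S < Subgroup.zpowers b ⊔ centralizerIn S S :=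
    lt_of_le_of_ne le_sup_right
      (fun heq => hbZ (heq ▸ Subgroup.mem_sup_left (Subgroup.mem_zpowers b)))
  have hBA := eq_of_lt_of_card_mul hS hlt hB hAS.le (h.card_mid hS hZA hAS).1
  have hx' : x ∈ Subgroup.zpowers b ⊔ centralizerIn S S := hBA ▸ hx
  obtain ⟨y, hy, q, hq, rfl⟩ := exists_mul_of_mem_sup
    (fun y hy q hq => by
      have h1 := (mem_centralizerIn_self.mp hq).2 y (hle hy)
      rw [h1]; simpa using hq) hx'
  obtain ⟨i, rfl⟩ := exists_pow_of_mem_zpowers hbS hy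
  exact ⟨i, q, hq, rfl⟩

theorem mid_comm (h : IdxSq S p) (hS : IsPGroup p S) (hZA : centralizerIn S S < A) (hAS : A < S)
    {x y : Ω} (hx : x ∈ A) (hy : y ∈ A) : x * y = y * x := by
  obtain ⟨b, hb, hbZ⟩ := SetLike.exists_of_lt hZA
  have hbS : b ∈ S := hAS.le hb
  obtain ⟨i, c, hc, rfl⟩ := h.mid_gen_center hS hZA hAS hb hbZ hx
  obtain ⟨j, c', hc', rfl⟩ := h.mid_gen_center hS hZA hAS hb hbZ hy
  have hcc := (mem_centralizerIn_self.mp hc).2
  have hcc' := (mem_centralizerIn_self.mp hc').2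
  have h1 : Commute (b ^ i) (b ^ j) := (Commute.refl b).pow_pow i j
  have h2 : Commute (b ^ i) c' := hcc' _ (S.pow_mem hbS i)
  have h3 : Commute c (b ^ j) := (hcc _ (S.pow_mem hbS j)).symm
  have h4 : Commute c c' := hcc' c hc.1
  exact ((h1.mul_right h2).mul_left (h3.mul_right h4)).eq

theorem mid_centralizer (h : IdxSq S p) (hS : IsPGroup p S) (hZA : centralizerIn S S < A)
    (hAS : A < S) {a : Ω} (ha : a ∈ S) (haA : a ∉ A) {x : Ω} (hx : x ∈ A)
    (hax : a * x = x * a) : x ∈ centralizerIn S S := by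
  rw [mem_centralizerIn_self]
  refine ⟨hAS.le hx, fun s hs => ?_⟩
  obtain ⟨i, y, hy, rfl⟩ := h.mid_gen hS hZA hAS ha haA hs
  have h1 : Commute (a ^ i) x := (show Commute a x from hax).pow_left i
  have h2 : Commute y x := h.mid_comm hS hZA hAS hy hx
  exact (h1.mul_left h2).eq

theorem mid_self_centralizing (h : IdxSq S p) (hS : IsPGroup p S) (hZA : centralizerIn S S < A)
    (hAS : A < S) {s : Ω} (hs : s ∈ S) (hc : ∀ x ∈ A, s * x = x * s) : s ∈ A := by
  by_contra hsA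
  obtain ⟨b, hb, hbZ⟩ := SetLike.exists_of_lt hZA
  exact hbZ (h.mid_centralizer hS hZA hAS hs hsA hb (hc b hb))

theorem mid_inf (h : IdxSq S p) (hS : IsPGroup p S) (hZA : centralizerIn S S < A) (hAS : A < S)
    (hZB : centralizerIn S S < B) (hBS : B < S) (hAB : A ≠ B) {x : Ω} (hxA : x ∈ A)
    (hxB : x ∈ B) : x ∈ centralizerIn S S := by
  by_contra hxZ
  have hle : A ≤ B := by
    intro y hy
    obtain ⟨i, c, hc, rfl⟩ := h.mid_gen_center hS hZA hAS hxA hxZ hy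
    exact B.mul_mem (B.pow_mem hxB i) (hZB.le hc)
  have hle' : B ≤ A := by
    intro y hy
    obtain ⟨i, c, hc, rfl⟩ := h.mid_gen_center hS hZB hBS hxB hxZ hy
    exact A.mul_mem (A.pow_mem hxA i) (hZA.le hc)
  exact hAB (le_antisymm hle hle')

/-! ### Commutators -/

theorem comm_mul_left (h : IdxSq S p) {x y w : Ω} (hx : x ∈ S) (hy : y ∈ S) (hw : w ∈ S) :
    (x * y) * w * (x * y)⁻¹ * w⁻¹ = (x * w * x⁻¹ * w⁻¹) * (y * w * y⁻¹ * w⁻¹) := by
  have hk := mem_centralizerIn_self.mp (h.comm y hy w hw)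
  have e1 : (x * y) * w * (x * y)⁻¹ * w⁻¹ =
      x * (y * w * y⁻¹ * w⁻¹) * x⁻¹ * (x * w * x⁻¹ * w⁻¹) := by group
  have e2 : x * (y * w * y⁻¹ * w⁻¹) = (y * w * y⁻¹ * w⁻¹) * x := hk.2 x hx
  have e3 : (x * w * x⁻¹ * w⁻¹) * (y * w * y⁻¹ * w⁻¹) =
      (y * w * y⁻¹ * w⁻¹) * (x * w * x⁻¹ * w⁻¹) := hk.2 _ (h.comm x hx w hw).1
  rw [e1, e2, e3]
  group

theorem comm_mul_right (h : IdxSq S p) {x y w : Ω} (hx : x ∈ S) (hy : y ∈ S) (hw : w ∈ S) :
    x * (y * w) * x⁻¹ * (y * w)⁻¹ = (x * y * x⁻¹ * y⁻¹) * (x * w * x⁻¹ * w⁻¹) := by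
  have hk := mem_centralizerIn_self.mp (h.comm x hx w hw)
  have e1 : x * (y * w) * x⁻¹ * (y * w)⁻¹ =
      (x * y * x⁻¹ * y⁻¹) * (y * (x * w * x⁻¹ * w⁻¹)) * y⁻¹ := by group
  have e2 : y * (x * w * x⁻¹ * w⁻¹) = (x * w * x⁻¹ * w⁻¹) * y := hk.2 y hy
  rw [e1, e2]
  group

theorem comm_pow_left (h : IdxSq S p) {x w : Ω} (hx : x ∈ S) (hw : w ∈ S) (i : ℕ) :
    (x ^ i) * w * (x ^ i)⁻¹ * w⁻¹ = (x * w * x⁻¹ * w⁻¹) ^ i := by
  induction i with
  | zero => simp
  | succ i ih =>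
    rw [pow_succ, h.comm_mul_left (S.pow_mem hx i) hx hw, ih, pow_succ]

theorem comm_pow_right (h : IdxSq S p) {x w : Ω} (hx : x ∈ S) (hw : w ∈ S) (i : ℕ) :
    x * (w ^ i) * x⁻¹ * (w ^ i)⁻¹ = (x * w * x⁻¹ * w⁻¹) ^ i := by
  induction i with
  | zero => simp
  | succ i ih =>
    rw [pow_succ, h.comm_mul_right hx (S.pow_mem hw i) hw, ih, pow_succ]

theorem comm_central_left {c w : Ω} (hc : c ∈ centralizerIn S S) (hw : w ∈ S) :
    c * w * c⁻¹ * w⁻¹ = 1 := by
  have h1 := (mem_centralizerIn_self.mp hc).2 w hw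
  rw [← h1]; group

theorem comm_central_right {c x : Ω} (hc : c ∈ centralizerIn S S) (hx : x ∈ S) :
    x * c * x⁻¹ * c⁻¹ = 1 := by
  have h1 := (mem_centralizerIn_self.mp hc).2 x hx
  rw [h1]; group

/-- The subgroup `⟨x⟩ Z(S)` for a noncentral `x` lies strictly between `Z(S)` and `S`. -/
theorem mid_of_not_mem {x : Ω} (hx : x ∈ S) (hxZ : x ∉ centralizerIn S S) :
    centralizerIn S S < Subgroup.zpowers x ⊔ centralizerIn S S ∧
      Subgroup.zpowers x ⊔ centralizerIn S S < S := by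
  have hle : Subgroup.zpowers x ≤ S := Subgroup.zpowers_le.mpr hx
  have hZS : centralizerIn S S ≤ S := inf_le_left
  refine ⟨lt_of_le_of_ne le_sup_right
    (fun heq => hxZ (heq ▸ Subgroup.mem_sup_left (Subgroup.mem_zpowers x))),
    lt_of_le_of_ne (sup_le hle hZS) ?_⟩
  intro heq
  have hab : ∀ u ∈ Subgroup.zpowers x ⊔ centralizerIn S S, u * x = x * u := by
    intro u hu
    obtain ⟨y, hy, q, hq, rfl⟩ := exists_mul_of_mem_sup
      (fun y hy q hq => by
        have h1 := (mem_centralizerIn_self.mp hq).2 y (hle hy)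
        rw [h1]; simpa using hq) hu
    obtain ⟨n, rfl⟩ := Subgroup.mem_zpowers_iff.mp hy
    have h1 : Commute (x ^ n) x := (Commute.refl x).zpow_left n
    have h2 : Commute q x := ((mem_centralizerIn_self.mp hq).2 x hx).symm
    exact (h1.mul_left h2).eq
  apply hxZ
  rw [mem_centralizerIn_self]
  exact ⟨hx, fun s hs => hab s (by rw [heq]; exact hs)⟩

/-- The commutator subgroup is generated by one central element `z` of order `p`. -/
theorem exists_z (h : IdxSq S p) (hS : IsPGroup p S) :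
    ∃ z ∈ centralizerIn S S, z ≠ 1 ∧ z ^ p = 1 ∧
      (∃ a₀ ∈ S, ∃ b₀ ∈ S, z = a₀ * b₀ * a₀⁻¹ * b₀⁻¹) ∧
      ∀ x ∈ S, ∀ y ∈ S, x * y * x⁻¹ * y⁻¹ ∈ Subgroup.zpowers z := by
  obtain ⟨a, ha, b, hb, hab⟩ := h.na
  have haZ : a ∉ centralizerIn S S :=
    fun hc => hab (((mem_centralizerIn_self.mp hc).2 b hb).symm)
  obtain ⟨hZA, hAS⟩ := mid_of_not_mem ha haZ
  have haA : a ∈ Subgroup.zpowers a ⊔ centralizerIn S S :=
    Subgroup.mem_sup_left (Subgroup.mem_zpowers a)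
  have hbA : b ∉ Subgroup.zpowers a ⊔ centralizerIn S S :=
    fun hc => hab (h.mid_comm hS hZA hAS haA hc)
  obtain ⟨z, hz⟩ : ∃ z, z = a * b * a⁻¹ * b⁻¹ := ⟨_, rfl⟩
  refine ⟨z, hz ▸ h.comm a ha b hb, ?_, ?_, ⟨a, ha, b, hb, hz⟩, ?_⟩
  · intro h1
    apply hab
    have : a * b = (a * b * a⁻¹ * b⁻¹) * (b * a) := by group
    rw [this, ← hz, h1, one_mul]
  · rw [hz, ← h.comm_pow_left ha hb p]
    exact comm_central_left (h.pow a ha) hb
  · have hzinv : b * a * b⁻¹ * a⁻¹ = z⁻¹ := by rw [hz]; group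
    have key : ∀ y ∈ S, a * y * a⁻¹ * y⁻¹ ∈ Subgroup.zpowers z ∧
        b * y * b⁻¹ * y⁻¹ ∈ Subgroup.zpowers z := by
      intro y hy
      obtain ⟨l, y₁, hy₁, rfl⟩ := h.mid_gen hS hZA hAS hb hbA hy
      obtain ⟨k, c, hc, rfl⟩ := h.mid_gen_center hS hZA hAS haA haZ hy₁
      have hakS : a ^ k ∈ S := S.pow_mem ha k
      have hblS : b ^ l ∈ S := S.pow_mem hb l
      have hcS : c ∈ S := hc.1
      constructor
      · rw [h.comm_mul_right ha hblS (S.mul_mem hakS hcS), h.comm_mul_right ha hakS hcS,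
          h.comm_pow_right ha hb, h.comm_pow_right ha ha, comm_central_right hc ha, ← hz]
        have : a * a * a⁻¹ * a⁻¹ = 1 := by group
        rw [this, one_pow, one_mul, mul_one]
        exact Subgroup.pow_mem _ (Subgroup.mem_zpowers z) l
      · rw [h.comm_mul_right hb hblS (S.mul_mem hakS hcS), h.comm_mul_right hb hakS hcS,
          h.comm_pow_right hb hb, h.comm_pow_right hb ha, comm_central_right hc hb, hzinv]
        have : b * b * b⁻¹ * b⁻¹ = 1 := by group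
        rw [this, one_pow, one_mul, mul_one]
        exact Subgroup.pow_mem _ (Subgroup.inv_mem _ (Subgroup.mem_zpowers z)) k
    intro x hx y hy
    obtain ⟨j, x₁, hx₁, rfl⟩ := h.mid_gen hS hZA hAS hb hbA hx
    obtain ⟨i, c, hc, rfl⟩ := h.mid_gen_center hS hZA hAS haA haZ hx₁
    have haiS : a ^ i ∈ S := S.pow_mem ha i
    have hbjS : b ^ j ∈ S := S.pow_mem hb j
    rw [h.comm_mul_left hbjS (S.mul_mem haiS hc.1) hy, h.comm_mul_left haiS hc.1 hy,
      h.comm_pow_left hb hy, h.comm_pow_left ha hy, comm_central_left hc hy, mul_one]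
    exact Subgroup.mul_mem _ (Subgroup.pow_mem _ (key y hy).2 j)
      (Subgroup.pow_mem _ (key y hy).1 i)

end IdxSq

end Cfsg.Agent.Lib.Helper90
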