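import Cfsg.Agent.Lib.Helper90.IdxSqB

set_option autoImplicit false
set_option linter.unusedSectionVars false

namespace Cfsg.Agent.Lib.Helper90

open Cfsg Cfsg.FusionSystem

variable {Ω : Type*} [Group Ω] {S : Subgroup Ω} {F : FusionSystem S} {A B : Subgroup Ω}
  {f g : Ω → Ω}

/-- The data of a generator `z` of the commutator subgroup of `S`. -/
structure ZData (S : Subgroup Ω) (p : ℕ) (z : Ω) : Prop where
  idx : IdxSq S p
  mem : z ∈ centralizerIn S S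
  ne : z ≠ 1
  pow : z ^ p = 1
  comm : ∀ x ∈ S, ∀ y ∈ S, x * y * x⁻¹ * y⁻¹ ∈ Subgroup.zpowers z
  gen : ∃ a₀ ∈ S, ∃ b₀ ∈ S, z = a₀ * b₀ * a₀⁻¹ * b₀⁻¹

/-- `f` is an automorphism of `A` in the system. -/
def AutF (F : FusionSystem S) (A : Subgroup Ω) (f : Ω → Ω) : Prop :=
  Mor F A f ∧ ∀ x ∈ A, f x ∈ A

/-- `f` (on `A`) is the restriction of an `F`-automorphism of `S`. -/
def ExtS (F : FusionSystem S) (A : Subgroup Ω) (f : Ω → Ω) : Prop :=
  ∃ σ, Mor F S σ ∧ ∀ x ∈ A, σ x = f x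

theorem AutF.comp (hf : AutF F A f) (hg : AutF F A g) : AutF F A (g ∘ f) :=
  ⟨hf.1.comp hg.1 hf.2, fun x hx => hg.2 _ (hf.2 x hx)⟩

theorem AutF.inv [Finite S] (hf : AutF F A f) : AutF F A (invFn A f) := by
  have : Finite A := finite_of_le hf.1.le
  have himg := hf.1.img_eq_self hf.2
  have h1 := hf.1.inv
  rw [himg] at h1
  refine ⟨h1, fun x hx => ?_⟩
  have : x ∈ img A f := by rw [himg]; exact hx
  exact hf.1.invFn_mem this

theorem AutF.inv_apply (hf : AutF F A f) {x : Ω} (hx : x ∈ A) : invFn A f (f x) = x :=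
  hf.1.invFn_apply hx

theorem AutF.apply_inv [Finite S] (hf : AutF F A f) {x : Ω} (hx : x ∈ A) :
    f (invFn A f x) = x := by
  have : Finite A := finite_of_le hf.1.le
  exact hf.1.apply_invFn (by rw [hf.1.img_eq_self hf.2]; exact hx)

theorem AutF.inv_inv [Finite S] (hf : AutF F A f) {x : Ω} (hx : x ∈ A) :
    invFn A (invFn A f) x = f x := by
  have h1 := hf.inv.inv_apply (hf.2 x hx)
  rwa [hf.inv_apply hx] at h1

theorem AutF.congr (hf : AutF F A f) (hfg : ∀ x ∈ A, f x = g x) : AutF F A g :=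
  ⟨hf.1.congr hfg, fun x hx => hfg x hx ▸ hf.2 x hx⟩

theorem autF_top (hσ : Mor F S g) : AutF F S g := ⟨hσ, fun _ hx => hσ.mem hx⟩

theorem ExtS.congr (h : ExtS F A f) (hfg : ∀ x ∈ A, f x = g x) : ExtS F A g := by
  obtain ⟨σ, hσ, hσf⟩ := h
  exact ⟨σ, hσ, fun x hx => (hσf x hx).trans (hfg x hx)⟩

theorem ExtS.comp (hf : ExtS F A f) (hg : ExtS F A g) (hfA : ∀ x ∈ A, f x ∈ A) :
    ExtS F A (g ∘ f) := by
  obtain ⟨σ, hσ, hσf⟩ := hf
  obtain ⟨ρ, hρ, hρg⟩ := hg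
  refine ⟨ρ ∘ σ, hσ.comp hρ (fun x hx => hσ.mem hx), fun x hx => ?_⟩
  show ρ (σ x) = g (f x)
  rw [hσf x hx, hρg _ (hfA x hx)]

theorem ExtS.inv [Finite S] (hf : AutF F A f) (h : ExtS F A f) : ExtS F A (invFn A f) := by
  obtain ⟨σ, hσ, hσf⟩ := h
  refine ⟨invFn S σ, (autF_top hσ).inv.1, fun x hx => ?_⟩
  have h1 : invFn A f x ∈ A := hf.inv.2 x hx
  have h2 : σ (invFn A f x) = x := by rw [hσf _ h1, hf.apply_inv hx]
  calc invFn S σ x = invFn S σ (σ (invFn A f x)) := by rw [h2]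
    _ = invFn A f x := hσ.invFn_apply (hf.1.le h1)

theorem ExtS.of_inv [Finite S] (hf : AutF F A f) (h : ExtS F A (invFn A f)) : ExtS F A f :=
  (ExtS.inv hf.inv h).congr (fun _ hx => hf.inv_inv hx)

theorem mor_top_center [Finite S] {δ : Ω → Ω} (hδ : Mor F S δ) {x : Ω}
    (hx : x ∈ centralizerIn S S) : δ x ∈ centralizerIn S S := by
  rw [mem_centralizerIn_self]
  refine ⟨hδ.mem hx.1, fun s hs => ?_⟩
  obtain ⟨s', hs', rfl⟩ := hδ.surj_of_finite (fun y hy => hδ.mem hy) s hs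
  rw [← hδ.map_mul hs' hx.1, ← hδ.map_mul hx.1 hs', (mem_centralizerIn_self.mp hx).2 s' hs']

theorem ZData.mor_top_z {p : ℕ} {z : Ω} (D : ZData S p z) {δ : Ω → Ω} (hδ : Mor F S δ) :
    δ z ∈ Subgroup.zpowers z := by
  obtain ⟨a, ha, b, hb, hz⟩ := D.gen
  have h1 : δ (a * b * a⁻¹ * b⁻¹) = δ a * δ b * (δ a)⁻¹ * (δ b)⁻¹ := by
    rw [hδ.map_mul (S.mul_mem (S.mul_mem ha hb) (S.inv_mem ha)) (S.inv_mem hb),
      hδ.map_mul (S.mul_mem ha hb) (S.inv_mem ha), hδ.map_mul ha hb, hδ.map_inv ha,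
      hδ.map_inv hb]
  have h2 : δ z = δ a * δ b * (δ a)⁻¹ * (δ b)⁻¹ := by rw [← h1, ← hz]
  rw [h2]
  exact D.comm _ (hδ.mem ha) _ (hδ.mem hb)

/-- A subgroup normal in `S` is fully automized and receptive. -/
theorem fa_rec_of_normal [Finite S] {p : ℕ} [Fact p.Prime] (hS : IsPGroup p S)
    (hF : F.IsSaturated p) (hA : A ≤ S) (hn : ∀ s ∈ S, ∀ x ∈ A, s * x * s⁻¹ ∈ A) :
    F.IsFullyAutomized p A ∧ F.IsReceptive A := by
  have : Finite A := finite_of_le hA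
  have hN : normalizerIn S A = S := by
    apply le_antisymm inf_le_left
    intro s hs
    exact ⟨hs, mem_normalizer_of_finite (hn s hs)⟩
  have hfn : F.IsFullyNormalized A := by
    refine ⟨hA, fun Q _ => ?_⟩
    rw [hN]
    exact Subgroup.card_le_of_le inf_le_left
  exact (Cfsg.Agent.Lib.Helper87.saturated_fullyNormalized p hS F hF hfn).2

theorem extS_of_mem_extFn [Finite S] {p : ℕ} [Fact p.Prime] (hS : IsPGroup p S) (h : IdxSq S p)
    (hZA : centralizerIn S S < A) (hAS : A < S) (hrec : F.IsReceptive A) (hf : AutF F A f)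
    {a : Ω} (haA : a ∉ A) (ha : a ∈ extFn S A f) : ExtS F A f := by
  have : Finite A := finite_of_le hAS.le
  obtain ⟨f', hf', hf'A⟩ := receptive_extend' hrec hf.1 (hf.1.img_eq_self hf.2)
  have haS : a ∈ S := (extFn_le S A f ha).1
  have hle : S ≤ extFn S A f := by
    intro s hs
    obtain ⟨i, y, hy, rfl⟩ := h.mid_gen hS hZA hAS haS haA hs
    exact Subgroup.mul_mem _ (Subgroup.pow_mem _ ha i) (hf.1.le_extFn hy)
  exact ⟨f', hf'.restrict hle, hf'A⟩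

theorem mem_extFn_of_extS [Finite S] {p : ℕ} [Fact p.Prime] (h : IdxSq S p) (hZA : centralizerIn S S ≤ A)
    (hAS : A ≤ S) (hf : Mor F A f) (he : ExtS F A f) {a : Ω} (ha : a ∈ S) :
    a ∈ extFn S A f := by
  have : Finite A := finite_of_le hAS
  obtain ⟨σ, hσ, hσf⟩ := he
  rw [hf.mem_extFn]
  refine ⟨ha, mem_normalizer_of_finite (fun x hx => h.conj_mem hZA hAS ha hx), σ a, hσ.mem ha,
    fun x hx => ?_⟩
  rw [← hσf x hx, ← hσf _ (h.conj_mem hZA hAS ha hx),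
    hσ.map_mul (S.mul_mem ha (hAS hx)) (S.inv_mem ha), hσ.map_mul ha (hAS hx), hσ.map_inv ha]

/-- An automorphism of a maximal subgroup `A ≥ Z(S)` sending `z` into the centre extends to
`S`. -/
theorem extS_of_map_z_central [Finite S] {p : ℕ} [hp : Fact p.Prime] (hS : IsPGroup p S)
    (hF : F.IsSaturated p) {z : Ω} (D : ZData S p z) (hZA : centralizerIn S S < A) (hAS : A < S)
    (hf : AutF F A f) (hfz : f z ∈ centralizerIn S S) : ExtS F A f := by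
  have h := D.idx
  have hA : A ≤ S := hAS.le
  have : Finite A := finite_of_le hA
  have hzA : z ∈ A := hZA.le D.mem
  have hZ1A : Subgroup.zpowers z ≤ A := Subgroup.zpowers_le.mpr hzA
  have hZ1Z : Subgroup.zpowers z ≤ centralizerIn S S := Subgroup.zpowers_le.mpr D.mem
  obtain ⟨hfa, hrec⟩ := fa_rec_of_normal hS hF hA (fun s hs x hx => h.conj_mem hZA.le hA hs hx)
  -- Step 1: `f z ∈ ⟨z⟩`
  have hf1 : Mor F (Subgroup.zpowers z) f := hf.1.restrict hZ1A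
  have hU : img (Subgroup.zpowers z) f ≤ centralizerIn S S := by
    intro y hy
    obtain ⟨x, hx, rfl⟩ := hf1.mem_img.mp hy
    obtain ⟨n, rfl⟩ := Subgroup.mem_zpowers_iff.mp hx
    rw [hf.1.map_zpow' hzA]
    exact Subgroup.zpow_mem _ hfz n
  have hUrec : F.IsReceptive (img (Subgroup.zpowers z) f) :=
    (fa_rec_of_normal hS hF (hU.trans inf_le_left) (fun s hs x hx => by
      have h1 := (mem_centralizerIn_self.mp (hU hx)).2 s hs
      rw [h1]; simpa using hx)).2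
  obtain ⟨f', hf', hf'z⟩ := receptive_extend' hUrec hf1 rfl
  have hle : S ≤ extFn S (Subgroup.zpowers z) f := by
    intro s hs
    rw [hf1.mem_extFn]
    refine ⟨hs, Subgroup.centralizer_le_normalizer _ ?_, 1, S.one_mem, fun x hx => ?_⟩
    · rw [Subgroup.mem_centralizer_iff]
      intro x hx
      exact ((mem_centralizerIn_self.mp (hZ1Z hx)).2 s hs).symm
    · have h1 := (mem_centralizerIn_self.mp (hZ1Z hx)).2 s hs
      rw [h1]; simp
  have hfzz : f z ∈ Subgroup.zpowers z := by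
    rw [← hf'z z (Subgroup.mem_zpowers z)]
    exact D.mor_top_z (hf'.restrict hle)
  -- Step 2
  have hfZ1 : ∀ x ∈ Subgroup.zpowers z, f x ∈ Subgroup.zpowers z := by
    intro x hx
    obtain ⟨n, rfl⟩ := Subgroup.mem_zpowers_iff.mp hx
    rw [hf.1.map_zpow' hzA]
    exact Subgroup.zpow_mem _ hfzz n
  have : Finite (Subgroup.zpowers z) := finite_of_le (hZ1A.trans hA)
  have hsurj := hf1.surj_of_finite hfZ1
  -- Step 3
  obtain ⟨a, haS, haA⟩ := SetLike.exists_of_lt hAS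
  obtain ⟨α, hα, hαf⟩ := exists_aut_of_mor hf.1 hf.2
  obtain ⟨τ, hτ, hτa⟩ := exists_aut_of_mor (mor_conj F hA haS)
    (fun x hx => h.conj_mem hZA.le hA haS hx)
  have hτB : τ ∈ stabB F (Subgroup.zpowers z) A := by
    refine ⟨hτ, fun x => ?_, 1, Subgroup.one_mem _, fun x hx => ?_⟩
    · rw [hτa]; exact D.comm a haS x (hA x.2)
    · rw [hτa]
      have h1 := (mem_centralizerIn_self.mp (hZ1Z hx)).2 a haS
      rw [h1]; simp
  have hgB : α * τ * α⁻¹ ∈ stabB F (Subgroup.zpowers z) A := by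
    refine ⟨Subgroup.mul_mem _ (Subgroup.mul_mem _ hα hτ) (Subgroup.inv_mem _ hα), fun x => ?_,
      1, Subgroup.one_mem _, fun x hx => ?_⟩
    · show ((α (τ (α⁻¹ x)) : A) : Ω) * (x : Ω)⁻¹ ∈ Subgroup.zpowers z
      have h1 : α (τ (α⁻¹ x)) = α (τ (α⁻¹ x) * (α⁻¹ x)⁻¹) * x := by
        rw [map_mul, map_inv]; simp
      rw [h1]
      show ((α (τ (α⁻¹ x) * (α⁻¹ x)⁻¹) : A) : Ω) * (x : Ω) * (x : Ω)⁻¹ ∈ _
      rw [mul_inv_cancel_right, hαf]
      apply hfZ1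
      show ((τ (α⁻¹ x) : A) : Ω) * ((α⁻¹ x : A) : Ω)⁻¹ ∈ _
      rw [hτa]
      exact D.comm a haS _ (hA (α⁻¹ x).2)
    · show ((α (τ (α⁻¹ x)) : A) : Ω) = 1 * (x : Ω) * 1⁻¹
      obtain ⟨y, hy, hyx⟩ := hsurj (x : Ω) hx
      have h1 : α ⟨y, hZ1A hy⟩ = x := Subtype.ext ((hαf _).trans hyx)
      have h2 : α⁻¹ x = ⟨y, hZ1A hy⟩ := by rw [← h1]; simp
      have h3 : τ ⟨y, hZ1A hy⟩ = ⟨y, hZ1A hy⟩ := by
        apply Subtype.ext
        rw [hτa]
        have h4 := (mem_centralizerIn_self.mp (hZ1Z hy)).2 a haS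
        show a * y * a⁻¹ = y
        rw [h4]; simp
      rw [h2, h3, h1]; simp
  have hB : IsPGroup p (stabB F (Subgroup.zpowers z) A) := isPGroup_stabB hS (hZ1A.trans hA) hA
  obtain ⟨γ, hγ, hconj⟩ := exists_conj_le_autInducedBy hfa _ hB (stabB_le F _ A)
  obtain ⟨s, hs, hsτ⟩ := (mem_autInducedBy_iff S A _).mp (hconj τ hτB)
  obtain ⟨s', hs', hsg⟩ := (mem_autInducedBy_iff S A _).mp (hconj _ hgB)
  have hsA : s ∉ A := by
    intro hsA
    apply haA
    apply h.mid_self_centralizing hS hZA hAS haS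
    intro x hx
    have h1 : γ * τ * γ⁻¹ = 1 := by
      ext y
      rw [hsτ]
      show s * (y : Ω) * s⁻¹ = y
      rw [h.mid_comm hS hZA hAS hsA y.2]; group
    have h2 : τ = 1 := by
      have : τ = γ⁻¹ * (γ * τ * γ⁻¹) * γ := by group
      rw [this, h1]; group
    have h3 := hτa ⟨x, hx⟩
    rw [h2] at h3
    have h4 : x = a * x * a⁻¹ := h3
    calc a * x = (a * x * a⁻¹) * a := by group
      _ = x * a := by rw [← h4]
  obtain ⟨i, y, hy, rfl⟩ := h.mid_gen hS hZA hAS hs hsA hs'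
  have hpow : γ * (α * τ * α⁻¹) * γ⁻¹ = (γ * τ * γ⁻¹) ^ i := by
    ext x
    rw [hsg, aut_pow_conj _ s hsτ i x]
    have h1 : y * (x : Ω) = (x : Ω) * y := h.mid_comm hS hZA hAS hy x.2
    calc s ^ i * y * (x : Ω) * (s ^ i * y)⁻¹ = s ^ i * (y * (x : Ω)) * y⁻¹ * (s ^ i)⁻¹ := by group
      _ = s ^ i * (x : Ω) * (s ^ i)⁻¹ := by rw [h1]; group
  have hατ : α * τ * α⁻¹ = τ ^ i := by
    rw [conj_pow] at hpow
    have := congrArg (fun w => γ⁻¹ * w * γ) hpow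
    simpa [mul_assoc] using this
  -- Step 4
  apply extS_of_mem_extFn hS h hZA hAS hrec hf haA
  rw [hf.1.mem_extFn]
  refine ⟨haS, mem_normalizer_of_finite (fun x hx => h.conj_mem hZA.le hA haS hx), a ^ i,
    S.pow_mem haS i, fun x hx => ?_⟩
  have h1 : (α * τ * α⁻¹) (α ⟨x, hx⟩) = (τ ^ i) (α ⟨x, hx⟩) := by rw [hατ]
  have h2 : (α * τ * α⁻¹) (α ⟨x, hx⟩) = α (τ ⟨x, hx⟩) := by
    show α (τ (α⁻¹ (α ⟨x, hx⟩))) = _
    simp
  rw [h2] at h1
  have h3 := congrArg Subtype.val h1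
  rw [hαf, hτa, aut_pow_conj τ a hτa i, hαf] at h3
  exact h3

end Cfsg.Agent.Lib.Helper90
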