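import Cfsg.Agent.Lib.Helper90.IdxSqC

set_option autoImplicit false
set_option linter.unusedSectionVars false

namespace Cfsg.Agent.Lib.Helper90

open Cfsg Cfsg.FusionSystem

variable {Ω : Type*} [Group Ω] {S : Subgroup Ω} {F : FusionSystem S} {A B : Subgroup Ω}
  {f g : Ω → Ω}

theorem autF_of_mem (hA : A ≤ S) {α : MulAut A} (hα : α ∈ F.autGroup A) :
    AutF F A (autFun A α) :=
  ⟨(mem_autGroup_iff F hA α).mp hα, fun _ hx => autFun_mem α hx⟩

section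

variable [Finite S] {p : ℕ} [hp : Fact p.Prime] (hS : IsPGroup p S) (hF : F.IsSaturated p)
  {z : Ω} (D : ZData S p z) (hZA : centralizerIn S S < A) (hAS : A < S)

include hS hF D hZA hAS

theorem not_central_of_not_extS (hf : AutF F A f) (hne : ¬ ExtS F A f) :
    f z ∉ centralizerIn S S ∧ invFn A f z ∉ centralizerIn S S :=
  ⟨fun hc => hne (extS_of_map_z_central hS hF D hZA hAS hf hc),
   fun hc => hne (ExtS.of_inv hf (extS_of_map_z_central hS hF D hZA hAS hf.inv hc))⟩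

/-- For a non-extending automorphism `f` of `A`: `Z(S) = ⟨z⟩ (Z(S) ∩ f⁻¹(Z(S)))`. -/
theorem center_decomp (hf : AutF F A f) (hne : ¬ ExtS F A f) {x : Ω}
    (hx : x ∈ centralizerIn S S) :
    ∃ i : ℕ, ∃ k ∈ centralizerIn S S, f k ∈ centralizerIn S S ∧ x = z ^ i * k := by
  have h := D.idx
  have hzA : z ∈ A := hZA.le D.mem
  have hfz := (not_central_of_not_extS hS hF D hZA hAS hf hne).1
  obtain ⟨i, c, hc, hfx⟩ := h.mid_gen_center hS hZA hAS (hf.2 z hzA) hfz (hf.2 x (hZA.le hx))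
  refine ⟨i, (z ^ i)⁻¹ * x,
    Subgroup.mul_mem _ (Subgroup.inv_mem _ (Subgroup.pow_mem _ D.mem i)) hx, ?_, by group⟩
  have hziA : z ^ i ∈ A := A.pow_mem hzA i
  rw [hf.1.map_mul (A.inv_mem hziA) (hZA.le hx), hf.1.map_inv hziA, hf.1.map_pow' hzA, hfx]
  simpa using hc

theorem eq_one_of_map_central (hf : AutF F A f) (hne : ¬ ExtS F A f) {w : Ω}
    (hw : w ∈ Subgroup.zpowers z) (hk : f w ∈ centralizerIn S S) : w = 1 := by
  by_contra h1
  have hzA : z ∈ A := hZA.le D.mem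
  have hwA : w ∈ A := (Subgroup.zpowers_le.mpr hzA) hw
  have hfz := (not_central_of_not_extS hS hF D hZA hAS hf hne).1
  have heq := zpowers_eq_of_mem hw h1 D.pow
  have hz : z ∈ Subgroup.zpowers w := by rw [heq]; exact Subgroup.mem_zpowers z
  obtain ⟨n, hn⟩ := Subgroup.mem_zpowers_iff.mp hz
  apply hfz
  have h2 : f z = f w ^ n := by rw [← hf.1.map_zpow' hwA, hn]
  rw [h2]
  exact Subgroup.zpow_mem _ hk n

/-- For a non-extending automorphism `f` of `A` there is an `F`-automorphism of `S` inverting `z`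
and fixing `Z(S) ∩ f⁻¹(Z(S))` elementwise. -/
theorem exists_inverting_aut (hf : AutF F A f) (hne : ¬ ExtS F A f) :
    ∃ b, Mor F S b ∧ b z = z⁻¹ ∧
      ∀ k ∈ centralizerIn S S, f k ∈ centralizerIn S S → b k = k := by
  have h := D.idx
  have hA : A ≤ S := hAS.le
  have : Finite A := finite_of_le hA
  have hzA : z ∈ A := hZA.le D.mem
  have hZ1Z : Subgroup.zpowers z ≤ centralizerIn S S := Subgroup.zpowers_le.mpr D.mem
  obtain ⟨hfz, hfiz⟩ := not_central_of_not_extS hS hF D hZA hAS hf hne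
  obtain ⟨a, haS, haA⟩ := SetLike.exists_of_lt hAS
  obtain ⟨α, hα, hαf⟩ := exists_aut_of_mor hf.1 hf.2
  obtain ⟨τ, hτ, hτa⟩ := exists_aut_of_mor (mor_conj F hA haS)
    (fun x hx => h.conj_mem hZA.le hA haS hx)
  -- `τ` fixes central elements
  have hτfix : ∀ x : A, (x : Ω) ∈ centralizerIn S S → τ x = x := by
    intro x hx
    apply Subtype.ext
    rw [hτa]
    have h1 := (mem_centralizerIn_self.mp hx).2 a haS
    rw [h1]; simp
  have hτfix' : ∀ x : A, τ x = x → (x : Ω) ∈ centralizerIn S S := by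
    intro x hx
    apply h.mid_centralizer hS hZA hAS haS haA x.2
    have h1 := congrArg Subtype.val hx
    rw [hτa] at h1
    calc a * (x : Ω) = (a * (x : Ω) * a⁻¹) * a := by group
      _ = (x : Ω) * a := by rw [h1]
  obtain ⟨v, hv⟩ : ∃ v : A, v = α⁻¹ ⟨z, hzA⟩ := ⟨_, rfl⟩
  have hαv : α v = ⟨z, hzA⟩ := by rw [hv]; simp
  have hvZ : (v : Ω) ∉ centralizerIn S S := by
    have h1 : invFn A f z = (v : Ω) := by
      have h2 := hf.inv_apply v.2
      rw [← hαf, hαv] at h2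
      exact h2
    rw [← h1]; exact hfiz
  have hvp : v ^ p = 1 := by
    rw [hv, ← map_pow]
    have : (⟨z, hzA⟩ : A) ^ p = 1 := Subtype.ext (by simpa using D.pow)
    rw [this, map_one]
  obtain ⟨τ', hτ'⟩ : ∃ τ' : MulAut A, τ' = α⁻¹ * τ * α := ⟨_, rfl⟩
  have hτ'app : ∀ x : A, τ' x = α⁻¹ (τ (α x)) := fun x => by rw [hτ']; rfl
  have hτ'v : τ' v = v := by
    rw [hτ'app, hαv, hτfix _ D.mem, hv]
  -- commutators with `τ` lie in `⟨z⟩`
  have hcomm : ∀ x : A, ∃ n : ℤ, x⁻¹ * τ x = (⟨z, hzA⟩ : A) ^ n := by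
    intro x
    have h1 : (x : Ω)⁻¹ * a * ((x : Ω)⁻¹)⁻¹ * a⁻¹ ∈ Subgroup.zpowers z :=
      D.comm _ (S.inv_mem (hA x.2)) a haS
    obtain ⟨n, hn⟩ := Subgroup.mem_zpowers_iff.mp h1
    refine ⟨n, Subtype.ext ?_⟩
    show (x : Ω)⁻¹ * ((τ x : A) : Ω) = (((⟨z, hzA⟩ : A) ^ n : A) : Ω)
    rw [hτa, Subgroup.coe_zpow, hn]
    group
  have hcomm' : ∀ x : A, ∃ n : ℤ, x⁻¹ * τ' x = v ^ n := by
    intro x
    obtain ⟨n, hn⟩ := hcomm (α x)
    refine ⟨n, ?_⟩
    rw [hτ'app]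
    have h1 : x⁻¹ * α⁻¹ (τ (α x)) = α⁻¹ ((α x)⁻¹ * τ (α x)) := by
      rw [map_mul, map_inv]; simp
    rw [h1, hn, map_zpow, hv]
  obtain ⟨z₀, hz₀⟩ : ∃ z₀ : A, z₀ = v⁻¹ * τ v := ⟨_, rfl⟩
  obtain ⟨n₀, hn₀⟩ := hcomm v
  rw [← hz₀] at hn₀
  have hz₀Z : (z₀ : Ω) ∈ Subgroup.zpowers z := by
    rw [hn₀, Subgroup.coe_zpow]
    exact Subgroup.zpow_mem _ (Subgroup.mem_zpowers z) n₀
  have hz₀1 : z₀ ≠ 1 := by
    intro h1
    apply hvZ
    apply hτfix'
    rw [hz₀] at h1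
    exact (inv_mul_eq_one.mp h1).symm
  obtain ⟨y₁, hy₁⟩ : ∃ y₁ : A, y₁ = z₀⁻¹ * τ' z₀ := ⟨_, rfl⟩
  obtain ⟨n₁, hn₁⟩ := hcomm' z₀
  rw [← hy₁] at hn₁
  have hy₁1 : y₁ ≠ 1 := by
    intro h1
    rw [hy₁] at h1
    have h2 : τ' z₀ = z₀ := (inv_mul_eq_one.mp h1).symm
    rw [hτ'app] at h2
    have h3 : τ (α z₀) = α z₀ := by
      have := congrArg α h2
      simpa using this
    have h4 := hτfix' _ h3
    rw [hαf] at h4
    exact hz₀1 (Subtype.ext (eq_one_of_map_central hS hF D hZA hAS hf hne hz₀Z h4))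
  have hy₁v : y₁ ∈ Subgroup.zpowers v := by rw [hn₁]; exact Subgroup.zpow_mem_zpowers v n₁
  have hvy₁ : v⁻¹ ∈ Subgroup.zpowers y₁ := by
    rw [zpowers_eq_of_mem hy₁v hy₁1 hvp]
    exact Subgroup.inv_mem _ (Subgroup.mem_zpowers v)
  rw [← mem_powers_iff_mem_zpowers] at hvy₁
  obtain ⟨j, hj⟩ := (Submonoid.mem_powers_iff _ _).mp hvy₁
  have hclfix : ∀ γ ∈ Subgroup.closure ({τ, τ'} : Set (MulAut A)), ∀ k : A,
      (k : Ω) ∈ centralizerIn S S → f k ∈ centralizerIn S S → γ k = k := by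
    intro γ hγmem k hk hfk
    induction hγmem using Subgroup.closure_induction with
    | mem γ hγ =>
      rcases hγ with rfl | rfl
      · exact hτfix k hk
      · rw [hτ'app]
        have h1 : τ (α k) = α k := hτfix _ (by rw [hαf]; exact hfk)
        rw [h1]; simp
    | one => rfl
    | mul γ₁ γ₂ _ _ h1 h2 =>
      show γ₁ (γ₂ k) = k
      rw [h2, h1]
    | inv γ _ h1 =>
      have := congrArg (γ⁻¹ : MulAut A) h1
      simpa using this.symm
  obtain ⟨β, hβmem, hβv, hβz₀⟩ := exists_aut_inv_of_transvections τ τ' v hτ'v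
    (by rw [← hz₀]; exact hτfix _ (hZ1Z hz₀Z))
    (by rw [← hz₀]; exact Subtype.ext (h.mid_comm hS hZA hAS v.2 z₀.2))
    (by rw [← hz₀, ← hy₁, hn₁, map_zpow, hτ'v])
    j (by rw [← hz₀, ← hy₁]; exact hj)
  rw [← hz₀] at hβz₀
  have hτ'G : τ' ∈ F.autGroup A := by
    rw [hτ']
    exact Subgroup.mul_mem _ (Subgroup.mul_mem _ (Subgroup.inv_mem _ hα) hτ) hα
  have hβG : β ∈ F.autGroup A := by
    have hle : Subgroup.closure ({τ, τ'} : Set (MulAut A)) ≤ F.autGroup A := by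
      rw [Subgroup.closure_le]
      rintro x (rfl | rfl)
      · exact hτ
      · exact hτ'G
    exact hle hβmem
  have hβfix : ∀ k : A, (k : Ω) ∈ centralizerIn S S → f k ∈ centralizerIn S S → β k = k :=
    fun k hk hfk => hclfix β hβmem k hk hfk
  have hβz : β ⟨z, hzA⟩ = (⟨z, hzA⟩ : A)⁻¹ := by
    have h1 : Subgroup.zpowers (z₀ : Ω) = Subgroup.zpowers z :=
      zpowers_eq_of_mem hz₀Z (fun hc => hz₀1 (Subtype.ext hc)) D.pow
    have h2 : z ∈ Subgroup.zpowers (z₀ : Ω) := by rw [h1]; exact Subgroup.mem_zpowers z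
    obtain ⟨n, hn⟩ := Subgroup.mem_zpowers_iff.mp h2
    have h3 : (⟨z, hzA⟩ : A) = z₀ ^ n := Subtype.ext (by rw [Subgroup.coe_zpow]; exact hn.symm)
    rw [h3, map_zpow, hβz₀, inv_zpow]
  have hfβ := autF_of_mem hA hβG
  have hfβz : autFun A β z = z⁻¹ := by
    rw [autFun_apply' β hzA, hβz]; rfl
  have hext : ExtS F A (autFun A β) := by
    apply extS_of_map_z_central hS hF D hZA hAS hfβ
    rw [hfβz]
    exact Subgroup.inv_mem _ D.mem
  obtain ⟨b, hb, hbβ⟩ := hext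
  refine ⟨b, hb, ?_, fun k hk hfk => ?_⟩
  · rw [hbβ z hzA, hfβz]
  · rw [hbβ k (hZA.le hk), autFun_apply' β (hZA.le hk), hβfix ⟨k, hZA.le hk⟩ hk hfk]

end

end Cfsg.Agent.Lib.Helper90
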