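import Cfsg.Agent.Lib.Helper90.IdxSqD

set_option autoImplicit false
set_option linter.unusedSectionVars false

namespace Cfsg.Agent.Lib.Helper90

open Cfsg Cfsg.FusionSystem

variable {Ω : Type*} [Group Ω] {S : Subgroup Ω} {F : FusionSystem S} {A B : Subgroup Ω}
  {f g : Ω → Ω}

theorem inv_mul_inv_pow_mul_mem {z k₁ : Ω} (i : ℕ) (hc : ∀ s ∈ S, s * k₁ = k₁ * s)
    (hzS : z ∈ S) : (z ^ i * k₁)⁻¹ * (z⁻¹ ^ i * k₁) ∈ Subgroup.zpowers z := by
  have h1 : z ^ i * k₁ = k₁ * z ^ i := hc _ (S.pow_mem hzS i)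
  have h2 : z⁻¹ ^ i * k₁ = k₁ * z⁻¹ ^ i := hc _ (S.pow_mem (S.inv_mem hzS) i)
  have e : (z ^ i * k₁)⁻¹ * (z⁻¹ ^ i * k₁) = (z ^ i)⁻¹ * z⁻¹ ^ i := by rw [h1, h2]; group
  rw [e]
  exact Subgroup.mul_mem _ (Subgroup.inv_mem _ (Subgroup.pow_mem _ (Subgroup.mem_zpowers z) i))
    (Subgroup.pow_mem _ (Subgroup.inv_mem _ (Subgroup.mem_zpowers z)) i)

/-- For `p` odd, the subgroup `Z(S) ∩ f⁻¹(Z(S))` does not depend on the non-extending
automorphism `f`. -/
theorem map_central_of_odd [Finite S] {p : ℕ} [hp : Fact p.Prime] (hS : IsPGroup p S)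
    (hF : F.IsSaturated p) (hodd : p ≠ 2) {z : Ω} (D : ZData S p z)
    (hZA : centralizerIn S S < A) (hAS : A < S) (hf : AutF F A f) (hnf : ¬ ExtS F A f)
    (hZB : centralizerIn S S < B) (hBS : B < S) (hg : AutF F B g) (hng : ¬ ExtS F B g)
    {k : Ω} (hk : k ∈ centralizerIn S S) (hfk : f k ∈ centralizerIn S S) :
    g k ∈ centralizerIn S S := by
  have hzS : z ∈ S := D.mem.1
  obtain ⟨b, hb, hbz, hbk⟩ := exists_inverting_aut hS hF D hZA hAS hf hnf
  obtain ⟨b', hb', hb'z, hb'k⟩ := exists_inverting_aut hS hF D hZB hBS hg hng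
  -- action on central elements
  have hact : ∀ x ∈ centralizerIn S S, x⁻¹ * b x ∈ Subgroup.zpowers z := by
    intro x hx
    obtain ⟨i, k₁, hk₁, hfk₁, rfl⟩ := center_decomp hS hF D hZA hAS hf hnf hx
    rw [hb.map_mul (S.pow_mem hzS i) hk₁.1, hb.map_pow' hzS, hbz, hbk k₁ hk₁ hfk₁]
    exact inv_mul_inv_pow_mul_mem i (mem_centralizerIn_self.mp hk₁).2 hzS
  have hact' : ∀ x ∈ centralizerIn S S, x⁻¹ * b' x ∈ Subgroup.zpowers z := by
    intro x hx
    obtain ⟨i, k₁, hk₁, hfk₁, rfl⟩ := center_decomp hS hF D hZB hBS hg hng hx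
    rw [hb'.map_mul (S.pow_mem hzS i) hk₁.1, hb'.map_pow' hzS, hb'z, hb'k k₁ hk₁ hfk₁]
    exact inv_mul_inv_pow_mul_mem i (mem_centralizerIn_self.mp hk₁).2 hzS
  have hδ : Mor F S (b ∘ b') := hb'.comp hb (fun x hx => hb'.mem hx)
  have hδz : ∀ w ∈ Subgroup.zpowers z, (b ∘ b') w = w := by
    intro w hw
    obtain ⟨n, rfl⟩ := Subgroup.mem_zpowers_iff.mp hw
    show b (b' (z ^ n)) = z ^ n
    rw [hb'.map_zpow' hzS, hb'z, hb.map_zpow' (S.inv_mem hzS), hb.map_inv hzS, hbz, inv_inv]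
  have hδfix : ∀ x ∈ centralizerIn S S, b (b' x) = x := by
    intro x hx
    apply aut_top_fix_center hS hF hδ hx
    apply hδz
    have hb'x : b' x ∈ centralizerIn S S := mor_top_center hb' hx
    have e : x⁻¹ * (b ∘ b') x = (x⁻¹ * b' x) * ((b' x)⁻¹ * b (b' x)) := by
      show x⁻¹ * b (b' x) = _
      group
    rw [e]
    exact Subgroup.mul_mem _ (hact' x hx) (hact _ hb'x)
  -- `b' k = k`
  have hb'kk : b' k = k := by
    have h1 := hδfix k hk
    have h2 := hbk k hk hfk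
    exact hb.inj (hb'.mem hk.1) hk.1 (h1.trans h2.symm)
  obtain ⟨i, k', hk', hgk', hkk⟩ := center_decomp hS hF D hZB hBS hg hng hk
  have h3 : b' k = z⁻¹ ^ i * k' := by
    rw [hkk, hb'.map_mul (S.pow_mem hzS i) hk'.1, hb'.map_pow' hzS, hb'z, hb'k k' hk' hgk']
  have h4 : z⁻¹ ^ i = z ^ i := by
    have h5 : z⁻¹ ^ i * k' = z ^ i * k' := by rw [← h3, hb'kk, hkk]
    exact mul_right_cancel h5
  have h6 : (z ^ i) ^ 2 = 1 := by
    rw [pow_two]
    nth_rewrite 1 [← h4]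
    rw [inv_pow, inv_mul_cancel]
  have h7 : (z ^ i) ^ p = 1 := by rw [← pow_mul, mul_comm, pow_mul, D.pow, one_pow]
  have h8 : z ^ i = 1 := by
    have h9 : orderOf (z ^ i) ∣ Nat.gcd 2 p :=
      Nat.dvd_gcd (orderOf_dvd_of_pow_eq_one h6) (orderOf_dvd_of_pow_eq_one h7)
    have h10 : Nat.gcd 2 p = 1 := (Nat.coprime_primes Nat.prime_two hp.out).mpr (Ne.symm hodd)
    rw [h10, Nat.dvd_one, orderOf_eq_one_iff] at h9
    exact h9
  rw [hkk, h8, one_mul]
  exact hgk'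

/-! ### Transport of automorphisms by automorphisms of `S` -/

theorem autF_transport [Finite S] {σ : Ω → Ω} (hσ : Mor F S σ) (hB : B ≤ S) (hg : AutF F B g) :
    AutF F (img B (invFn S σ)) (invFn S σ ∘ g ∘ σ) ∧
      (∀ y ∈ B, invFn S σ y ∈ img B (invFn S σ)) ∧
      ∀ x ∈ img B (invFn S σ), σ x ∈ B := by
  have hσ' := (autF_top hσ).inv
  have hσ'B : Mor F B (invFn S σ) := hσ'.1.restrict hB
  have hmaps : ∀ x ∈ img B (invFn S σ), σ x ∈ B := by
    intro x hx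
    obtain ⟨y, hy, rfl⟩ := hσ'B.mem_img.mp hx
    rw [(autF_top hσ).apply_inv (hB hy)]
    exact hy
  have hmem : ∀ y ∈ B, invFn S σ y ∈ img B (invFn S σ) := fun y hy => hσ'B.mem_img_of_mem hy
  have hσB' : Mor F (img B (invFn S σ)) σ := hσ.restrict hσ'B.img_le
  have h1 : Mor F (img B (invFn S σ)) (g ∘ σ) := hσB'.comp hg.1 hmaps
  have h2 : Mor F (img B (invFn S σ)) (invFn S σ ∘ g ∘ σ) :=
    h1.comp hσ'B (fun x hx => hg.2 _ (hmaps x hx))
  exact ⟨⟨h2, fun x hx => hmem _ (hg.2 _ (hmaps x hx))⟩, hmem, hmaps⟩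

/-! ### The core of the centre -/

/-- The elements of `Z(S)` all of whose images under automorphisms (in the system) of overgroups
of `Z(S)` are central. -/
def coreZ (F : FusionSystem S) : Subgroup Ω where
  carrier := {x | x ∈ centralizerIn S S ∧ ∀ (A : Subgroup Ω) (f : Ω → Ω),
    centralizerIn S S ≤ A → AutF F A f → f x ∈ centralizerIn S S}
  mul_mem' := by
    rintro x y ⟨hx, hx'⟩ ⟨hy, hy'⟩
    refine ⟨Subgroup.mul_mem _ hx hy, fun A f hA hf => ?_⟩
    rw [hf.1.map_mul (hA hx) (hA hy)]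
    exact Subgroup.mul_mem _ (hx' A f hA hf) (hy' A f hA hf)
  one_mem' := ⟨Subgroup.one_mem _, fun A f hA hf => by
    rw [hf.1.map_one]; exact Subgroup.one_mem _⟩
  inv_mem' := by
    rintro x ⟨hx, hx'⟩
    refine ⟨Subgroup.inv_mem _ hx, fun A f hA hf => ?_⟩
    rw [hf.1.map_inv (hA hx)]
    exact Subgroup.inv_mem _ (hx' A f hA hf)

theorem mem_coreZ {x : Ω} : x ∈ coreZ F ↔ x ∈ centralizerIn S S ∧ ∀ (A : Subgroup Ω)
    (f : Ω → Ω), centralizerIn S S ≤ A → AutF F A f → f x ∈ centralizerIn S S := Iff.rfl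

theorem coreZ_le (F : FusionSystem S) : coreZ F ≤ centralizerIn S S := fun _ hx => hx.1

theorem coreZ_map_top [Finite S] {σ : Ω → Ω} (hσ : Mor F S σ) {x : Ω} (hx : x ∈ coreZ F) :
    σ x ∈ coreZ F := by
  refine ⟨mor_top_center hσ hx.1, fun B g hB hg => ?_⟩
  have hBS : B ≤ S := hg.1.le
  obtain ⟨haut, hmem, hmaps⟩ := autF_transport hσ hBS hg
  have hZ : centralizerIn S S ≤ img B (invFn S σ) := by
    intro y hy
    have h1 := hmem _ (hB (mor_top_center hσ hy))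
    rwa [hσ.invFn_apply hy.1] at h1
  have h2 := hx.2 _ _ hZ haut
  have h3 : (invFn S σ ∘ g ∘ σ) x = invFn S σ (g (σ x)) := rfl
  rw [h3] at h2
  have h4 := mor_top_center hσ h2
  rwa [(autF_top hσ).apply_inv (hBS (hg.2 _ (hB (mor_top_center hσ hx.1))))] at h4

/-- The Frattini argument: every automorphism of a maximal subgroup `A ≥ Z(S)` agrees with an
`F`-automorphism of `S` on the elements of `Z(S)` whose `Aut_F(A)`-orbit is central. -/
theorem exists_top_agree [Finite S] {p : ℕ} [hp : Fact p.Prime] (hS : IsPGroup p S)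
    (hF : F.IsSaturated p) (h : IdxSq S p) (hZA : centralizerIn S S < A) (hAS : A < S)
    (hf : AutF F A f) :
    ∃ γ, Mor F S γ ∧ ∀ y ∈ centralizerIn S S,
      (∀ g, AutF F A g → g y ∈ centralizerIn S S) → f y = γ y := by
  have hA : A ≤ S := hAS.le
  have : Finite A := finite_of_le hA
  obtain ⟨hfa, hrec⟩ := fa_rec_of_normal hS hF hA (fun s hs x hx => h.conj_mem hZA.le hA hs hx)
  obtain ⟨-, T, hT⟩ := hfa
  obtain ⟨a, haS, haA⟩ := SetLike.exists_of_lt hAS
  obtain ⟨α, hα, hαf⟩ := exists_aut_of_mor hf.1 hf.2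
  obtain ⟨τ, hτ, hτa⟩ := exists_aut_of_mor (mor_conj F hA haS)
    (fun x hx => h.conj_mem hZA.le hA haS hx)
  let L : Subgroup (F.autGroup A) :=
    { carrier := {κ | ∀ y : A, (y : Ω) ∈ centralizerIn S S →
        (∀ g, AutF F A g → g y ∈ centralizerIn S S) → (κ : MulAut A) y = y}
      mul_mem' := by
        intro κ₁ κ₂ h1 h2 y hy hy'
        show (κ₁ : MulAut A) ((κ₂ : MulAut A) y) = y
        rw [h2 y hy hy', h1 y hy hy']
      one_mem' := fun y _ _ => rfl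
      inv_mem' := by
        intro κ h1 y hy hy'
        have := congrArg ((κ : MulAut A)⁻¹ : MulAut A) (h1 y hy hy')
        simpa using this.symm }
  have hLn : L.Normal := by
    refine ⟨fun κ hκ g y hy hy' => ?_⟩
    show (g : MulAut A) ((κ : MulAut A) ((g : MulAut A)⁻¹ y)) = y
    have hg' : AutF F A (autFun A ((g : MulAut A)⁻¹)) :=
      autF_of_mem hA (Subgroup.inv_mem _ g.2)
    have h1 : (((g : MulAut A)⁻¹ y : A) : Ω) ∈ centralizerIn S S := by
      have := hy' _ hg'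
      rwa [autFun_apply] at this
    have h2 : ∀ g', AutF F A g' → g' (((g : MulAut A)⁻¹ y : A) : Ω) ∈ centralizerIn S S := by
      intro g' hg''
      have := hy' _ (hg'.comp hg'')
      have e : (g' ∘ autFun A ((g : MulAut A)⁻¹)) (y : Ω) =
          g' (((g : MulAut A)⁻¹ y : A) : Ω) := by
        show g' (autFun A ((g : MulAut A)⁻¹) (y : Ω)) = _
        rw [autFun_apply]
      rwa [e] at this
    rw [hκ _ h1 h2]
    simp
  obtain ⟨ν, κ, hνκ, hκL, hνT⟩ := frattini_decomp T L (⟨α, hα⟩ : F.autGroup A)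
  have hτT0 : (⟨τ, hτ⟩ : F.autGroup A) ∈ (T : Subgroup (F.autGroup A)) := by
    rw [hT, Subgroup.mem_subgroupOf]
    exact (mem_autInducedBy_iff S A _).mpr ⟨a, haS, hτa⟩
  have hτT : (⟨τ, hτ⟩ : F.autGroup A) ∈ (T : Subgroup (F.autGroup A)) ⊓ L := by
    refine ⟨hτT0, fun y hy _ => ?_⟩
    · apply Subtype.ext
      show ((τ y : A) : Ω) = y
      rw [hτa]
      have h1 := (mem_centralizerIn_self.mp hy).2 a haS
      rw [h1]; simp
  have h1 : ν * ⟨τ, hτ⟩ * ν⁻¹ ∈ (T : Subgroup (F.autGroup A)) := (hνT _ hτT).1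
  rw [hT, Subgroup.mem_subgroupOf] at h1
  obtain ⟨s, hs, hsν⟩ := (mem_autInducedBy_iff S A _).mp h1
  have hfν := autF_of_mem hA ν.2
  have hext : ExtS F A (autFun A (ν : MulAut A)) := by
    apply extS_of_mem_extFn hS h hZA hAS hrec hfν haA
    rw [hfν.1.mem_extFn]
    refine ⟨haS, mem_normalizer_of_finite (fun x hx => h.conj_mem hZA.le hA haS hx), s, hs,
      fun x hx => ?_⟩
    have h2 := hsν ((ν : MulAut A) ⟨x, hx⟩)
    have h3 : ((ν * ⟨τ, hτ⟩ * ν⁻¹ : F.autGroup A) : MulAut A) ((ν : MulAut A) ⟨x, hx⟩) =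
        (ν : MulAut A) (τ ⟨x, hx⟩) := by
      show (ν : MulAut A) (τ ((ν : MulAut A)⁻¹ ((ν : MulAut A) ⟨x, hx⟩))) = _
      simp
    rw [h3] at h2
    rw [autFun_apply' _ (h.conj_mem hZA.le hA haS hx), autFun_apply' _ hx, ← h2]
    congr 2
    exact Subtype.ext (hτa ⟨x, hx⟩).symm
  obtain ⟨γ, hγ, hγν⟩ := hext
  refine ⟨γ, hγ, fun y hy hy' => ?_⟩
  have h4 : (α : MulAut A) ⟨y, hZA.le hy⟩ = (ν : MulAut A) ((κ : MulAut A) ⟨y, hZA.le hy⟩) := by
    have := congrArg (fun w : F.autGroup A => (w : MulAut A) ⟨y, hZA.le hy⟩) hνκ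
    exact this
  rw [hκL ⟨y, hZA.le hy⟩ hy hy'] at h4
  rw [hγν y (hZA.le hy), autFun_apply' _ (hZA.le hy), ← h4, hαf]

/-- The core of the centre is normal in the system. -/
theorem coreZ_isNormal [Finite S] {p : ℕ} [hp : Fact p.Prime] (hS : IsPGroup p S)
    (hF : F.IsSaturated p) (h : IdxSq S p) : F.IsNormal (coreZ F) := by
  have hZS : centralizerIn S S ≤ S := inf_le_left
  apply isNormal_of_centric_invariant hS hF ((coreZ_le F).trans hZS)
  intro R hfa hrec hcent f hf hfR _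
  have hRS : R ≤ S := hfa.1
  have hZR : centralizerIn S S ≤ R := by
    intro x hx
    apply hcent
    refine ⟨hx.1, ?_⟩
    show x ∈ Subgroup.centralizer (R : Set Ω)
    rw [Subgroup.mem_centralizer_iff]
    intro y hy
    exact (mem_centralizerIn_self.mp hx).2 y (hRS hy)
  refine ⟨(coreZ_le F).trans hZR, fun x hx => ?_⟩
  rcases eq_or_lt_of_le hRS with heq | hlt
  · subst heq
    exact coreZ_map_top hf hx
  · have hZlt : centralizerIn S S < R := by
      refine lt_of_le_of_ne hZR ?_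
      intro heq
      obtain ⟨a, ha, b, hb, hab⟩ := h.na
      apply hab
      have h1 : centralizerIn S R ≤ R := hcent
      rw [← heq] at h1
      have haZ : a ∈ centralizerIn S S := by
        apply h1
        refine ⟨ha, ?_⟩
        show a ∈ Subgroup.centralizer ((centralizerIn S S : Subgroup Ω) : Set Ω)
        rw [Subgroup.mem_centralizer_iff]
        intro y hy
        exact ((mem_centralizerIn_self.mp hy).2 a ha).symm
      exact ((mem_centralizerIn_self.mp haZ).2 b hb).symm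
    obtain ⟨γ, hγ, hγf⟩ := exists_top_agree hS hF h hZlt hlt ⟨hf, hfR⟩
    rw [hγf x hx.1 (fun g hg => hx.2 R g hZR hg)]
    exact coreZ_map_top hγ hx

end Cfsg.Agent.Lib.Helper90
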