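import Cfsg.Agent.Lib.Helper90.IdxSqE

set_option autoImplicit false
set_option linter.unusedSectionVars false

namespace Cfsg.Agent.Lib.Helper90

open Cfsg Cfsg.FusionSystem

variable {Ω : Type*} [Group Ω] {S : Subgroup Ω} {F : FusionSystem S} {A B C : Subgroup Ω}
  {f g h : Ω → Ω}

theorem pow_eq_of_sq_eq_one {x : Ω} (hx : x ^ 2 = 1) (i : ℕ) : x ^ i = 1 ∨ x ^ i = x := by
  rcases Nat.even_or_odd' i with ⟨m, rfl | rfl⟩
  · left; rw [pow_mul, hx, one_pow]
  · right; rw [pow_succ, pow_mul, hx, one_pow, one_mul]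

theorem AutF.inv_eq (hf : AutF F A f) {x y : Ω} (hx : x ∈ A) (hxy : f x = y) :
    invFn A f y = x := by
  rw [← hxy]; exact hf.inv_apply hx

theorem ZData.mem_zpowers_two [Finite S] {z : Ω} (D : ZData S 2 z) {w : Ω}
    (hw : w ∈ Subgroup.zpowers z) : w = 1 ∨ w = z := by
  obtain ⟨i, rfl⟩ := exists_pow_of_mem_zpowers D.mem.1 hw
  exact pow_eq_of_sq_eq_one D.pow i

theorem ZData.mor_top_z_two [Finite S] {z : Ω} (D : ZData S 2 z) {σ : Ω → Ω} (hσ : Mor F S σ) :
    σ z = z := by
  rcases D.mem_zpowers_two (D.mor_top_z hσ) with h1 | h1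
  · exfalso
    apply D.ne
    exact hσ.inj D.mem.1 S.one_mem (h1.trans hσ.map_one.symm)
  · exact h1

section

variable [Finite S] [hp : Fact (Nat.Prime 2)] (hS : IsPGroup 2 S) (hF : F.IsSaturated 2)
  {z : Ω} (D : ZData S 2 z) (hZA : centralizerIn S S < A) (hAS : A < S)

include hS D hZA hAS

theorem conj_eq_mul_z {a : Ω} (haS : a ∈ S) (haA : a ∉ A) {u : Ω} (hu : u ∈ A)
    (huZ : u ∉ centralizerIn S S) : a * u * a⁻¹ = u * z := by
  have h1 : u⁻¹ * a * (u⁻¹)⁻¹ * a⁻¹ ∈ Subgroup.zpowers z :=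
    D.comm _ (S.inv_mem (hAS.le hu)) a haS
  rw [inv_inv] at h1
  rcases D.mem_zpowers_two h1 with h2 | h2
  · exfalso
    apply huZ
    apply D.idx.mid_centralizer hS hZA hAS haS haA hu
    have e : a * u = u * (u⁻¹ * a * u * a⁻¹) * a := by group
    rw [e, h2, mul_one]
  · rw [← h2]; group

theorem mul_mem_center_two {x y : Ω} (hx : x ∈ A) (hxZ : x ∉ centralizerIn S S) (hy : y ∈ A)
    (hyZ : y ∉ centralizerIn S S) : x * y ∈ centralizerIn S S := by
  obtain ⟨i, c, hc, rfl⟩ := D.idx.mid_gen_center hS hZA hAS hx hxZ hy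
  have hx2 : x ^ 2 ∈ centralizerIn S S := D.idx.pow x (hAS.le hx)
  rcases Nat.even_or_odd' i with ⟨m, rfl | rfl⟩
  · exfalso
    apply hyZ
    rw [pow_mul]
    exact Subgroup.mul_mem _ (Subgroup.pow_mem _ hx2 m) hc
  · have e : x * (x ^ (2 * m + 1) * c) = (x ^ 2) ^ (m + 1) * c := by
      rw [← pow_mul, ← mul_assoc, ← pow_succ']
      congr 2
    rw [e]
    exact Subgroup.mul_mem _ (Subgroup.pow_mem _ hx2 _) hc

include hF

/-- For `p = 2` the non-extending automorphisms of `A` form two cosets modulo the extending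
ones. -/
theorem three_two {a : Ω} (haS : a ∈ S) (haA : a ∉ A)
    (hf : AutF F A f) (hnf : ¬ ExtS F A f) (hg : AutF F A g) (hng : ¬ ExtS F A g) :
    ExtS F A (invFn A f ∘ g) ∨ ExtS F A (invFn A (fun x => a * f x * a⁻¹) ∘ g) := by
  have hi := D.idx
  have hA : A ≤ S := hAS.le
  have hzA : z ∈ A := hZA.le D.mem
  have hτ : AutF F A (fun x => a * x * a⁻¹) :=
    ⟨mor_conj F hA haS, fun x hx => hi.conj_mem hZA.le hA haS hx⟩
  have hf₂ : AutF F A (fun x => a * f x * a⁻¹) := (hf.comp hτ).congr (fun _ _ => rfl)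
  by_contra hcon
  push Not at hcon
  obtain ⟨h1, h2⟩ := hcon
  have e1 := (not_central_of_not_extS hS hF D hZA hAS hg hng).2
  have e2 := (not_central_of_not_extS hS hF D hZA hAS (hg.comp hf.inv) h1).2
  have e3 := (not_central_of_not_extS hS hF D hZA hAS (hg.comp hf₂.inv) h2).2
  have hfz := (not_central_of_not_extS hS hF D hZA hAS hf hnf).1
  have hfzA : f z ∈ A := hf.2 z hzA
  have r2 : invFn A (invFn A f ∘ g) z = invFn A g (f z) := by
    apply (hg.comp hf.inv).inv_eq (hg.inv.2 _ hfzA)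
    show invFn A f (g (invFn A g (f z))) = z
    rw [hg.apply_inv hfzA, hf.inv_apply hzA]
  have hconj : a * f z * a⁻¹ = f z * z := conj_eq_mul_z hS D hZA hAS haS haA hfzA hfz
  have r3 : invFn A (invFn A (fun x => a * f x * a⁻¹) ∘ g) z = invFn A g (f z * z) := by
    have hmem : f z * z ∈ A := A.mul_mem hfzA hzA
    apply (hg.comp hf₂.inv).inv_eq (hg.inv.2 _ hmem)
    show invFn A (fun x => a * f x * a⁻¹) (g (invFn A g (f z * z))) = z
    rw [hg.apply_inv hmem, ← hconj]
    exact hf₂.inv_apply hzA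
  rw [r2] at e2
  rw [r3, hg.inv.1.map_mul hfzA hzA] at e3
  exact e3 (mul_mem_center_two hS D hZA hAS (hg.inv.2 _ hfzA) e2 (hg.inv.2 _ hzA) e1)

/-- For `p = 2`, `Z(S) ∩ g⁻¹(Z(S))` does not depend on the non-extending automorphism `g`
of `A`. -/
theorem map_central_two (hf : AutF F A f) (hnf : ¬ ExtS F A f) (hg : AutF F A g)
    (hng : ¬ ExtS F A g) {k : Ω} (hk : k ∈ centralizerIn S S) (hgk : g k ∈ centralizerIn S S) :
    f k ∈ centralizerIn S S := by
  have hi := D.idx
  have hA : A ≤ S := hAS.le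
  have hkA : k ∈ A := hZA.le hk
  obtain ⟨a, haS, haA⟩ := SetLike.exists_of_lt hAS
  have hτ : AutF F A (fun x => a * x * a⁻¹) :=
    ⟨mor_conj F hA haS, fun x hx => hi.conj_mem hZA.le hA haS hx⟩
  have hf₂ : AutF F A (fun x => a * invFn A f x * a⁻¹) :=
    (hf.inv.comp hτ).congr (fun _ _ => rfl)
  have hnfi : ¬ ExtS F A (invFn A f) := fun hc => hnf (ExtS.of_inv hf hc)
  have hngi : ¬ ExtS F A (invFn A g) := fun hc => hng (ExtS.of_inv hg hc)
  have hgkA : g k ∈ A := hg.2 k hkA
  rcases three_two hS hF D hZA hAS haS haA hf.inv hnfi hg.inv hngi with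
    ⟨σ, hσ, hσe⟩ | ⟨σ, hσ, hσe⟩
  · have h1 := hσe (g k) hgkA
    have h2 : (invFn A (invFn A f) ∘ invFn A g) (g k) = f k := by
      show invFn A (invFn A f) (invFn A g (g k)) = f k
      rw [hg.inv_apply hkA, hf.inv_inv hkA]
    rw [h2] at h1
    rw [← h1]; exact mor_top_center hσ hgk
  · have h1 := hσe (g k) hgkA
    have h2 : (invFn A (fun x => a * invFn A f x * a⁻¹) ∘ invFn A g) (g k) = f k := by
      show invFn A (fun x => a * invFn A f x * a⁻¹) (invFn A g (g k)) = f k
      rw [hg.inv_apply hkA]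
      apply hf₂.inv_eq (hf.2 k hkA)
      show a * invFn A f (f k) * a⁻¹ = k
      rw [hf.inv_apply hkA]
      have := (mem_centralizerIn_self.mp hk).2 a haS
      rw [this]; simp
    rw [h2] at h1
    rw [← h1]; exact mor_top_center hσ hgk

/-- For `p = 2`, the images of `z` under the non-extending automorphisms of `A`. -/
theorem map_z_two (hf : AutF F A f) (hnf : ¬ ExtS F A f) (hg : AutF F A g)
    (hng : ¬ ExtS F A g) : g z = f z ∨ g z = f z * z := by
  have hi := D.idx
  have hA : A ≤ S := hAS.le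
  have hzA : z ∈ A := hZA.le D.mem
  obtain ⟨a, haS, haA⟩ := SetLike.exists_of_lt hAS
  have hτ : AutF F A (fun x => a * x * a⁻¹) :=
    ⟨mor_conj F hA haS, fun x hx => hi.conj_mem hZA.le hA haS hx⟩
  have hf₂ : AutF F A (fun x => a * f x * a⁻¹) := (hf.comp hτ).congr (fun _ _ => rfl)
  have hfz := (not_central_of_not_extS hS hF D hZA hAS hf hnf).1
  rcases three_two hS hF D hZA hAS haS haA hf hnf hg hng with ⟨σ, hσ, hσe⟩ | ⟨σ, hσ, hσe⟩
  · left
    have h1 := hσe z hzA
    rw [D.mor_top_z_two hσ] at h1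
    have h3 : (invFn A f ∘ g) z = invFn A f (g z) := rfl
    rw [h3] at h1
    have h2 : f (invFn A f (g z)) = g z := hf.apply_inv (hg.2 z hzA)
    rw [← h1] at h2
    exact h2.symm
  · right
    have h1 := hσe z hzA
    rw [D.mor_top_z_two hσ] at h1
    have h3 : (invFn A (fun x => a * f x * a⁻¹) ∘ g) z =
        invFn A (fun x => a * f x * a⁻¹) (g z) := rfl
    rw [h3] at h1
    have h2 : (fun x => a * f x * a⁻¹) (invFn A (fun x => a * f x * a⁻¹) (g z)) = g z :=
      hf₂.apply_inv (hg.2 z hzA)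
    rw [← h1] at h2
    have h4 : a * f z * a⁻¹ = g z := h2
    rw [← h4]
    exact conj_eq_mul_z hS D hZA hAS haS haA (hf.2 z hzA) hfz

/-- For `p = 2` at most two maximal subgroups containing `Z(S)` have non-extending
automorphisms. -/
theorem special_two (hf : AutF F A f) (hnf : ¬ ExtS F A f)
    (hZB : centralizerIn S S < B) (hBS : B < S) (hg : AutF F B g) (hng : ¬ ExtS F B g)
    (hZC : centralizerIn S S < C) (hCS : C < S) (hh : AutF F C h) (hnh : ¬ ExtS F C h)
    (hAB : A ≠ B) : C = A ∨ C = B := by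
  have hi := D.idx
  by_contra hcon
  push Not at hcon
  obtain ⟨hCA, hCB⟩ := hcon
  have hzA : z ∈ A := hZA.le D.mem
  have hzB : z ∈ B := hZB.le D.mem
  have hzC : z ∈ C := hZC.le D.mem
  have hz2 : z * z = 1 := by rw [← pow_two]; exact D.pow
  have huZ := (not_central_of_not_extS hS hF D hZA hAS hf hnf).1
  have hwZ := (not_central_of_not_extS hS hF D hZB hBS hg hng).1
  have htZ := (not_central_of_not_extS hS hF D hZC hCS hh hnh).1
  have huA : f z ∈ A := hf.2 z hzA
  have hwB : g z ∈ B := hg.2 z hzB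
  have htC : h z ∈ C := hh.2 z hzC
  have hu2 : f z * f z = 1 := by rw [← hf.1.map_mul hzA hzA, hz2, hf.1.map_one]
  have hw2 : g z * g z = 1 := by rw [← hg.1.map_mul hzB hzB, hz2, hg.1.map_one]
  have ht2 : h z * h z = 1 := by rw [← hh.1.map_mul hzC hzC, hz2, hh.1.map_one]
  have hwA : g z ∉ A := fun hc => hwZ (hi.mid_inf hS hZA hAS hZB hBS hAB hc hwB)
  have hwS : g z ∈ S := hBS.le hwB
  have huS : f z ∈ S := hAS.le huA
  obtain ⟨i, y, hy, hty⟩ := hi.mid_gen hS hZA hAS hwS hwA (hCS.le htC)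
  rcases pow_eq_of_sq_eq_one (by rw [pow_two]; exact hw2 : g z ^ 2 = 1) i with hwi | hwi
  · rw [hwi, one_mul] at hty
    exact htZ (hi.mid_inf hS hZA hAS hZC hCS (Ne.symm hCA) (hty ▸ hy) htC)
  · rw [hwi] at hty
    obtain ⟨j, c, hc, hyc⟩ := hi.mid_gen_center hS hZA hAS huA huZ hy
    rcases pow_eq_of_sq_eq_one (by rw [pow_two]; exact hu2 : f z ^ 2 = 1) j with huj | huj
    · rw [huj, one_mul] at hyc
      rw [hyc] at hty
      have htB : h z ∈ B := by rw [hty]; exact B.mul_mem hwB (hZB.le hc)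
      exact htZ (hi.mid_inf hS hZB hBS hZC hCS (Ne.symm hCB) htB htC)
    · rw [huj] at hyc
      rw [hyc] at hty
      -- `h z = g z * (f z * c)`
      have hcS := (mem_centralizerIn_self.mp hc).2
      have hcomm : g z * f z * (g z)⁻¹ * (f z)⁻¹ = z := by
        rcases D.mem_zpowers_two (D.comm _ hwS _ huS) with h1 | h1
        · exfalso
          apply huZ
          apply hi.mid_centralizer hS hZA hAS hwS hwA huA
          have e : g z * f z = (g z * f z * (g z)⁻¹ * (f z)⁻¹) * (f z * g z) := by group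
          rw [e, h1, one_mul]
        · exact h1
      have hwinv : (g z)⁻¹ = g z := inv_eq_of_mul_eq_one_right hw2
      have huinv : (f z)⁻¹ = f z := inv_eq_of_mul_eq_one_right hu2
      rw [hwinv, huinv] at hcomm
      have e1 : g z * (f z * c) * (g z * (f z * c)) = (g z * f z * g z * f z) * (c * c) := by
        have h1 : c * (g z * (f z * c)) = (g z * (f z * c)) * c :=
          (hcS _ (S.mul_mem hwS (S.mul_mem huS hc.1))).symm
        calc g z * (f z * c) * (g z * (f z * c)) = g z * f z * (c * (g z * (f z * c))) := by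
              group
          _ = g z * f z * ((g z * (f z * c)) * c) := by rw [h1]
          _ = (g z * f z * g z * f z) * (c * c) := by group
      rw [hty] at ht2
      rw [e1, hcomm] at ht2
      -- `z * (c * c) = 1`
      obtain ⟨l, k, hk, hhk, hck⟩ := center_decomp hS hF D hZC hCS hh hnh hc
      have hkS := (mem_centralizerIn_self.mp hk).2
      have hzl : z ^ l * z ^ l = 1 := by
        rw [← pow_add, ← two_mul, pow_mul, D.pow, one_pow]
      have e2 : c * c = k * k := by
        rw [hck]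
        have h1 : k * (z ^ l * k) = (z ^ l * k) * k :=
          (hkS _ (S.mul_mem (S.pow_mem D.mem.1 l) hk.1)).symm
        calc z ^ l * k * (z ^ l * k) = z ^ l * (k * (z ^ l * k)) := by group
          _ = z ^ l * ((z ^ l * k) * k) := by rw [h1]
          _ = (z ^ l * z ^ l) * (k * k) := by group
          _ = k * k := by rw [hzl, one_mul]
      rw [e2] at ht2
      have hzk : z = k * k := by
        have h1 : k * k = z⁻¹ := eq_inv_of_mul_eq_one_right ht2
        rw [h1]
        exact (inv_eq_of_mul_eq_one_right hz2).symm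
      apply htZ
      rw [hzk, hh.1.map_mul (hZC.le hk) (hZC.le hk)]
      exact Subgroup.mul_mem _ hhk hhk

end

end Cfsg.Agent.Lib.Helper90
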