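import Cfsg.Agent.Lib.Helper90.IdxSqF

set_option autoImplicit false
set_option linter.unusedSectionVars false

namespace Cfsg.Agent.Lib.Helper90

open Cfsg Cfsg.FusionSystem

variable {Ω : Type*} [Group Ω] {S : Subgroup Ω} {F : FusionSystem S} {A B C R : Subgroup Ω}
  {f g h : Ω → Ω}

theorem mid_of_centric [Finite S] {p : ℕ} [Fact p.Prime] (hi : IdxSq S p) (hRS : R ≤ S)
    (hcent : centralizerIn S R ≤ R) (hne : R ≠ S) : centralizerIn S S < R ∧ R < S := by
  have hZR : centralizerIn S S ≤ R := by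
    intro x hx
    apply hcent
    refine ⟨hx.1, ?_⟩
    show x ∈ Subgroup.centralizer (R : Set Ω)
    rw [Subgroup.mem_centralizer_iff]
    intro y hy
    exact (mem_centralizerIn_self.mp hx).2 y (hRS hy)
  refine ⟨lt_of_le_of_ne hZR ?_, lt_of_le_of_ne hRS hne⟩
  intro heq
  obtain ⟨a, ha, b, hb, hab⟩ := hi.na
  apply hab
  have h1 : centralizerIn S R ≤ R := hcent
  rw [← heq] at h1
  have haZ : a ∈ centralizerIn S S := by
    apply h1
    refine ⟨ha, ?_⟩
    show a ∈ Subgroup.centralizer ((centralizerIn S S : Subgroup Ω) : Set Ω)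
    rw [Subgroup.mem_centralizer_iff]
    intro y hy
    exact ((mem_centralizerIn_self.mp hy).2 a ha).symm
  exact ((mem_centralizerIn_self.mp haZ).2 b hb).symm

theorem not_extS_of_extFn_le [Finite S] {p : ℕ} [Fact p.Prime] (hi : IdxSq S p)
    (hZA : centralizerIn S S < A) (hAS : A < S) (hf : Mor F A f)
    (hE : ∀ a ∈ extFn S A f, a ∈ A) : ¬ ExtS F A f := by
  intro he
  obtain ⟨a, haS, haA⟩ := SetLike.exists_of_lt hAS
  exact haA (hE a (mem_extFn_of_extS hi hZA.le hAS.le hf he haS))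

section

variable [Finite S] [hp : Fact (Nat.Prime 2)] (hS : IsPGroup 2 S) (hF : F.IsSaturated 2)
  {z : Ω} (D : ZData S 2 z) (hZA : centralizerIn S S < A) (hAS : A < S)

include hS hF D hZA hAS

theorem K_small_two (hf : AutF F A f) (hnf : ¬ ExtS F A f)
    (hZB : centralizerIn S S < B) (hBS : B < S) (hg : AutF F B g) (hng : ¬ ExtS F B g)
    (hK : ∀ x ∈ centralizerIn S S, f x ∈ centralizerIn S S → g x ∈ centralizerIn S S → x = 1)
    {k : Ω} (hk : k ∈ centralizerIn S S) (hfk : f k ∈ centralizerIn S S) (hk1 : k ≠ 1) :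
    (∀ k₁ ∈ centralizerIn S S, f k₁ ∈ centralizerIn S S → k₁ = 1 ∨ k₁ = k) ∧
      g (z * k) ∈ centralizerIn S S ∧ z * k ≠ 1 ∧ z * k ∈ centralizerIn S S := by
  have hz2 : z ^ 2 = 1 := D.pow
  obtain ⟨j, k'', hk'', hgk'', hkd⟩ := center_decomp hS hF D hZB hBS hg hng hk
  have hzj : z ^ j = z := by
    rcases pow_eq_of_sq_eq_one hz2 j with h1 | h1
    · exfalso
      rw [h1, one_mul] at hkd
      exact hk1 (hK k hk hfk (by rw [hkd]; exact hgk''))
    · exact h1
  rw [hzj] at hkd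
  have hzk : z * k = k'' := by rw [hkd, ← mul_assoc, ← pow_two, hz2, one_mul]
  refine ⟨?_, by rw [hzk]; exact hgk'', ?_, by rw [hzk]; exact hk''⟩
  · intro k₁ hk₁ hfk₁
    obtain ⟨i, k', hk', hgk', hk₁d⟩ := center_decomp hS hF D hZB hBS hg hng hk₁
    rcases pow_eq_of_sq_eq_one hz2 i with h1 | h1
    · left
      rw [h1, one_mul] at hk₁d
      exact hK k₁ hk₁ hfk₁ (by rw [hk₁d]; exact hgk')
    · right
      rw [h1] at hk₁d
      have hx : k₁⁻¹ * k = k'⁻¹ * k'' := by rw [hk₁d, hkd]; group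
      have h2 : k₁⁻¹ * k = 1 := by
        apply hK
        · exact Subgroup.mul_mem _ (Subgroup.inv_mem _ hk₁) hk
        · rw [hf.1.map_mul (A.inv_mem (hZA.le hk₁)) (hZA.le hk), hf.1.map_inv (hZA.le hk₁)]
          exact Subgroup.mul_mem _ (Subgroup.inv_mem _ hfk₁) hfk
        · rw [hx, hg.1.map_mul (B.inv_mem (hZB.le hk')) (hZB.le hk''),
            hg.1.map_inv (hZB.le hk')]
          exact Subgroup.mul_mem _ (Subgroup.inv_mem _ hgk') hgk''
      exact inv_mul_eq_one.mp h2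
  · intro h1
    have h3 : k = z := by
      have h2 : k = z⁻¹ := eq_inv_of_mul_eq_one_right h1
      rw [h2]
      exact inv_eq_of_mul_eq_one_right (by rw [← pow_two]; exact hz2)
    apply (not_central_of_not_extS hS hF D hZA hAS hf hnf).1
    rw [← h3]; exact hfk

theorem K_fix_two (hf : AutF F A f) (hnf : ¬ ExtS F A f) {k : Ω}
    (hKf : ∀ k₁ ∈ centralizerIn S S, f k₁ ∈ centralizerIn S S → k₁ = 1 ∨ k₁ = k)
    (hk : k ∈ centralizerIn S S) (hfk : f k ∈ centralizerIn S S) (hk1 : k ≠ 1)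
    (hh : AutF F A h) :
    ∀ k₁ ∈ centralizerIn S S, f k₁ ∈ centralizerIn S S → h k₁ = k₁ := by
  have key : ∀ h', AutF F A h' → h' k ∈ centralizerIn S S := by
    intro h' hh'
    by_cases he : ExtS F A h'
    · obtain ⟨σ, hσ, hσe⟩ := he
      rw [← hσe k (hZA.le hk)]; exact mor_top_center hσ hk
    · exact map_central_two hS hF D hZA hAS hh' he hf hnf hk hfk
  intro k₁ hk₁ hfk₁
  rcases hKf k₁ hk₁ hfk₁ with h0 | h0
  · rw [h0]; exact hh.1.map_one
  · rw [h0]
    have h1 := key h hh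
    have h2 : f (h k) ∈ centralizerIn S S := key (f ∘ h) (hh.comp hf)
    rcases hKf (h k) h1 h2 with h3 | h3
    · exfalso
      apply hk1
      exact hh.1.inj (hZA.le hk) A.one_mem (h3.trans hh.1.map_one.symm)
    · exact h3

theorem orbit_z_two (hf : AutF F A f) (hnf : ¬ ExtS F A f) (M : Subgroup Ω) (hzM : z ∈ M)
    (huM : f z ∈ M) (hh : AutF F A h) : h z ∈ M := by
  by_cases he : ExtS F A h
  · obtain ⟨σ, hσ, hσe⟩ := he
    rw [← hσe z (hZA.le D.mem), D.mor_top_z_two hσ]; exact hzM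
  · rcases map_z_two hS hF D hZA hAS hf hnf hh he with h1 | h1
    · rw [h1]; exact huM
    · rw [h1]; exact M.mul_mem huM hzM

theorem focal_mid_two (hf : AutF F A f) (hnf : ¬ ExtS F A f) (M : Subgroup Ω) (hzM : z ∈ M)
    (huM : f z ∈ M)
    (hKfix : ∀ h, AutF F A h → ∀ k₁ ∈ centralizerIn S S, f k₁ ∈ centralizerIn S S → h k₁ = k₁)
    (hh : AutF F A h) {x : Ω} (hx : x ∈ A) : x⁻¹ * h x ∈ M := by
  have hi := D.idx
  have hzA : z ∈ A := hZA.le D.mem
  have hzS : z ∈ S := D.mem.1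
  have huZ := (not_central_of_not_extS hS hF D hZA hAS hf hnf).1
  have huA : f z ∈ A := hf.2 z hzA
  have huS : f z ∈ S := hAS.le huA
  obtain ⟨i, c, hc, rfl⟩ := hi.mid_gen_center hS hZA hAS huA huZ hx
  obtain ⟨j, k₁, hk₁, hfk₁, rfl⟩ := center_decomp hS hF D hZA hAS hf hnf hc
  have hk₁A : k₁ ∈ A := hZA.le hk₁
  have hhu : h (f z) ∈ M := orbit_z_two hS hF D hZA hAS hf hnf M hzM huM (hf.comp hh)
  have hhz : h z ∈ M := orbit_z_two hS hF D hZA hAS hf hnf M hzM huM hh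
  rw [hh.1.map_mul (A.pow_mem huA i) (A.mul_mem (A.pow_mem hzA j) hk₁A), hh.1.map_pow' huA,
    hh.1.map_mul (A.pow_mem hzA j) hk₁A, hh.1.map_pow' hzA, hKfix h hh k₁ hk₁ hfk₁]
  obtain ⟨m, hm⟩ : ∃ m, m = (z ^ j)⁻¹ * (f z ^ i)⁻¹ * (h (f z) ^ i * h z ^ j) := ⟨_, rfl⟩
  have hmM : m ∈ M := by
    rw [hm]
    exact M.mul_mem (M.mul_mem (M.inv_mem (M.pow_mem hzM j)) (M.inv_mem (M.pow_mem huM i)))
      (M.mul_mem (M.pow_mem hhu i) (M.pow_mem hhz j))
  have hmS : m ∈ S := by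
    rw [hm]
    exact S.mul_mem (S.mul_mem (S.inv_mem (S.pow_mem hzS j)) (S.inv_mem (S.pow_mem huS i)))
      (S.mul_mem (S.pow_mem (hh.1.mem huA) i) (S.pow_mem (hh.1.mem hzA) j))
  have e : (f z ^ i * (z ^ j * k₁))⁻¹ * (h (f z) ^ i * (h z ^ j * k₁)) = k₁⁻¹ * (m * k₁) := by
    rw [hm]; group
  rw [e, (mem_centralizerIn_self.mp hk₁).2 m hmS, inv_mul_cancel_left]
  exact hmM

theorem map_top_special_mem (hf : AutF F A f) (hnf : ¬ ExtS F A f)
    (hZB : centralizerIn S S < B) (hBS : B < S) (hg : AutF F B g) (hng : ¬ ExtS F B g)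
    (hAB : A ≠ B) (M : Subgroup Ω) (hzM : z ∈ M) (huM : f z ∈ M) (hwM : g z ∈ M)
    {γ : Ω → Ω} (hγ : Mor F S γ) (hZC : centralizerIn S S < C) (hCS : C < S)
    (hh : AutF F C h) (hnh : ¬ ExtS F C h) : γ (h z) ∈ M := by
  have hσ := (autF_top hγ).inv
  obtain ⟨haut, hmem, hmaps⟩ := autF_transport hσ.1 hCS.le hh
  have hzC : z ∈ C := hZC.le D.mem
  have hσz : invFn S γ z = z := D.mor_top_z_two hσ.1
  have hhzS : h z ∈ S := hh.1.mem hzC
  have hval : (invFn S (invFn S γ) ∘ h ∘ invFn S γ) z = γ (h z) := by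
    show invFn S (invFn S γ) (h (invFn S γ z)) = γ (h z)
    rw [hσz, (autF_top hγ).inv_inv hhzS]
  obtain ⟨C', hC'⟩ : ∃ C', C' = img C (invFn S (invFn S γ)) := ⟨_, rfl⟩
  obtain ⟨h', hh'⟩ : ∃ h', h' = invFn S (invFn S γ) ∘ h ∘ invFn S γ := ⟨_, rfl⟩
  rw [← hC', ← hh'] at haut
  rw [← hC'] at hmem
  rw [← hh'] at hval
  rw [← hval]
  have hZC' : centralizerIn S S ≤ C' := by
    intro y hy
    have h1 := hmem _ (hZC.le (mor_top_center hσ.1 hy))
    rwa [hσ.1.invFn_apply hy.1] at h1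
  have hC'S : C' ≤ S := haut.1.le
  have hmemC' : h' z ∈ C' := haut.2 z (hZC' D.mem)
  have hnotZ : h' z ∉ centralizerIn S S := by
    rw [hval]
    intro hc
    have h1 := mor_top_center hσ.1 hc
    rw [hγ.invFn_apply hhzS] at h1
    exact (not_central_of_not_extS hS hF D hZC hCS hh hnh).1 h1
  have hZltC' : centralizerIn S S < C' :=
    lt_of_le_of_ne hZC' (fun heq => hnotZ (by rw [heq]; exact hmemC'))
  rcases eq_or_lt_of_le hC'S with heq | hlt
  · rw [heq] at haut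
    rw [D.mor_top_z_two haut.1]; exact hzM
  · by_cases he : ExtS F C' h'
    · obtain ⟨σ', hσ', hσ'e⟩ := he
      rw [← hσ'e z (hZC' D.mem), D.mor_top_z_two hσ']; exact hzM
    · rcases special_two hS hF D hZA hAS hf hnf hZB hBS hg hng hZltC' hlt haut he hAB with
        h1 | h1
      · rw [h1] at haut
        exact orbit_z_two hS hF D hZA hAS hf hnf M hzM huM haut
      · rw [h1] at haut
        exact orbit_z_two hS hF D hZB hBS hg hng M hzM hwM haut

/-- The case of two maximal subgroups with non-extending automorphisms and a centre of order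
larger than `2`: the hyperfocal subgroup is then proper. -/
theorem false_of_two_special (hhyp : F.hyperfocalSubgroup 2 = S)
    (hf : AutF F A f) (hnf : ¬ ExtS F A f)
    (hZB : centralizerIn S S < B) (hBS : B < S) (hg : AutF F B g) (hng : ¬ ExtS F B g)
    (hAB : A ≠ B)
    (hK : ∀ x ∈ centralizerIn S S, f x ∈ centralizerIn S S → g x ∈ centralizerIn S S → x = 1)
    {k : Ω} (hk : k ∈ centralizerIn S S) (hfk : f k ∈ centralizerIn S S) (hk1 : k ≠ 1) :
    False := by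
  have hi := D.idx
  have hzA : z ∈ A := hZA.le D.mem
  have hzB : z ∈ B := hZB.le D.mem
  have hzS : z ∈ S := D.mem.1
  have hz2 : z ^ 2 = 1 := D.pow
  have huZ := (not_central_of_not_extS hS hF D hZA hAS hf hnf).1
  have hwZ := (not_central_of_not_extS hS hF D hZB hBS hg hng).1
  have huA : f z ∈ A := hf.2 z hzA
  have hwB : g z ∈ B := hg.2 z hzB
  have huS : f z ∈ S := hAS.le huA
  have hwS : g z ∈ S := hBS.le hwB
  have hu2 : f z ^ 2 = 1 := by rw [← hf.1.map_pow' hzA, hz2, hf.1.map_one]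
  have hw2 : g z ^ 2 = 1 := by rw [← hg.1.map_pow' hzB, hz2, hg.1.map_one]
  have hwA : g z ∉ A := fun hc => hwZ (hi.mid_inf hS hZA hAS hZB hBS hAB hc hwB)
  obtain ⟨hKf, hgzk, hzk1, hzkZ⟩ :=
    K_small_two hS hF D hZA hAS hf hnf hZB hBS hg hng hK hk hfk hk1
  have hK' : ∀ x ∈ centralizerIn S S, g x ∈ centralizerIn S S → f x ∈ centralizerIn S S →
      x = 1 := fun x hx h1 h2 => hK x hx h2 h1
  obtain ⟨hKg, -, -, -⟩ :=
    K_small_two hS hF D hZB hBS hg hng hZA hAS hf hnf hK' hzkZ hgzk hzk1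
  obtain ⟨M, hM⟩ : ∃ M, M = Subgroup.zpowers (g z) ⊔
      (Subgroup.zpowers (f z) ⊔ Subgroup.zpowers z) := ⟨_, rfl⟩
  have hzM : z ∈ M := by
    rw [hM]
    exact Subgroup.mem_sup_right (Subgroup.mem_sup_right (Subgroup.mem_zpowers z))
  have huM : f z ∈ M := by
    rw [hM]
    exact Subgroup.mem_sup_right (Subgroup.mem_sup_left (Subgroup.mem_zpowers _))
  have hwM : g z ∈ M := by
    rw [hM]
    exact Subgroup.mem_sup_left (Subgroup.mem_zpowers _)
  have hKfixA : ∀ h, AutF F A h → ∀ k₁ ∈ centralizerIn S S, f k₁ ∈ centralizerIn S S →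
      h k₁ = k₁ := fun h hh => K_fix_two hS hF D hZA hAS hf hnf hKf hk hfk hk1 hh
  have hKfixB : ∀ h, AutF F B h → ∀ k₁ ∈ centralizerIn S S, g k₁ ∈ centralizerIn S S →
      h k₁ = k₁ := fun h hh => K_fix_two hS hF D hZB hBS hg hng hKg hzkZ hgzk hzk1 hh
  have hfoc : ∀ (P : Subgroup Ω) (f₁ : Ω → Ω), Mor F P f₁ → ∀ x ∈ P, x⁻¹ * f₁ x ∈ M := by
    apply focal_le_of_centric hS hF M
    intro R hfa hrec hcent f₁ hf₁ hf₁R hE x hx
    have hRS : R ≤ S := hfa.1
    by_cases hRne : R = S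
    · rw [hRne] at hf₁ hx
      have hγu : f₁ (f z) ∈ M := map_top_special_mem hS hF D hZA hAS hf hnf hZB hBS hg hng hAB
        M hzM huM hwM hf₁ hZA hAS hf hnf
      have hγw : f₁ (g z) ∈ M := map_top_special_mem hS hF D hZA hAS hf hnf hZB hBS hg hng hAB
        M hzM huM hwM hf₁ hZB hBS hg hng
      obtain ⟨i, y, hy, rfl⟩ := hi.mid_gen hS hZA hAS hwS hwA hx
      obtain ⟨j, c, hc, rfl⟩ := hi.mid_gen_center hS hZA hAS huA huZ hy
      have hcM : c⁻¹ * f₁ c ∈ M := by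
        obtain ⟨l, k₁, hk₁, hfk₁, rfl⟩ := center_decomp hS hF D hZA hAS hf hnf hc
        rw [hf₁.map_mul (S.pow_mem hzS l) hk₁.1, hf₁.map_pow' hzS, D.mor_top_z_two hf₁]
        have e : (z ^ l * k₁)⁻¹ * (z ^ l * f₁ k₁) = k₁⁻¹ * f₁ k₁ := by group
        rw [e]
        rcases hKf k₁ hk₁ hfk₁ with h1 | h1
        · rw [h1, hf₁.map_one]; simp
        · rw [h1]
          have hγk : f₁ k ∈ centralizerIn S S := mor_top_center hf₁ hk
          obtain ⟨l', k₂, hk₂, hfk₂, hγkd⟩ := center_decomp hS hF D hZA hAS hf hnf hγk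
          rcases hKf k₂ hk₂ hfk₂ with h2 | h2
          · exfalso
            rw [h2, mul_one] at hγkd
            rcases pow_eq_of_sq_eq_one hz2 l' with h3 | h3
            · rw [h3] at hγkd
              exact hk1 (hf₁.inj hk.1 S.one_mem (hγkd.trans hf₁.map_one.symm))
            · rw [h3] at hγkd
              have h4 : k = z := hf₁.inj hk.1 hzS (hγkd.trans (D.mor_top_z_two hf₁).symm)
              apply huZ
              rw [← h4]; exact hfk
          · rw [hγkd, h2]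
            have h3 := (mem_centralizerIn_self.mp hk).2 (z ^ l') (S.pow_mem hzS l')
            rw [h3, inv_mul_cancel_left]
            exact M.pow_mem hzM l'
      rw [hf₁.map_mul (S.pow_mem hwS i) (S.mul_mem (S.pow_mem huS j) hc.1), hf₁.map_pow' hwS,
        hf₁.map_mul (S.pow_mem huS j) hc.1, hf₁.map_pow' huS]
      obtain ⟨m, hm⟩ : ∃ m, m = (f z ^ j)⁻¹ * (g z ^ i)⁻¹ * (f₁ (g z) ^ i * f₁ (f z) ^ j) :=
        ⟨_, rfl⟩
      have hmM : m ∈ M := by
        rw [hm]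
        exact M.mul_mem (M.mul_mem (M.inv_mem (M.pow_mem huM j)) (M.inv_mem (M.pow_mem hwM i)))
          (M.mul_mem (M.pow_mem hγw i) (M.pow_mem hγu j))
      have hmS : m ∈ S := by
        rw [hm]
        exact S.mul_mem (S.mul_mem (S.inv_mem (S.pow_mem huS j)) (S.inv_mem (S.pow_mem hwS i)))
          (S.mul_mem (S.pow_mem (hf₁.mem hwS) i) (S.pow_mem (hf₁.mem huS) j))
      have hγc : f₁ c ∈ centralizerIn S S := mor_top_center hf₁ hc
      have e : (g z ^ i * (f z ^ j * c))⁻¹ * (f₁ (g z) ^ i * (f₁ (f z) ^ j * f₁ c)) =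
          c⁻¹ * (m * f₁ c) := by rw [hm]; group
      rw [e, (mem_centralizerIn_self.mp hγc).2 m hmS, ← mul_assoc]
      exact M.mul_mem hcM hmM
    · obtain ⟨hZR, hRlt⟩ := mid_of_centric hi hRS hcent hRne
      have hne := not_extS_of_extFn_le hi hZR hRlt hf₁ hE
      rcases special_two hS hF D hZA hAS hf hnf hZB hBS hg hng hZR hRlt ⟨hf₁, hf₁R⟩ hne hAB
        with h1 | h1
      · have hf₁' : AutF F A f₁ := by rw [← h1]; exact ⟨hf₁, hf₁R⟩
        exact focal_mid_two hS hF D hZA hAS hf hnf M hzM huM hKfixA hf₁' (by rw [← h1]; exact hx)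
      · have hf₁' : AutF F B f₁ := by rw [← h1]; exact ⟨hf₁, hf₁R⟩
        exact focal_mid_two hS hF D hZB hBS hg hng M hzM hwM hKfixB hf₁' (by rw [← h1]; exact hx)
  have hle : F.hyperfocalSubgroup 2 ≤ M := hyperfocal_le_of_focal 2 M hfoc
  rw [hhyp] at hle
  have hkM : k ∈ M := hle hk.1
  rw [hM] at hkM
  have hzle : Subgroup.zpowers z ≤ Subgroup.zpowers (f z) ⊔ Subgroup.zpowers z := le_sup_right
  have hVS : Subgroup.zpowers (f z) ⊔ Subgroup.zpowers z ≤ S :=
    sup_le (Subgroup.zpowers_le.mpr huS) (Subgroup.zpowers_le.mpr hzS)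
  obtain ⟨x, hx, q, hq, hkxq⟩ := exists_mul_of_mem_sup
    (fun x hx q hq => by
      have hxS : x ∈ S := (Subgroup.zpowers_le.mpr hwS) hx
      have h1 := hzle (D.comm x hxS q (hVS hq))
      have h2 := Subgroup.mul_mem _ h1 hq
      have e : x * q * x⁻¹ * q⁻¹ * q = x * q * x⁻¹ := by group
      rwa [e] at h2) hkM
  obtain ⟨y, hy, t, ht, hqyt⟩ := exists_mul_of_mem_sup
    (fun y hy t ht => by
      have hyS : y ∈ S := (Subgroup.zpowers_le.mpr huS) hy
      have htZ : t ∈ centralizerIn S S := (Subgroup.zpowers_le.mpr D.mem) ht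
      have h1 := (mem_centralizerIn_self.mp htZ).2 y hyS
      rw [h1]; simpa using ht) hq
  obtain ⟨i, rfl⟩ := exists_pow_of_mem_zpowers hwS hx
  obtain ⟨j, rfl⟩ := exists_pow_of_mem_zpowers huS hy
  have htA : t ∈ A := (Subgroup.zpowers_le.mpr hzA) ht
  have htZ : t ∈ centralizerIn S S := (Subgroup.zpowers_le.mpr D.mem) ht
  rw [hqyt] at hkxq
  rcases pow_eq_of_sq_eq_one hw2 i with h1 | h1
  · rw [h1, one_mul] at hkxq
    rcases pow_eq_of_sq_eq_one hu2 j with h2 | h2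
    · rw [h2, one_mul] at hkxq
      apply hk1
      apply eq_one_of_map_central hS hF D hZA hAS hf hnf (w := k)
      · rw [hkxq]; exact ht
      · exact hfk
    · rw [h2] at hkxq
      apply huZ
      have e : f z = k * t⁻¹ := by rw [hkxq]; group
      rw [e]
      exact Subgroup.mul_mem _ hk (Subgroup.inv_mem _ htZ)
  · rw [h1] at hkxq
    apply hwA
    have e : g z = k * (f z ^ j * t)⁻¹ := by rw [hkxq]; group
    rw [e]
    exact A.mul_mem (hZA.le hk) (A.inv_mem (A.mul_mem (A.pow_mem huA j) htA))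

end

end Cfsg.Agent.Lib.Helper90
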