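import Mathlib
import Cfsg.Agent.Lib.Helper58.JUDefs

/-!
# S2950 project JU (helper58), piece CMG

Two `J(T)`-components `K`, `K'` of `L ∈ ℒ(T)` in a ZN-group: `K' ≤ N_G(W_K)`; transport of the
abstract statement CMX to `↥L`.
-/

set_option autoImplicit false

namespace Cfsg.Agent.Lib.Helper90.JU

open Cfsg.Agent.Lib.Helper58.JU Cfsg.Agent.Lib.Helper72.JL Cfsg.Agent.Lib.Helper72.SC
  Cfsg.Agent.Lib.Helper72.JM Cfsg.Agent.Lib.Helper72.JP Cfsg.Agent.Lib.Helper78.JN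
  Cfsg.Agent.Lib.Helper78.Jc

open scoped commutatorElement

universe u

theorem cmg (hCmx : CmxStmt.{u}) (hKd0 : Kd0Stmt.{u}) (hKt0 : Kt0Stmt.{u}) (hTra : TraStmt.{u})
    (hTrb : TrbStmt.{u}) (hTrc : TrcStmt.{u}) (hTrj : TrjStmt.{u}) (hTrk : TrkStmt.{u})
    (hTrq : TrqStmt.{u}) : CmgStmt.{u} := by
  intro G _ _ hzn T hT hT1 L hLT K K' hK hK' hKL hK'L
  have hTL : T ≤ L := hLT.1.1
  obtain ⟨h2, hodd, hchar⟩ := hTra G T L hLT
  have hS : Setting ↥L (T.subgroupOf L) :=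
    ⟨h2, hodd, hTrb G hzn T L hLT, hchar, hTrc G hzn T L hLT⟩
  obtain ⟨𝒮, h𝒮, hsup⟩ := hTrj G T L hTL
  obtain ⟨hKJ, hKodd⟩ := hTrk G T K L hK hKL hTL
  obtain ⟨hK'J, hK'odd⟩ := hTrk G T K' L hK' hK'L hTL
  have hd0 := hKd0 G T K hK
  have hdata : KData0 (K.subgroupOf L) ((Cfsg.wOf K).subgroupOf L) :=
    hKt0 G K (Cfsg.wOf K) L hKL hd0
  have hWK : Cfsg.wOf K ≤ K := by
    obtain ⟨P, k, hPK, -, -, -, -, -, hWP, -⟩ := hd0
    exact hWP.trans hPK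
  have key := hCmx ↥L (T.subgroupOf L) hS 𝒮 (K.subgroupOf L) (K'.subgroupOf L)
    ((Cfsg.wOf K).subgroupOf L) h𝒮
    (by rw [hsup]; exact hKJ) hKodd (by rw [hsup]; exact hK'J) hK'odd
    (hTrq G hzn T hT hT1 L hLT K hK hKL) hdata
  have key2 : ∀ g ∈ K', ∀ w ∈ Cfsg.wOf K, g * w * g⁻¹ ∈ Cfsg.wOf K := by
    intro g hg w hw
    have h3 := key ⟨g, hK'L hg⟩ (by rw [Subgroup.mem_subgroupOf]; exact hg)
      ⟨w, hKL (hWK hw)⟩ (by rw [Subgroup.mem_subgroupOf]; exact hw)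
    rw [Subgroup.mem_subgroupOf] at h3
    exact h3
  intro g hg
  rw [Subgroup.mem_normalizer_iff]
  intro h
  constructor
  · exact fun hh => key2 g hg h hh
  · intro hh
    have h4 := key2 g⁻¹ (K'.inv_mem hg) _ hh
    have e : g⁻¹ * (g * h * g⁻¹) * g⁻¹⁻¹ = h := by group
    rwa [e] at h4

end Cfsg.Agent.Lib.Helper90.JU
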