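import Cfsg.Agent.Lib.Helper90.AutSys

set_option autoImplicit false

namespace Cfsg.Agent.Lib.Helper90

section MaxClassType

open scoped commutatorElement

variable {G : Type*} [Group G]

theorem mem_centralizer_single {s g : G} : g ∈ Subgroup.centralizer {s} ↔ s * g = g * s := by
  simp [Subgroup.mem_centralizer_iff]

theorem ucs_const {i : ℕ} (h : Subgroup.upperCentralSeries G (i + 1) = Subgroup.upperCentralSeries G i) (k : ℕ) :
    Subgroup.upperCentralSeries G (i + k) = Subgroup.upperCentralSeries G i := by
  induction k with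
  | zero => rfl
  | succ k ih =>
    ext x
    have h1 : x ∈ Subgroup.upperCentralSeries G (i + 1) ↔
        ∀ y, ⁅x, y⁆ ∈ Subgroup.upperCentralSeries G i := Subgroup.mem_upperCentralSeries_succ_iff
    rw [← add_assoc, Subgroup.mem_upperCentralSeries_succ_iff, ih, ← h1, h]

theorem ucs_lt_succ [Group.IsNilpotent G] {i : ℕ} (h : Subgroup.upperCentralSeries G i ≠ ⊤) :
    Subgroup.upperCentralSeries G i < Subgroup.upperCentralSeries G (i + 1) := by
  refine lt_of_le_of_ne (Subgroup.upperCentralSeries_mono G (Nat.le_succ i)) ?_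
  intro heq
  obtain ⟨c, hc⟩ := Group.IsNilpotent.nilpotent G
  have h1 := ucs_const heq.symm c
  have h2 : Subgroup.upperCentralSeries G (i + c) = ⊤ :=
    top_le_iff.mp (hc ▸ Subgroup.upperCentralSeries_mono G (Nat.le_add_left c i))
  exact h (h1 ▸ h2)

theorem ucs_index_ne_prime {p : ℕ} [Fact p.Prime] (i : ℕ) :
    (Subgroup.upperCentralSeries G (i + 1)).index ≠ p := by
  intro h
  have hle : Subgroup.upperCentralSeries G i ≤ Subgroup.upperCentralSeries G (i + 1) :=
    Subgroup.upperCentralSeries_mono G (Nat.le_succ i)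
  have hcyc : IsCyclic (G ⧸ Subgroup.upperCentralSeries G (i + 1)) := isCyclic_of_prime_card h
  let f : G ⧸ Subgroup.upperCentralSeries G i →* G ⧸ Subgroup.upperCentralSeries G (i + 1) :=
    QuotientGroup.map _ _ (MonoidHom.id G) hle
  have hf : f.ker ≤ Subgroup.center (G ⧸ Subgroup.upperCentralSeries G i) := by
    intro q hq
    induction q using QuotientGroup.induction_on with
    | H x =>
      have hx : x ∈ Subgroup.upperCentralSeries G (i + 1) := by
        have h1 : f (QuotientGroup.mk x) = 1 := hq
        have h2 : f (QuotientGroup.mk x) = QuotientGroup.mk x := rfl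
        rw [h2] at h1
        exact (QuotientGroup.eq_one_iff x).mp h1
      rw [Subgroup.mem_center_iff]
      intro g
      induction g using QuotientGroup.induction_on with
      | H y =>
        have h3 := Subgroup.mem_upperCentralSeries_succ_iff.mp hx y
        have h4 : (QuotientGroup.mk (⁅x, y⁆) : G ⧸ Subgroup.upperCentralSeries G i) = 1 :=
          (QuotientGroup.eq_one_iff _).mpr h3
        rw [commutatorElement_def] at h4
        simp only [QuotientGroup.mk_mul, QuotientGroup.mk_inv] at h4
        have h5 := mul_inv_eq_one.mp h4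
        rw [mul_inv_eq_iff_eq_mul] at h5
        exact h5.symm
  have hcomm := (f.isMulCommutative_of_isCyclic_of_ker_le_center hf).is_comm.comm
  have htop : Subgroup.upperCentralSeries G (i + 1) = ⊤ := by
    rw [eq_top_iff]
    intro x _
    rw [Subgroup.mem_upperCentralSeries_succ_iff]
    intro y
    rw [← QuotientGroup.eq_one_iff, commutatorElement_def]
    simp only [QuotientGroup.mk_mul, QuotientGroup.mk_inv]
    rw [hcomm (QuotientGroup.mk x) (QuotientGroup.mk y)]
    simp
  rw [htop, Subgroup.index_top] at h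
  exact (Fact.out : p.Prime).one_lt.ne h

theorem maxClass_cards [Finite G] {p n : ℕ} [hp : Fact p.Prime] (hn : Nat.card G = p ^ n)
    (h4 : 4 ≤ n) (hmax : Subgroup.upperCentralSeries G (n - 2) ≠ ⊤) :
    Nat.card (Subgroup.center G) = p ∧ Nat.card (Subgroup.upperCentralSeries G 2) = p ^ 2 := by
  have hG : IsPGroup p G := IsPGroup.of_card hn
  have hnil : Group.IsNilpotent G := hG.isNilpotent
  have hex : ∀ i : ℕ, ∃ e, e ≤ n ∧ Nat.card (Subgroup.upperCentralSeries G i) = p ^ e := fun i =>
    (Nat.dvd_prime_pow hp.1).mp (hn ▸ Subgroup.card_subgroup_dvd_card _)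
  choose e hen he using hex
  have he0 : e 0 = 0 := by
    have h1 := he 0
    rw [Subgroup.upperCentralSeries_zero, Subgroup.card_bot] at h1
    by_contra h0
    have := Nat.one_lt_pow h0 hp.1.one_lt
    omega
  have hne : ∀ i, i ≤ n - 2 → Subgroup.upperCentralSeries G i ≠ ⊤ := fun i hi h =>
    hmax (top_le_iff.mp (h ▸ Subgroup.upperCentralSeries_mono G hi))
  have hstrict : ∀ i, i ≤ n - 2 → e i < e (i + 1) := by
    intro i hi
    have h1 := card_lt_of_lt (ucs_lt_succ (hne i hi))
    rw [he, he] at h1
    exact (Nat.pow_lt_pow_iff_right hp.1.one_lt).mp h1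
  have htop : e (n - 2) ≤ n - 2 := by
    have h1 := (Subgroup.upperCentralSeries G (n - 2)).card_mul_index
    rw [he, hn] at h1
    have h2 : e (n - 2) ≠ n := by
      intro h
      exact hmax (Subgroup.eq_top_of_card_eq _ (by rw [he, hn, h]))
    have h3 : e (n - 2) ≠ n - 1 := by
      intro h
      rw [h] at h1
      have h5 : p ^ n = p ^ (n - 1) * p := by
        rw [← pow_succ]
        congr 1
        omega
      rw [h5] at h1
      have h6 := Nat.eq_of_mul_eq_mul_left (Nat.pos_of_ne_zero (pow_ne_zero _ hp.1.ne_zero)) h1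
      have h7 : n - 2 = (n - 3) + 1 := by omega
      rw [h7] at h6
      exact ucs_index_ne_prime (n - 3) h6
    have := hen (n - 2)
    omega
  have hchain : ∀ k i, i + k ≤ n - 2 → e i + k ≤ e (i + k) := by
    intro k
    induction k with
    | zero => intro i _; exact le_rfl
    | succ k ih =>
      intro i hi
      have h1 := ih i (by omega)
      have h2 := hstrict (i + k) (by omega)
      have h3 : i + (k + 1) = i + k + 1 := by omega
      rw [h3]
      omega
  have a1 := hchain 1 0 (by omega)
  have a2 := hchain 2 0 (by omega)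
  have b1 := hchain (n - 3) 1 (by omega)
  have b2 := hchain (n - 4) 2 (by omega)
  have c1 : 1 + (n - 3) = n - 2 := by omega
  have c2 : 2 + (n - 4) = n - 2 := by omega
  rw [c1] at b1
  rw [c2] at b2
  simp only [zero_add] at a1 a2
  have e1 : e 1 = 1 := by omega
  have e2 : e 2 = 2 := by omega
  refine ⟨?_, ?_⟩
  · rw [← Subgroup.upperCentralSeries_one, he, e1, pow_one]
  · rw [he, e2]

theorem maxClass_centralizer [Finite G] {p n : ℕ} [hp : Fact p.Prime] (hn : Nat.card G = p ^ n)
    (h1 : 1 ≤ n) (hZ : Nat.card (Subgroup.center G) = p) (hZ2 : Nat.card (Subgroup.upperCentralSeries G 2) = p ^ 2) :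
    p ^ (n - 1) ≤ Nat.card (Subgroup.centralizer (Subgroup.upperCentralSeries G 2 : Set G)) := by
  have hle : Subgroup.center G ≤ Subgroup.upperCentralSeries G 2 := by
    rw [← Subgroup.upperCentralSeries_one]
    exact Subgroup.upperCentralSeries_mono G (by norm_num)
  obtain ⟨u, hu2, hu1⟩ : ∃ u, u ∈ Subgroup.upperCentralSeries G 2 ∧ u ∉ Subgroup.center G := by
    by_contra hcon
    push Not at hcon
    have h2 : Subgroup.upperCentralSeries G 2 = Subgroup.center G := le_antisymm hcon hle
    rw [h2, hZ] at hZ2
    have := Nat.pow_lt_pow_right hp.1.one_lt (show 1 < 2 by norm_num)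
    rw [pow_one] at this
    omega
  have hcen : ∀ s : G, u * s * u⁻¹ * s⁻¹ ∈ Subgroup.center G := by
    intro s
    have := (Subgroup.mem_upperCentralSeries_succ_iff (n := 1)).mp hu2 s
    rwa [Subgroup.upperCentralSeries_one, commutatorElement_def] at this
  let θ : G →* G :=
    { toFun := fun s => u * s * u⁻¹ * s⁻¹
      map_one' := by simp
      map_mul' := by
        intro s t
        have h1 := Subgroup.mem_center_iff.mp (hcen t) s⁻¹
        show u * (s * t) * u⁻¹ * (s * t)⁻¹ = u * s * u⁻¹ * s⁻¹ * (u * t * u⁻¹ * t⁻¹)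
        calc u * (s * t) * u⁻¹ * (s * t)⁻¹ = u * s * u⁻¹ * ((u * t * u⁻¹ * t⁻¹) * s⁻¹) := by group
          _ = u * s * u⁻¹ * (s⁻¹ * (u * t * u⁻¹ * t⁻¹)) := by rw [h1]
          _ = _ := by group }
  have hrange : θ.range ≤ Subgroup.center G := by
    rintro _ ⟨s, rfl⟩
    exact hcen s
  have hker : θ.ker ≤ Subgroup.centralizer (Subgroup.upperCentralSeries G 2 : Set G) := by
    intro s hs
    have hs1 : u * s * u⁻¹ * s⁻¹ = 1 := hs
    have hus : u * s = s * u := by
      have := mul_inv_eq_one.mp hs1
      rw [mul_inv_eq_iff_eq_mul] at this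
      exact this
    have hD : Subgroup.upperCentralSeries G 2 ⊓ Subgroup.centralizer {s} = Subgroup.upperCentralSeries G 2 := by
      apply Subgroup.eq_of_le_of_card_ge inf_le_left
      have hlt : Subgroup.center G < Subgroup.upperCentralSeries G 2 ⊓ Subgroup.centralizer {s} := by
        refine lt_of_le_of_ne (le_inf hle ?_) ?_
        · intro z hz
          rw [mem_centralizer_single]
          exact Subgroup.mem_center_iff.mp hz s
        · intro h
          apply hu1
          rw [h]
          refine ⟨hu2, ?_⟩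
          show u ∈ Subgroup.centralizer {s}
          rw [mem_centralizer_single]
          exact hus.symm
      have h3 := card_lt_of_lt hlt
      rw [hZ] at h3
      have h4 : Nat.card ↥(Subgroup.upperCentralSeries G 2 ⊓ Subgroup.centralizer {s}) ∣ p ^ 2 :=
        hZ2 ▸ Subgroup.card_dvd_of_le inf_le_left
      obtain ⟨k, hk, hk2⟩ := (Nat.dvd_prime_pow hp.1).mp h4
      rw [hZ2, hk2]
      rw [hk2] at h3
      have h5 : 1 < k := by
        by_contra h
        have : k ≤ 1 := by omega
        have := Nat.pow_le_pow_right hp.1.pos this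
        rw [pow_one] at this
        omega
      have : k = 2 := by omega
      rw [this]
    rw [Subgroup.mem_centralizer_iff]
    intro w hw
    rw [← hD] at hw
    have := mem_centralizer_single.mp hw.2
    exact this.symm
  have h2 := θ.ker.card_mul_index
  rw [Subgroup.index_ker, hn] at h2
  have h3 : Nat.card θ.range ∣ p := hZ ▸ Subgroup.card_dvd_of_le hrange
  have h4 : Nat.card θ.range ≤ p := Nat.le_of_dvd hp.1.pos h3
  have h5 : p ^ (n - 1) ≤ Nat.card θ.ker := by
    by_contra hlt
    push Not at hlt
    have h6 : p ^ n = p ^ (n - 1) * p := by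
      rw [← pow_succ]
      congr 1
      omega
    have h7 : Nat.card θ.ker * Nat.card θ.range < p ^ (n - 1) * p := by
      calc Nat.card θ.ker * Nat.card θ.range ≤ Nat.card θ.ker * p := Nat.mul_le_mul_left _ h4
        _ < p ^ (n - 1) * p := Nat.mul_lt_mul_of_pos_right hlt hp.1.pos
    omega
  exact h5.trans (Subgroup.card_le_of_le hker)

end MaxClassType

end Cfsg.Agent.Lib.Helper90
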