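import Cfsg.Agent.Lib.Helper90.NegOne

set_option autoImplicit false

namespace Cfsg.Agent.Lib.Helper90

open Cfsg Cfsg.FusionSystem

open scoped commutatorElement

variable {Ω : Type*} [Group Ω] {S : Subgroup Ω} {F : FusionSystem S} {P Q : Subgroup Ω}
  {f g : Ω → Ω}

theorem conj_mem_ucsSub {i : ℕ} {x s : Ω} (hx : x ∈ ucsSub S i) (hs : s ∈ S) :
    s * x * s⁻¹ ∈ ucsSub S i := by
  obtain ⟨h, hx'⟩ := mem_ucsSub.mp hx
  have hn : (Subgroup.upperCentralSeries S i).Normal := inferInstance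
  have h1 := hn.conj_mem ⟨x, h⟩ hx' ⟨s, hs⟩
  exact mem_ucsSub.mpr ⟨S.mul_mem (S.mul_mem hs h) (S.inv_mem hs), h1⟩

theorem mem_ucsSub_one {x : Ω} : x ∈ ucsSub S 1 ↔ x ∈ S ∧ ∀ s ∈ S, s * x = x * s := by
  rw [mem_ucsSub, Subgroup.upperCentralSeries_one]
  constructor
  · rintro ⟨h, hx⟩
    refine ⟨h, fun s hs => ?_⟩
    have h1 := Subgroup.mem_center_iff.mp hx ⟨s, hs⟩
    exact congrArg Subtype.val h1
  · rintro ⟨h, hx⟩
    refine ⟨h, Subgroup.mem_center_iff.mpr (fun s => Subtype.ext (hx s s.2))⟩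

/-- A subgroup of order at most `p` of a finite `p`-group has order `1` or `p`. -/
theorem card_eq_one_or_prime [Finite S] {p : ℕ} [hp : Fact p.Prime] (hS : IsPGroup p S)
    {W : Subgroup Ω} (hWS : W ≤ S) (hW : Nat.card W ≤ p) : Nat.card W = 1 ∨ Nat.card W = p := by
  have : Finite W := finite_of_le hWS
  obtain ⟨a, ha⟩ := IsPGroup.iff_card.mp (hS.to_le hWS)
  rw [ha] at hW ⊢
  rcases Nat.lt_or_ge a 2 with h | h
  · interval_cases a
    · left; simp
    · right; simp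
  · exfalso
    have h1 : p ^ 2 ≤ p ^ a := Nat.pow_le_pow_right hp.out.pos h
    have h2 : p < p ^ 2 := by
      have := hp.out.one_lt
      nlinarith
    omega

/-- A normal subgroup of order at most `p` of a finite `p`-group is central. -/
theorem central_of_normal_card_le [Finite S] {p : ℕ} [hp : Fact p.Prime] (hS : IsPGroup p S)
    {W : Subgroup Ω} (hWS : W ≤ S) (hWn : ∀ s ∈ S, ∀ w ∈ W, s * w * s⁻¹ ∈ W)
    (hW : Nat.card W ≤ p) : ∀ w ∈ W, ∀ s ∈ S, s * w = w * s := by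
  have : Finite W := finite_of_le hWS
  obtain ⟨n, hn⟩ := exists_ucsSub_eq hS
  have key : ∀ j : ℕ, ∀ w ∈ W, w ∈ ucsSub S j → ∀ s ∈ S, s * w = w * s := by
    intro j
    induction j with
    | zero =>
      intro w _ hw s _
      rw [ucsSub_zero, Subgroup.mem_bot] at hw
      rw [hw, mul_one, one_mul]
    | succ j ih =>
      by_cases hbot : W ⊓ ucsSub S j = ⊥
      · intro w hw hwj s hs
        have h1 : w * s * w⁻¹ * s⁻¹ ∈ W ⊓ ucsSub S j := by
          refine Subgroup.mem_inf.mpr ⟨?_, comm_mem_ucsSub hwj hs⟩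
          have h2 := hWn s hs w⁻¹ (W.inv_mem hw)
          have h3 := W.mul_mem hw h2
          have e : w * (s * w⁻¹ * s⁻¹) = w * s * w⁻¹ * s⁻¹ := by group
          rwa [e] at h3
        rw [hbot, Subgroup.mem_bot] at h1
        have e : s * w = (w * s * w⁻¹ * s⁻¹)⁻¹ * (w * s) := by group
        rw [e, h1, inv_one, one_mul]
      · -- `W ⊓ ucsSub S j` is nontrivial, hence equal to `W`
        have hle : W ⊓ ucsSub S j ≤ W := inf_le_left
        have : Finite (W ⊓ ucsSub S j : Subgroup Ω) := finite_of_le (hle.trans hWS)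
        have hc1 : Nat.card (W ⊓ ucsSub S j : Subgroup Ω) ≠ 1 := by
          intro h
          exact hbot (Subgroup.card_eq_one.mp h)
        have hc2 : Nat.card (W ⊓ ucsSub S j : Subgroup Ω) ≤ Nat.card W :=
          Subgroup.card_le_of_le hle
        have hc3 := card_eq_one_or_prime hS (hle.trans hWS) (hc2.trans hW)
        have hc4 : Nat.card (W ⊓ ucsSub S j : Subgroup Ω) = p := hc3.resolve_left hc1
        have heq : W ⊓ ucsSub S j = W :=
          Subgroup.eq_of_le_of_card_ge hle (by rw [hc4]; exact hW)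
        intro w hw _ s hs
        have hwj : w ∈ ucsSub S j := by
          have : w ∈ W ⊓ ucsSub S j := by rw [heq]; exact hw
          exact (Subgroup.mem_inf.mp this).2
        exact ih w hw hwj s hs
  intro w hw s hs
  exact key n w hw (by rw [hn]; exact hWS hw) s hs

/-- If `V`, of order at most `p ^ 2`, is normal in `S` and not contained in the `i`-th term of the
upper central series of `S`, then the elements of `V` in that term are central in `S`. -/
theorem small_inf_ucsSub_central [Finite S] {p : ℕ} [hp : Fact p.Prime] (hS : IsPGroup p S)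
    {V : Subgroup Ω} (hVS : V ≤ S) (hVn : ∀ s ∈ S, ∀ v ∈ V, s * v * s⁻¹ ∈ V)
    (hVcard : Nat.card V ≤ p ^ 2) (i : ℕ) (hi : ¬ V ≤ ucsSub S i) :
    ∀ w ∈ V, w ∈ ucsSub S i → ∀ s ∈ S, s * w = w * s := by
  have : Finite V := finite_of_le hVS
  have hle : V ⊓ ucsSub S i ≤ V := inf_le_left
  have hWS : V ⊓ ucsSub S i ≤ S := hle.trans hVS
  have : Finite (V ⊓ ucsSub S i : Subgroup Ω) := finite_of_le hWS
  have hlt : V ⊓ ucsSub S i < V := lt_of_le_of_ne hle (fun h => hi (h ▸ inf_le_right))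
  have hcard : Nat.card (V ⊓ ucsSub S i : Subgroup Ω) ≤ p := by
    obtain ⟨a, ha⟩ := IsPGroup.iff_card.mp (hS.to_le hVS)
    obtain ⟨b, hb⟩ := IsPGroup.iff_card.mp (hS.to_le hWS)
    have h1 := card_lt_of_lt hlt
    rw [ha, hb] at h1
    rw [ha] at hVcard
    rw [hb]
    have ha2 : a ≤ 2 := (Nat.pow_le_pow_iff_right hp.out.one_lt).mp hVcard
    have hba : b < a := (Nat.pow_lt_pow_iff_right hp.out.one_lt).mp h1
    have hb1 : b ≤ 1 := by omega
    calc p ^ b ≤ p ^ 1 := Nat.pow_le_pow_right hp.out.pos hb1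
      _ = p := pow_one p
  have hn : ∀ s ∈ S, ∀ w ∈ V ⊓ ucsSub S i, s * w * s⁻¹ ∈ V ⊓ ucsSub S i := by
    intro s hs w hw
    exact Subgroup.mem_inf.mpr ⟨hVn s hs w (Subgroup.mem_inf.mp hw).1,
      conj_mem_ucsSub (Subgroup.mem_inf.mp hw).2 hs⟩
  intro w hw hwi s hs
  exact central_of_normal_card_le hS hWS hn hcard w (Subgroup.mem_inf.mpr ⟨hw, hwi⟩) s hs

/-- In a group, a nontrivial element of the cyclic group generated by an element `a` with
`a ^ p = 1` generates the same cyclic group. -/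
theorem zpowers_eq_of_mem {G : Type*} [Group G] {p : ℕ} [hp : Fact p.Prime] {a b : G}
    (hb : b ∈ Subgroup.zpowers a) (hb1 : b ≠ 1) (ha : a ^ p = 1) :
    Subgroup.zpowers b = Subgroup.zpowers a := by
  have ha1 : a ≠ 1 := by
    rintro rfl
    obtain ⟨k, rfl⟩ := Subgroup.mem_zpowers_iff.mp hb
    exact hb1 (one_zpow k)
  have hbp : b ^ p = 1 := by
    obtain ⟨k, rfl⟩ := Subgroup.mem_zpowers_iff.mp hb
    rw [← zpow_natCast, ← zpow_mul, mul_comm, zpow_mul, zpow_natCast, ha, one_zpow]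
  have hca : Nat.card (Subgroup.zpowers a) = p := by
    rw [Nat.card_zpowers, orderOf_eq_prime ha ha1]
  have hcb : Nat.card (Subgroup.zpowers b) = p := by
    rw [Nat.card_zpowers, orderOf_eq_prime hbp hb1]
  have : Finite (Subgroup.zpowers a) :=
    Nat.finite_of_card_ne_zero (by rw [hca]; exact hp.out.ne_zero)
  exact Subgroup.eq_of_le_of_card_ge (Subgroup.zpowers_le.mpr hb) (by rw [hca, hcb])

/-- The main step: let `P` be strongly closed, `p` odd, and suppose the elements of `P` of order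
dividing `p` form a subgroup `V` of order at most `p ^ 2` that is not central in `P`. Then no map
of the system sends an element of `V` central in `S` to a non-central element. -/
theorem map_central_of_small_omega [Finite S] {p : ℕ} [hp : Fact p.Prime] (hS : IsPGroup p S)
    (hF : F.IsSaturated p) (hodd : p ≠ 2) {P V : Subgroup Ω} (hP : F.StronglyClosed P)
    (hVmem : ∀ x, x ∈ V ↔ x ∈ P ∧ x ^ p = 1) (hVcard : Nat.card V ≤ p ^ 2)
    (hB : ∃ v ∈ V, ∃ x ∈ P, v * x ≠ x * v)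
    {z : Ω} (hzV : z ∈ V) (hzc : ∀ s ∈ S, s * z = z * s)
    (hf : Mor F (Subgroup.zpowers z) f) : ∀ s ∈ S, s * f z = f z * s := by
  classical
  have hPS : P ≤ S := hP.1
  have hVP : V ≤ P := fun x hx => ((hVmem x).mp hx).1
  have hVS : V ≤ S := hVP.trans hPS
  have : Finite P := finite_of_le hPS
  have : Finite V := finite_of_le hVS
  have hVc : F.StronglyClosed V := by
    refine ⟨hVS, fun R hR φ hφ x => (hVmem _).mpr ⟨hP.2 R (hR.trans hVP) φ hφ x, ?_⟩⟩
    have h1 : x ^ p = 1 := Subtype.ext (by rw [Subgroup.coe_pow]; exact ((hVmem _).mp (hR x.2)).2)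
    rw [← map_pow, h1, map_one]
  have hVn : ∀ s ∈ S, ∀ v ∈ V, s * v * s⁻¹ ∈ V :=
    fun s hs v hv => stronglyClosed_conj_mem hVc hs hv
  by_contra hcon
  push Not at hcon
  obtain ⟨s₀, hs₀, hs₀y⟩ := hcon
  obtain ⟨y, hy⟩ : ∃ y, y = f z := ⟨_, rfl⟩
  rw [← hy] at hs₀y
  have hzZ : Subgroup.zpowers z ≤ V := Subgroup.zpowers_le.mpr hzV
  have hyV : y ∈ V := by
    rw [hy]
    exact stronglyClosed_mor_mem hVc hf hzZ (Subgroup.mem_zpowers z)
  have hz1 : z ≠ 1 := by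
    rintro rfl
    apply hs₀y
    rw [hy, hf.map_one, mul_one, one_mul]
  have hzp : z ^ p = 1 := ((hVmem z).mp hzV).2
  have hyp : y ^ p = 1 := ((hVmem y).mp hyV).2
  have hcardz : Nat.card (Subgroup.zpowers z) = p := by
    rw [Nat.card_zpowers, orderOf_eq_prime hzp hz1]
  have hzpc : ∀ w ∈ Subgroup.zpowers z, ∀ s ∈ S, s * w = w * s := by
    intro w hw s hs
    obtain ⟨k, rfl⟩ := Subgroup.mem_zpowers_iff.mp hw
    have h1 : Commute s z := hzc s hs
    exact (h1.zpow_right k).eq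
  have hyz : y ∉ Subgroup.zpowers z := fun h => hs₀y (hzpc y h s₀ hs₀)
  have hy1 : y ≠ 1 := fun h => hyz (h ▸ Subgroup.one_mem _)
  -- `V` has order `p ^ 2`
  obtain ⟨a, ha⟩ := IsPGroup.iff_card.mp (hS.to_le hVS)
  have hcardV : Nat.card V = p ^ 2 := by
    have hlt : Subgroup.zpowers z < V :=
      lt_of_le_of_ne hzZ (fun h => hyz (by rw [h]; exact hyV))
    have h1 : Nat.card (Subgroup.zpowers z) < Nat.card V := card_lt_of_lt hlt
    rw [hcardz, ha] at h1
    rw [ha] at hVcard ⊢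
    have ha2 : a ≤ 2 := (Nat.pow_le_pow_iff_right hp.out.one_lt).mp hVcard
    have ha1 : 1 < a := by
      by_contra h
      have h2 : p ^ a ≤ p ^ 1 := Nat.pow_le_pow_right hp.out.pos (by omega)
      rw [pow_one] at h2
      omega
    have h3 : a = 2 := by omega
    rw [h3]
  have hVcomm : ∀ a ∈ V, ∀ b ∈ V, a * b = b * a := by
    intro a ha b hb
    have h1 := (IsPGroup.isMulCommutative_of_card_eq_prime_sq (p := p) hcardV).is_comm.comm
      (⟨a, ha⟩ : V) ⟨b, hb⟩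
    exact congrArg Subtype.val h1
  have hVcomm' : ∀ a b : V, a * b = b * a := fun a b => Subtype.ext (hVcomm a a.2 b b.2)
  -- subgroups between `⟨z⟩` and `V`
  have hmid : ∀ W' : Subgroup Ω, Subgroup.zpowers z ≤ W' → W' ≤ V →
      W' = Subgroup.zpowers z ∨ W' = V := by
    intro W' h1 h2
    have : Finite W' := finite_of_le (h2.trans hVS)
    obtain ⟨b, hb⟩ := IsPGroup.iff_card.mp (hS.to_le (h2.trans hVS))
    have h3 : p ≤ p ^ b := by
      rw [← hb, ← hcardz]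
      exact Subgroup.card_le_of_le h1
    have h4 : p ^ b ≤ p ^ 2 := by
      rw [← hb, ← hcardV]
      exact Subgroup.card_le_of_le h2
    have hb2 : b ≤ 2 := (Nat.pow_le_pow_iff_right hp.out.one_lt).mp h4
    have hb1 : 1 ≤ b := by
      by_contra h
      have h5 : b = 0 := by omega
      rw [h5, pow_zero] at h3
      have := hp.out.one_lt
      omega
    rcases (by omega : b = 1 ∨ b = 2) with rfl | rfl
    · left
      exact (Subgroup.eq_of_le_of_card_ge h1 (by rw [hb, hcardz, pow_one])).symm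
    · right
      exact Subgroup.eq_of_le_of_card_ge h2 (by rw [hb, hcardV])
  have hcentral : ∀ w ∈ V, (∀ s ∈ S, s * w = w * s) → w ∈ Subgroup.zpowers z := by
    intro w hw hwc
    have h0 : Subgroup.zpowers z ≤ V ⊓ Subgroup.centralizer (S : Set Ω) :=
      le_inf hzZ (fun u hu => Subgroup.mem_centralizer_iff.mpr (fun s hs => hzpc u hu s hs))
    rcases hmid (V ⊓ Subgroup.centralizer (S : Set Ω)) h0 inf_le_left with h | h
    · rw [← h]
      exact Subgroup.mem_inf.mpr ⟨hw, Subgroup.mem_centralizer_iff.mpr hwc⟩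
    · exfalso
      have h1 : y ∈ V ⊓ Subgroup.centralizer (S : Set Ω) := by rw [h]; exact hyV
      exact hs₀y (Subgroup.mem_centralizer_iff.mp (Subgroup.mem_inf.mp h1).2 s₀ hs₀)
  -- commutators of `V` with `S` lie in `⟨z⟩`
  obtain ⟨n, hn⟩ := exists_ucsSub_eq hS
  have hex : ∃ k, V ≤ ucsSub S k := ⟨n, by rw [hn]; exact hVS⟩
  obtain ⟨k, hk⟩ : ∃ k, k = Nat.find hex := ⟨_, rfl⟩
  have hVk : V ≤ ucsSub S k := hk ▸ Nat.find_spec hex
  have hk0 : k ≠ 0 := by
    rintro rfl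
    rw [ucsSub_zero] at hVk
    exact hz1 (Subgroup.mem_bot.mp (hVk hzV))
  obtain ⟨k', rfl⟩ := Nat.exists_eq_succ_of_ne_zero hk0
  have hVk' : ¬ V ≤ ucsSub S k' := Nat.find_min hex (hk ▸ Nat.lt_succ_self k')
  have hSC := small_inf_ucsSub_central hS hVS hVn hVcard k' hVk'
  have hcommc : ∀ v ∈ V, ∀ s ∈ S, v⁻¹ * (s * v * s⁻¹) ∈ Subgroup.zpowers z := by
    intro v hv s hs
    have h1 : v⁻¹ * (s * v * s⁻¹) ∈ V := V.mul_mem (V.inv_mem hv) (hVn s hs v hv)
    apply hcentral _ h1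
    apply hSC _ h1
    have h2 := comm_mem_ucsSub (Subgroup.inv_mem _ (hVk hv)) hs
    have e : v⁻¹ * s * v⁻¹⁻¹ * s⁻¹ = v⁻¹ * (s * v * s⁻¹) := by group
    rwa [e] at h2
  -- an element of `P` not commuting with `y`
  obtain ⟨v₀, hv₀, s, hsP, hvx⟩ := hB
  have hsS : s ∈ S := hPS hsP
  have hsy : s * y ≠ y * s := by
    intro h
    have h1 : Subgroup.zpowers z ≤ V ⊓ Subgroup.centralizer ({s} : Set Ω) := by
      refine le_inf hzZ (fun u hu => Subgroup.mem_centralizer_iff.mpr (fun t ht => ?_))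
      rw [Set.mem_singleton_iff.mp ht]
      exact hzpc u hu s hsS
    rcases hmid _ h1 inf_le_left with h2 | h2
    · have h3 : y ∈ V ⊓ Subgroup.centralizer ({s} : Set Ω) :=
        Subgroup.mem_inf.mpr ⟨hyV, Subgroup.mem_centralizer_iff.mpr (fun t ht => by
          rw [Set.mem_singleton_iff.mp ht]; exact h)⟩
      rw [h2] at h3
      exact hyz h3
    · have h3 : v₀ ∈ V ⊓ Subgroup.centralizer ({s} : Set Ω) := by rw [h2]; exact hv₀
      exact hvx (Subgroup.mem_centralizer_iff.mp (Subgroup.mem_inf.mp h3).2 s rfl).symm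
  -- the automorphism `τ` of `V` induced by `s`
  obtain ⟨τ, hτΓ, hτ⟩ := exists_aut_of_mor (mor_conj F hVS hsS) (fun v hv => hVn s hsS v hv)
  -- the automorphism `γ` of `V` with `γ y = z`
  have : Finite (Subgroup.zpowers z) := finite_of_le (hzZ.trans hVS)
  have hNz : normalizerIn S (Subgroup.zpowers z) = S := by
    have h1 : normalizerIn S (Subgroup.zpowers z) ≤ S := inf_le_left
    apply le_antisymm h1
    intro t ht
    refine ⟨ht, mem_normalizer_of_finite (fun w hw => ?_)⟩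
    rw [hzpc w hw t ht, mul_assoc, mul_inv_cancel, mul_one]
    exact hw
  have hfn : F.IsFullyNormalized (Subgroup.zpowers z) := by
    refine ⟨hzZ.trans hVS, fun Q _ => ?_⟩
    rw [hNz]
    have h1 : normalizerIn S Q ≤ S := inf_le_left
    exact Subgroup.card_le_of_le h1
  obtain ⟨-, -, hrecz⟩ := Cfsg.Agent.Lib.Helper87.saturated_fullyNormalized p hS F hF hfn
  obtain ⟨Y, hY⟩ : ∃ Y, Y = img (Subgroup.zpowers z) f := ⟨_, rfl⟩
  have hψ : Mor F Y (invFn (Subgroup.zpowers z) f) := by rw [hY]; exact hf.inv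
  have hψimg : img Y (invFn (Subgroup.zpowers z) f) = Subgroup.zpowers z := by
    rw [hY]; exact hf.img_inv
  have hyY : y ∈ Y := by
    rw [hY, hy]; exact hf.mem_img_of_mem (Subgroup.mem_zpowers z)
  have hYV : Y ≤ V := by
    intro u hu
    rw [hY] at hu
    obtain ⟨w, hw, rfl⟩ := hf.mem_img.mp hu
    exact stronglyClosed_mor_mem hVc hf hzZ hw
  obtain ⟨ψ', hψ', hψ'Y⟩ := receptive_extend' hrecz hψ hψimg
  have hVext : V ≤ extFn S Y (invFn (Subgroup.zpowers z) f) := by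
    refine le_trans ?_ hψ.centralizerIn_le_extFn
    intro v hv
    exact Subgroup.mem_inf.mpr ⟨hVS hv,
      Subgroup.mem_centralizer_iff.mpr (fun u hu => hVcomm u (hYV hu) v hv)⟩
  have hψ'V : Mor F V ψ' := hψ'.restrict hVext
  have hψ'VV : ∀ v ∈ V, ψ' v ∈ V := fun v hv => stronglyClosed_mor_mem hVc hψ'V le_rfl hv
  obtain ⟨γ, hγΓ, hγ⟩ := exists_aut_of_mor hψ'V hψ'VV
  obtain ⟨yV, hyVdef⟩ : ∃ yV : V, yV = ⟨y, hyV⟩ := ⟨_, rfl⟩
  obtain ⟨zV, hzVdef⟩ : ∃ zV : V, zV = ⟨z, hzV⟩ := ⟨_, rfl⟩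
  have hγyV : γ yV = zV := by
    rw [hyVdef, hzVdef]
    apply Subtype.ext
    rw [hγ]
    show ψ' y = z
    rw [hψ'Y y hyY, hy, hf.invFn_apply (Subgroup.mem_zpowers z)]
  have hτfix : ∀ w : V, (w : Ω) ∈ Subgroup.zpowers z → τ w = w := by
    intro w hw
    apply Subtype.ext
    rw [hτ, hzpc w hw s hsS, mul_assoc, mul_inv_cancel, mul_one]
  have hτcomm : ∀ v : V, ((v⁻¹ * τ v : V) : Ω) ∈ Subgroup.zpowers z := by
    intro v
    have h1 := hcommc v v.2 s hsS
    have h2 : ((v⁻¹ * τ v : V) : Ω) = (v : Ω)⁻¹ * (s * v * s⁻¹) := by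
      rw [← hτ]; rfl
    rw [h2]
    exact h1
  have hτz : τ zV = zV := hτfix zV (by rw [hzVdef]; exact Subgroup.mem_zpowers z)
  obtain ⟨τ', hτ'def⟩ : ∃ τ' : MulAut V, τ' = γ⁻¹ * τ * γ := ⟨_, rfl⟩
  have hγinvz : γ⁻¹ zV = yV := by rw [← hγyV, MulAut.inv_apply_self]
  have hτ'y : τ' yV = yV := by
    rw [hτ'def, MulAut.mul_apply, MulAut.mul_apply, hγyV, hτz, hγinvz]
  -- `z₁`
  obtain ⟨z₁, hz₁def⟩ : ∃ z₁ : V, z₁ = yV⁻¹ * τ yV := ⟨_, rfl⟩
  have hz₁z : (z₁ : Ω) ∈ Subgroup.zpowers z := by rw [hz₁def]; exact hτcomm yV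
  have hz₁1 : z₁ ≠ 1 := by
    intro h
    rw [hz₁def] at h
    have h1 : τ yV = yV := by
      have := congrArg (fun t => yV * t) h
      simpa using this
    have h2 := congrArg Subtype.val h1
    rw [hτ, hyVdef] at h2
    apply hsy
    have h3 : s * y * s⁻¹ = y := h2
    calc s * y = s * y * s⁻¹ * s := by group
      _ = y * s := by rw [h3]
  have hz₁Ω1 : (z₁ : Ω) ≠ 1 := fun h => hz₁1 (Subtype.ext h)
  have hzpz₁ : Subgroup.zpowers (z₁ : Ω) = Subgroup.zpowers z := zpowers_eq_of_mem hz₁z hz₁Ω1 hzp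
  -- `u = γ z₁` and `c = u⁻¹ τ u`
  obtain ⟨u, hudef⟩ : ∃ u : V, u = γ z₁ := ⟨_, rfl⟩
  obtain ⟨c, hcdef⟩ : ∃ c : V, c = u⁻¹ * τ u := ⟨_, rfl⟩
  have hcz : (c : Ω) ∈ Subgroup.zpowers z := by rw [hcdef]; exact hτcomm u
  have hy₁eq : z₁⁻¹ * τ' z₁ = γ⁻¹ c := by
    rw [hτ'def, MulAut.mul_apply, MulAut.mul_apply, ← hudef, hcdef, map_mul, map_inv, hudef,
      MulAut.inv_apply_self]
  obtain ⟨m, hm⟩ := Subgroup.mem_zpowers_iff.mp hcz
  have hcm : c = zV ^ m := by
    apply Subtype.ext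
    rw [Subgroup.coe_zpow, hzVdef]
    exact hm.symm
  have hy₁m : z₁⁻¹ * τ' z₁ = yV ^ m := by
    rw [hy₁eq, hcm, map_zpow, hγinvz]
  have hc1 : c ≠ 1 := by
    intro h
    -- then `s` commutes with `u`, so `u ∈ ⟨z⟩`, so `z₁ ∈ ⟨y⟩`
    have h1 : τ u = u := by
      rw [hcdef] at h
      have := congrArg (fun t => u * t) h
      simpa using this
    have h2 : s * (u : Ω) = (u : Ω) * s := by
      have h3 := congrArg Subtype.val h1
      rw [hτ] at h3
      calc s * (u : Ω) = s * (u : Ω) * s⁻¹ * s := by group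
        _ = (u : Ω) * s := by rw [h3]
    have h4 : Subgroup.zpowers z ≤ V ⊓ Subgroup.centralizer ({s} : Set Ω) := by
      refine le_inf hzZ (fun w hw => Subgroup.mem_centralizer_iff.mpr (fun t ht => ?_))
      rw [Set.mem_singleton_iff.mp ht]
      exact hzpc w hw s hsS
    have h5 : (u : Ω) ∈ Subgroup.zpowers z := by
      rcases hmid _ h4 inf_le_left with h6 | h6
      · rw [← h6]
        exact Subgroup.mem_inf.mpr ⟨u.2, Subgroup.mem_centralizer_iff.mpr (fun t ht => by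
          rw [Set.mem_singleton_iff.mp ht]; exact h2)⟩
      · exfalso
        have h7 : y ∈ V ⊓ Subgroup.centralizer ({s} : Set Ω) := by rw [h6]; exact hyV
        exact hsy (Subgroup.mem_centralizer_iff.mp (Subgroup.mem_inf.mp h7).2 s rfl)
    obtain ⟨e, he⟩ := Subgroup.mem_zpowers_iff.mp h5
    have h8 : u = zV ^ e := by
      apply Subtype.ext
      rw [Subgroup.coe_zpow, hzVdef]
      exact he.symm
    have h9 : z₁ = yV ^ e := by
      have h10 : γ⁻¹ u = z₁ := by rw [hudef, MulAut.inv_apply_self]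
      rw [← h10, h8, map_zpow, hγinvz]
    have h11 : (z₁ : Ω) = y ^ e := by
      rw [h9, Subgroup.coe_zpow, hyVdef]
    have h12 : (z₁ : Ω) ∈ Subgroup.zpowers y := by
      rw [h11]; exact Subgroup.zpow_mem_zpowers y e
    have h13 : Subgroup.zpowers (z₁ : Ω) = Subgroup.zpowers y := zpowers_eq_of_mem h12 hz₁Ω1 hyp
    apply hyz
    rw [← hzpz₁, h13]
    exact Subgroup.mem_zpowers y
  have hy₁1 : yV ^ m ≠ 1 := by
    intro h
    apply hc1
    have h1 : γ⁻¹ c = 1 := by rw [← hy₁eq, hy₁m, h]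
    have h2 := congrArg γ h1
    rw [MulAut.apply_inv_self, map_one] at h2
    exact h2
  have hyVp : yV ^ p = 1 := by
    apply Subtype.ext
    rw [Subgroup.coe_pow, hyVdef]
    exact hyp
  have hzpy₁ : Subgroup.zpowers (yV ^ m) = Subgroup.zpowers yV :=
    zpowers_eq_of_mem (Subgroup.zpow_mem_zpowers yV m) hy₁1 hyVp
  obtain ⟨j, hj⟩ : ∃ j : ℕ, (yV ^ m) ^ j = yV⁻¹ := by
    have h1 : yV⁻¹ ∈ Subgroup.zpowers (yV ^ m) := by
      rw [hzpy₁]
      exact Subgroup.inv_mem _ (Subgroup.mem_zpowers yV)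
    rw [← mem_powers_iff_mem_zpowers] at h1
    exact (Submonoid.mem_powers_iff _ _).mp h1
  -- apply the transvection lemma
  have hA1 : τ (yV⁻¹ * τ yV) = yV⁻¹ * τ yV := by
    rw [← hz₁def]; exact hτfix z₁ hz₁z
  have hA2 : yV * (yV⁻¹ * τ yV) = (yV⁻¹ * τ yV) * yV := hVcomm' _ _
  have hA3 : τ' ((yV⁻¹ * τ yV)⁻¹ * τ' (yV⁻¹ * τ yV)) = (yV⁻¹ * τ yV)⁻¹ * τ' (yV⁻¹ * τ yV) := by
    rw [← hz₁def, hy₁m, map_zpow, hτ'y]
  have hA4 : ((yV⁻¹ * τ yV)⁻¹ * τ' (yV⁻¹ * τ yV)) ^ j = yV⁻¹ := by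
    rw [← hz₁def, hy₁m]; exact hj
  obtain ⟨β, hβcl, hβy, hβz⟩ := exists_aut_inv_of_transvections τ τ' yV hτ'y hA1 hA2 hA3 j hA4
  rw [← hz₁def] at hβz
  have hτ'Γ : τ' ∈ F.autGroup V := by
    rw [hτ'def]
    exact Subgroup.mul_mem _ (Subgroup.mul_mem _ (Subgroup.inv_mem _ hγΓ) hτΓ) hγΓ
  have hβΓ : β ∈ F.autGroup V := by
    have hle : Subgroup.closure ({τ, τ'} : Set (MulAut V)) ≤ F.autGroup V := by
      rw [Subgroup.closure_le]
      rintro t (rfl | rfl)
      · exact hτΓ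
      · exact hτ'Γ
    exact hle hβcl
  -- `β` inverts `V`
  let I : Subgroup V :=
    { carrier := {v | β v = v⁻¹}
      mul_mem' := by
        intro a b ha hb
        show β (a * b) = (a * b)⁻¹
        have ha' : β a = a⁻¹ := ha
        have hb' : β b = b⁻¹ := hb
        rw [map_mul, ha', hb', mul_inv_rev]
        exact hVcomm' _ _
      one_mem' := by
        show β 1 = 1⁻¹
        rw [map_one, inv_one]
      inv_mem' := by
        intro a ha
        have ha' : β a = a⁻¹ := ha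
        show β a⁻¹ = a⁻¹⁻¹
        rw [map_inv, ha'] }
  have hImem : ∀ v : V, v ∈ I ↔ β v = v⁻¹ := fun v => Iff.rfl
  have hIall : ∀ v : V, β v = v⁻¹ := by
    have h1 : Subgroup.zpowers z ≤ I.map V.subtype := by
      rw [← hzpz₁, Subgroup.zpowers_le]
      exact Subgroup.mem_map.mpr ⟨z₁, (hImem z₁).mpr hβz, rfl⟩
    have h2 : y ∈ I.map V.subtype :=
      Subgroup.mem_map.mpr ⟨yV, (hImem yV).mpr hβy, by rw [hyVdef]; rfl⟩
    have h3 : I.map V.subtype = V := by
      rcases hmid _ h1 (Subgroup.map_subtype_le I) with h4 | h4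
      · exfalso
        rw [h4] at h2
        exact hyz h2
      · exact h4
    intro v
    have h5 : (v : Ω) ∈ I.map V.subtype := by rw [h3]; exact v.2
    obtain ⟨v', hv', hvv'⟩ := Subgroup.mem_map.mp h5
    have h6 : v' = v := Subtype.ext hvv'
    rw [← h6]
    exact (hImem v').mp hv'
  -- extend `β` to `S`
  have hβF : Mor F V (autFun V β) := (mem_autGroup_iff F hVS β).mp hβΓ
  have hβinv : ∀ v ∈ V, autFun V β v = v⁻¹ := by
    intro v hv
    rw [autFun_apply' β hv, hIall ⟨v, hv⟩]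
    rfl
  have hNV : normalizerIn S V = S := by
    have h1 : normalizerIn S V ≤ S := inf_le_left
    apply le_antisymm h1
    intro t ht
    exact ⟨ht, mem_normalizer_of_finite (fun v hv => hVn t ht v hv)⟩
  have hfnV : F.IsFullyNormalized V := by
    refine ⟨hVS, fun Q _ => ?_⟩
    rw [hNV]
    have h1 : normalizerIn S Q ≤ S := inf_le_left
    exact Subgroup.card_le_of_le h1
  obtain ⟨-, -, hrecV⟩ := Cfsg.Agent.Lib.Helper87.saturated_fullyNormalized p hS F hF hfnV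
  obtain ⟨β', hβ', hβ'V⟩ := receptive_extend' hrecV hβF (img_autFun β)
  have hSext : S ≤ extFn S V (autFun V β) := by
    intro a ha
    rw [hβF.mem_extFn]
    refine ⟨ha, mem_normalizer_of_finite (fun v hv => hVn a ha v hv), a, ha, fun v hv => ?_⟩
    rw [hβinv _ (hVn a ha v hv), hβinv v hv]
    group
  have hβ'P : Mor F P β' := (hβ'.restrict hSext).restrict hPS
  have hβ'PP : ∀ x ∈ P, β' x ∈ P := fun x hx => stronglyClosed_mor_mem hP hβ'P le_rfl hx
  obtain ⟨α, -, hα⟩ := exists_aut_of_mor hβ'P hβ'PP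
  have hαV : ∀ x : P, (x : Ω) ∈ V → α x = x⁻¹ := by
    intro x hx
    apply Subtype.ext
    rw [hα, hβ'V _ hx, hβinv _ hx]
    rfl
  -- `α` acts trivially on `P / C_P(V)`
  obtain ⟨C, hCdef⟩ : ∃ C : Subgroup P, C = (Subgroup.centralizer (V : Set Ω)).subgroupOf P :=
    ⟨_, rfl⟩
  have hCmem : ∀ x : P, x ∈ C ↔ ∀ v ∈ V, v * (x : Ω) = (x : Ω) * v := by
    intro x
    rw [hCdef, Subgroup.mem_subgroupOf, Subgroup.mem_centralizer_iff]
    exact Iff.rfl
  have hCα : ∀ x : P, x⁻¹ * α x ∈ C := by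
    intro x
    rw [hCmem]
    intro v hv
    have hvP : v ∈ P := hVP hv
    have h1 : (x : Ω) * v * (x : Ω)⁻¹ ∈ V := hVn x (hPS x.2) v hv
    have h2 := hαV (x * ⟨v, hvP⟩ * x⁻¹) h1
    rw [map_mul, map_mul, map_inv, hαV ⟨v, hvP⟩ hv] at h2
    have h3 := congrArg Subtype.val h2
    have h4 : ((α x : P) : Ω) * v⁻¹ * ((α x : P) : Ω)⁻¹ = ((x : Ω) * v * (x : Ω)⁻¹)⁻¹ := h3
    have h5 : ((α x : P) : Ω) * v * ((α x : P) : Ω)⁻¹ = (x : Ω) * v * (x : Ω)⁻¹ := by
      have h6 := congrArg (fun t => t⁻¹) h4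
      simp only [mul_inv_rev, inv_inv] at h6
      rw [← mul_assoc] at h6
      exact h6
    show v * ((x : Ω)⁻¹ * ((α x : P) : Ω)) = (x : Ω)⁻¹ * ((α x : P) : Ω) * v
    calc v * ((x : Ω)⁻¹ * ((α x : P) : Ω))
        = (x : Ω)⁻¹ * ((x : Ω) * v * (x : Ω)⁻¹) * ((α x : P) : Ω) := by group
      _ = (x : Ω)⁻¹ * (((α x : P) : Ω) * v * ((α x : P) : Ω)⁻¹) * ((α x : P) : Ω) := by rw [h5]
      _ = (x : Ω)⁻¹ * ((α x : P) : Ω) * v := by group
  have hord : orderOf α ≠ 0 := (orderOf_pos α).ne'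
  obtain ⟨k₂, j₂, hjodd, hkj⟩ := Nat.exists_eq_two_pow_mul_odd hord
  have hα'pow : (α ^ j₂) ^ 2 ^ k₂ = 1 := by
    rw [← pow_mul, mul_comm, ← hkj, pow_orderOf_eq_one]
  have hpowC : ∀ (n : ℕ) (x : P), x⁻¹ * (α ^ n) x ∈ C := by
    intro n
    induction n with
    | zero =>
      intro x
      rw [pow_zero, MulAut.one_apply, inv_mul_cancel]
      exact C.one_mem
    | succ n ih =>
      intro x
      have e : x⁻¹ * (α ^ (n + 1)) x = (x⁻¹ * α x) * ((α x)⁻¹ * (α ^ n) (α x)) := by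
        rw [pow_succ, MulAut.mul_apply]; group
      rw [e]
      exact C.mul_mem (hCα x) (ih (α x))
  have hpowV : ∀ x : P, (x : Ω) ∈ V → (α ^ j₂) x = x⁻¹ := by
    intro x hx
    obtain ⟨i, rfl⟩ := hjodd
    have h2 : ∀ i : ℕ, (α ^ (2 * i)) x = x := by
      intro i
      induction i with
      | zero => simp
      | succ i ih =>
        rw [show 2 * (i + 1) = 2 * i + 2 by ring, pow_add, MulAut.mul_apply, pow_two,
          MulAut.mul_apply, hαV x hx, map_inv, hαV x hx, inv_inv, ih]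
    rw [pow_succ, MulAut.mul_apply, hαV x hx, map_inv, h2 i]
  have hoddP : Odd (Nat.card P) := by
    obtain ⟨e, he⟩ := IsPGroup.iff_card.mp (hS.to_le hPS)
    rw [he]
    exact (hp.out.odd_of_ne_two hodd).pow
  obtain ⟨x₁, hx₁C, hx₁fix⟩ :=
    exists_fixed_in_coset hoddP C (α ^ j₂) k₂ hα'pow (hpowC j₂) ⟨s, hsP⟩
  have hx₁nC : x₁ ∉ C := by
    intro h
    have h1 : (⟨s, hsP⟩ : P) ∈ C := by
      have h2 := C.mul_mem h (C.inv_mem hx₁C)
      have e : x₁ * ((⟨s, hsP⟩ : P)⁻¹ * x₁)⁻¹ = ⟨s, hsP⟩ := by group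
      rwa [e] at h2
    exact hsy ((hCmem _).mp h1 y hyV).symm
  have hx₁1 : x₁ ≠ 1 := fun h => hx₁nC (h ▸ C.one_mem)
  obtain ⟨t, ht⟩ := (hS.to_le hPS) x₁
  have hex2 : ∃ t, x₁ ^ p ^ t = 1 := ⟨t, ht⟩
  obtain ⟨t₀, ht₀⟩ : ∃ t₀, t₀ = Nat.find hex2 := ⟨_, rfl⟩
  have ht₀spec : x₁ ^ p ^ t₀ = 1 := ht₀ ▸ Nat.find_spec hex2
  have ht₀0 : t₀ ≠ 0 := by
    rintro rfl
    rw [pow_zero, pow_one] at ht₀spec
    exact hx₁1 ht₀spec
  obtain ⟨t₁, rfl⟩ := Nat.exists_eq_succ_of_ne_zero ht₀0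
  have hmin : x₁ ^ p ^ t₁ ≠ 1 := Nat.find_min hex2 (ht₀ ▸ Nat.lt_succ_self t₁)
  obtain ⟨w, hw⟩ : ∃ w : P, w = x₁ ^ p ^ t₁ := ⟨_, rfl⟩
  have hwp : w ^ p = 1 := by
    rw [hw, ← pow_mul, ← pow_succ]
    exact ht₀spec
  have hwV : (w : Ω) ∈ V := (hVmem _).mpr ⟨w.2, by rw [← Subgroup.coe_pow, hwp]; rfl⟩
  have hwfix : (α ^ j₂) w = w := by rw [hw, map_pow, hx₁fix]
  have hwinv : (α ^ j₂) w = w⁻¹ := hpowV w hwV
  have hw2 : w ^ 2 = 1 := by
    rw [pow_two]
    exact mul_eq_one_iff_eq_inv.mpr (hwfix.symm.trans hwinv)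
  have hw1 : w = 1 := by
    have h1 : orderOf w ∣ 2 := orderOf_dvd_of_pow_eq_one hw2
    have h2 : orderOf w ∣ p := orderOf_dvd_of_pow_eq_one hwp
    have h3 : orderOf w ∣ Nat.gcd 2 p := Nat.dvd_gcd h1 h2
    have h4 : Nat.gcd 2 p = 1 :=
      (Nat.coprime_primes Nat.prime_two hp.out).mpr (Ne.symm hodd)
    rw [h4, Nat.dvd_one] at h3
    exact orderOf_eq_one_iff.mp h3
  exact hmin (hw ▸ hw1)

/-- `p` odd, `P` strongly closed, and the elements of `P` of order dividing `p` form a subgroup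
of order at most `p ^ 2`: then `P` is normal in `F`. -/
theorem isNormal_of_small_omega [Finite S] {p : ℕ} [hp : Fact p.Prime] (hS : IsPGroup p S)
    (hF : F.IsSaturated p) (hodd : p ≠ 2) {P V : Subgroup Ω} (hP : F.StronglyClosed P)
    (hVmem : ∀ x, x ∈ V ↔ x ∈ P ∧ x ^ p = 1) (hVcard : Nat.card V ≤ p ^ 2) : F.IsNormal P := by
  classical
  have hPS : P ≤ S := hP.1
  have hVP : V ≤ P := fun x hx => ((hVmem x).mp hx).1
  have hVS : V ≤ S := hVP.trans hPS
  have hVc : F.StronglyClosed V := by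
    refine ⟨hVS, fun R hR φ hφ x => (hVmem _).mpr ⟨hP.2 R (hR.trans hVP) φ hφ x, ?_⟩⟩
    have h1 : x ^ p = 1 := Subtype.ext (by rw [Subgroup.coe_pow]; exact ((hVmem _).mp (hR x.2)).2)
    rw [← map_pow, h1, map_one]
  have hVn : ∀ s ∈ S, ∀ v ∈ V, s * v * s⁻¹ ∈ V :=
    fun s hs v hv => stronglyClosed_conj_mem hVc hs hv
  have hom : omegaOne p P = V := by
    unfold omegaOne
    have h1 : {x : Ω | x ∈ P ∧ x ^ p = 1} = (V : Set Ω) := by
      ext x
      exact (hVmem x).symm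
    rw [h1, Subgroup.closure_eq]
  by_cases hB : ∃ v ∈ V, ∃ x ∈ P, v * x ≠ x * v
  · obtain ⟨n, hn⟩ := exists_ucsSub_eq hS
    refine isNormal_of_chain hS hF hodd hP n (fun i => V ⊓ ucsSub S (i : ℕ)) ?_ ?_ ?_ ?_
    · show V ⊓ ucsSub S ((0 : Fin (n + 1)) : ℕ) = ⊥
      rw [Fin.val_zero, ucsSub_zero, inf_bot_eq]
    · show V ⊓ ucsSub S ((Fin.last n : Fin (n + 1)) : ℕ) = omegaOne p P
      rw [Fin.val_last, hn, hom]
      exact inf_eq_left.mpr hVS
    · intro i
      refine ⟨inf_le_left.trans hVS, fun R hR φ hφ x => ?_⟩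
      have hxV : (x : Ω) ∈ V := (Subgroup.mem_inf.mp (hR x.2)).1
      have hxi : (x : Ω) ∈ ucsSub S (i : ℕ) := (Subgroup.mem_inf.mp (hR x.2)).2
      have hφV : φ x ∈ V := hVc.2 R (hR.trans inf_le_left) φ hφ x
      refine Subgroup.mem_inf.mpr ⟨hφV, ?_⟩
      by_cases hVi : V ≤ ucsSub S (i : ℕ)
      · exact hVi hφV
      · have hxc := small_inf_ucsSub_central hS hVS hVn hVcard (i : ℕ) hVi x hxV hxi
        by_cases hi0 : (i : ℕ) = 0
        · rw [hi0, ucsSub_zero, Subgroup.mem_bot] at hxi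
          have hx1 : x = 1 := Subtype.ext hxi
          rw [hx1, map_one]
          exact Subgroup.one_mem _
        · have hRS : R ≤ S := (hR.trans inf_le_left).trans hVS
          have hzR : Subgroup.zpowers (x : Ω) ≤ R := Subgroup.zpowers_le.mpr x.2
          have hmor : Mor F (Subgroup.zpowers (x : Ω)) (extFun R φ) := (mor_of_hom hφ).restrict hzR
          have h1 := map_central_of_small_omega hS hF hodd hP hVmem hVcard hB hxV hxc hmor
          rw [extFun_apply] at h1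
          have h2 : φ x ∈ ucsSub S 1 := mem_ucsSub_one.mpr ⟨hVS hφV, h1⟩
          exact ucsSub_mono S (Nat.one_le_iff_ne_zero.mpr hi0) h2
    · intro i
      rw [Subgroup.commutator_le]
      intro a ha b hb
      have haV : a ∈ V := (Subgroup.mem_inf.mp ha).1
      have hai : a ∈ ucsSub S ((i.succ : Fin (n + 1)) : ℕ) := (Subgroup.mem_inf.mp ha).2
      rw [Fin.val_succ] at hai
      have hbS : b ∈ S := hPS hb
      have h1 := comm_mem_ucsSub hai hbS
      have h2 : a * b * a⁻¹ * b⁻¹ ∈ V := by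
        have h3 := V.mul_mem haV (hVn b hbS a⁻¹ (V.inv_mem haV))
        have e : a * (b * a⁻¹ * b⁻¹) = a * b * a⁻¹ * b⁻¹ := by group
        rwa [e] at h3
      show ⁅a, b⁆ ∈ V ⊓ ucsSub S ((i.castSucc : Fin (n + 1)) : ℕ)
      rw [Fin.val_castSucc, commutatorElement_def]
      exact Subgroup.mem_inf.mpr ⟨h2, h1⟩
  · push Not at hB
    refine isNormal_of_chain hS hF hodd hP 1 (fun i => if (i : ℕ) = 0 then ⊥ else V) ?_ ?_ ?_ ?_
    · simp
    · simp [hom]
    · intro i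
      by_cases hi : (i : ℕ) = 0
      · simp only [hi, if_true]
        exact stronglyClosed_bot F
      · simp only [hi, if_false]
        exact hVc
    · intro i
      have hi : i = 0 := Subsingleton.elim _ _
      subst hi
      simp only [Fin.succ_zero_eq_one, Fin.castSucc_zero, Fin.val_zero, Fin.val_one,
        if_true, one_ne_zero, if_false]
      rw [Subgroup.commutator_le]
      intro a ha b hb
      rw [Subgroup.mem_bot, commutatorElement_def, hB a ha b hb]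
      group

/-- For `p` odd, a strongly closed metacyclic subgroup is normal in a saturated fusion system. -/
theorem isNormal_of_metacyclic [Finite S] {p : ℕ} [hp : Fact p.Prime] (hS : IsPGroup p S)
    (hF : F.IsSaturated p) (hodd : p ≠ 2) {P : Subgroup Ω} (hP : F.StronglyClosed P)
    (N : Subgroup P) (hN : N.Normal) (hNc : IsCyclic N) (hQc : IsCyclic (P ⧸ N)) :
    F.IsNormal P := by
  have hPS : P ≤ S := hP.1
  have : Finite P := finite_of_le hPS
  have hPp : IsPGroup p P := hS.to_le hPS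
  obtain ⟨V₀, hV₀mem, hV₀card⟩ := metacyclic_omega hodd hPp N
  refine isNormal_of_small_omega hS hF hodd hP (V := V₀.map P.subtype) ?_ ?_
  · intro x
    constructor
    · intro hx
      obtain ⟨v, hv, rfl⟩ := Subgroup.mem_map.mp hx
      refine ⟨v.2, ?_⟩
      have h1 := (hV₀mem v).mp hv
      have h2 := congrArg Subtype.val h1
      rw [Subgroup.coe_pow] at h2
      exact h2
    · rintro ⟨hxP, hxp⟩
      refine Subgroup.mem_map.mpr ⟨⟨x, hxP⟩, (hV₀mem _).mpr (Subtype.ext ?_), rfl⟩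
      rw [Subgroup.coe_pow]
      exact hxp
  · rw [Subgroup.card_map_of_injective P.subtype_injective]
    exact hV₀card

end Cfsg.Agent.Lib.Helper90
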