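import Cfsg.Agent.Lib.Helper90.NormAut

set_option autoImplicit false

namespace Cfsg.Agent.Lib.Helper90

section Metacyclic

/-- Number theory: for an odd prime `p`, if `p ^ n ∣ r ^ p - 1` with `n ≥ 1` then `p ∣ r - 1` and
`p ^ n ∣ p * (r - 1)`. -/
theorem pow_dvd_mul_sub_one {p : ℕ} [hp : Fact p.Prime] (hodd : p ≠ 2) {n : ℕ} (hn : 1 ≤ n)
    {r : ℤ} (h : (p : ℤ) ^ n ∣ r ^ p - 1) : (p : ℤ) ∣ r - 1 ∧ (p : ℤ) ^ n ∣ p * (r - 1) := by
  have hp1 : (p : ℤ) ∣ r ^ p - 1 := (dvd_pow_self (p : ℤ) (by omega)).trans h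
  have h1 : (p : ℤ) ∣ r - 1 := by
    rw [← ZMod.intCast_zmod_eq_zero_iff_dvd] at hp1 ⊢
    push_cast at hp1 ⊢
    rwa [ZMod.pow_card] at hp1
  refine ⟨h1, ?_⟩
  have hpr : ¬ (p : ℤ) ∣ r := by
    intro hr
    have h2 : (p : ℤ) ∣ 1 := by
      have h3 := dvd_sub hr h1
      simpa using h3
    have h4 := Int.natAbs_dvd_natAbs.mpr h2
    simp at h4
    exact hp.out.one_lt.ne' h4
  have hprime : Prime (p : ℤ) := Nat.prime_iff_prime_int.mp hp.out
  have hoddp : Odd p := hp.out.odd_of_ne_two hodd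
  have h5 := emultiplicity_pow_prime_sub_pow_prime hprime hoddp (x := r) (y := 1)
    (by simpa using h1) hpr
  rw [one_pow] at h5
  have h6 : (n : ℕ∞) ≤ emultiplicity (p : ℤ) (r ^ p - 1) := le_emultiplicity_of_pow_dvd h
  rw [h5] at h6
  obtain ⟨m, rfl⟩ : ∃ m, n = m + 1 := ⟨n - 1, by omega⟩
  have h7 : (m : ℕ∞) ≤ emultiplicity (p : ℤ) (r - 1) := by
    have h8 : ((m : ℕ∞) + 1) ≤ emultiplicity (p : ℤ) (r - 1) + 1 := by exact_mod_cast h6
    exact (ENat.add_le_add_iff_right ENat.one_ne_top).mp h8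
  have h9 : (p : ℤ) ^ m ∣ r - 1 := pow_dvd_of_le_emultiplicity h7
  rw [pow_succ']
  exact mul_dvd_mul_left _ h9

/-- An automorphism `σ` with `σ ^ p = 1` of a finite cyclic `p`-group, `p` odd, moves every
element by an element of order dividing `p`, and fixes the elements of order dividing `p`. -/
theorem cyclic_aut_pow_prime {N : Type*} [Group N] [Finite N] [IsCyclic N] {p : ℕ}
    [hp : Fact p.Prime] (hodd : p ≠ 2) (hN : IsPGroup p N) (σ : MulAut N) (hσ : σ ^ p = 1) :
    (∀ a : N, (a⁻¹ * σ a) ^ p = 1) ∧ ∀ w : N, w ^ p = 1 → σ w = w := by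
  obtain ⟨g, hg⟩ := IsCyclic.exists_generator (α := N)
  obtain ⟨n, hn⟩ := IsPGroup.iff_card.mp hN
  have hog : orderOf g = p ^ n := by
    rw [orderOf_eq_card_of_forall_mem_zpowers hg, hn]
  obtain ⟨r, hr⟩ := Subgroup.mem_zpowers_iff.mp (hg (σ g))
  rcases Nat.eq_zero_or_pos n with h0 | hpos
  · -- trivial group
    have hg1 : g = 1 := by
      rw [← orderOf_eq_one_iff, hog, h0, pow_zero]
    have htriv : ∀ x : N, x = 1 := by
      intro x
      obtain ⟨k, hk⟩ := Subgroup.mem_zpowers_iff.mp (hg x)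
      rw [← hk, hg1, one_zpow]
    exact ⟨fun a => htriv _, fun w _ => by rw [htriv w, map_one]⟩
  have hpow : ∀ j : ℕ, (σ ^ j) g = g ^ (r ^ j) := by
    intro j
    induction j with
    | zero => simp
    | succ j ih =>
      rw [pow_succ', MulAut.mul_apply, ih, map_zpow, ← hr, ← zpow_mul, pow_succ']
  have h1 : g ^ (r ^ p - 1) = 1 := by
    have h2 := hpow p
    rw [hσ, MulAut.one_apply] at h2
    rw [zpow_sub, zpow_one, ← h2, mul_inv_cancel]
  have h3 : ((p ^ n : ℕ) : ℤ) ∣ r ^ p - 1 := by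
    rw [← hog]
    exact orderOf_dvd_iff_zpow_eq_one.mpr h1
  have h4 : (p : ℤ) ^ n ∣ r ^ p - 1 := by exact_mod_cast h3
  obtain ⟨h5, h6⟩ := pow_dvd_mul_sub_one hodd hpos h4
  have hzero : ∀ m : ℤ, (p : ℤ) ^ n ∣ m → g ^ m = 1 := by
    intro m hm
    apply orderOf_dvd_iff_zpow_eq_one.mp
    rw [hog]
    exact_mod_cast hm
  constructor
  · intro a
    obtain ⟨k, hk⟩ := Subgroup.mem_zpowers_iff.mp (hg a)
    have h7 : a⁻¹ * σ a = g ^ (k * (r - 1)) := by
      rw [← hk, map_zpow, ← hr, ← zpow_neg, ← zpow_mul, ← zpow_add]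
      congr 1
      ring
    rw [h7, ← zpow_natCast, ← zpow_mul]
    apply hzero
    have h8 : k * (r - 1) * (p : ℤ) = k * ((p : ℤ) * (r - 1)) := by ring
    rw [h8]
    exact Dvd.dvd.mul_left h6 k
  · intro w hw
    obtain ⟨k, hk⟩ := Subgroup.mem_zpowers_iff.mp (hg w)
    have h7 : g ^ (k * (p : ℤ)) = 1 := by
      rw [zpow_mul, hk, zpow_natCast, hw]
    have h8 : (p : ℤ) ^ n ∣ k * (p : ℤ) := by
      have := orderOf_dvd_iff_zpow_eq_one.mpr h7
      rw [hog] at this
      exact_mod_cast this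
    obtain ⟨m, rfl⟩ : ∃ m, n = m + 1 := ⟨n - 1, by omega⟩
    have h9 : (p : ℤ) ^ m ∣ k := by
      rw [pow_succ] at h8
      have hp0 : (p : ℤ) ≠ 0 := by exact_mod_cast hp.out.ne_zero
      exact (mul_dvd_mul_iff_right hp0).mp h8
    have h10 : σ w = w * g ^ (k * (r - 1)) := by
      rw [← hk, map_zpow, ← hr, ← zpow_mul, ← zpow_add]
      congr 1
      ring
    rw [h10]
    have h11 : g ^ (k * (r - 1)) = 1 := by
      apply hzero
      rw [pow_succ]
      exact mul_dvd_mul h9 h5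
    rw [h11, mul_one]

/-- In a finite cyclic group at most `n` elements satisfy `a ^ n = 1`; stated for an injective
family. -/
theorem card_le_of_pow_eq_one {A : Type*} [Group A] [Finite A] [IsCyclic A] {n : ℕ} (hn : 0 < n)
    {T : Type*} (g : T → A) (hg : Function.Injective g) (h : ∀ t, g t ^ n = 1) :
    Nat.card T ≤ n := by
  classical
  have : Fintype A := Fintype.ofFinite A
  let g' : T → {a : A // a ^ n = 1} := fun t => ⟨g t, h t⟩
  have hg' : Function.Injective g' := by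
    intro t₁ t₂ h12
    exact hg (congrArg Subtype.val h12)
  have h1 : Nat.card T ≤ Nat.card {a : A // a ^ n = 1} := Nat.card_le_card_of_injective g' hg'
  have h2 : Nat.card {a : A // a ^ n = 1} ≤ n := by
    rw [Nat.card_eq_fintype_card, Fintype.card_subtype]
    exact IsCyclic.card_pow_eq_one_le hn
  exact h1.trans h2

/-- In a finite cyclic group, an element `y` with `y ^ p = 1` is a power of any element `x` of
order `p`. -/
theorem mem_zpowers_of_pow_eq_one {A : Type*} [Group A] [Finite A] [IsCyclic A] {p : ℕ}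
    [hp : Fact p.Prime] {x y : A} (hx : x ^ p = 1) (hx1 : x ≠ 1) (hy : y ^ p = 1) :
    y ∈ Subgroup.zpowers x := by
  classical
  have : Fintype A := Fintype.ofFinite A
  have hox : orderOf x = p := orderOf_eq_prime hx hx1
  have h1 : ((Subgroup.zpowers x : Set A).toFinset).card = p := by
    rw [Set.toFinset_card]
    have h2 : Fintype.card (Subgroup.zpowers x) = orderOf x := Fintype.card_zpowers
    rw [← hox, ← h2]
    exact Fintype.card_congr (Equiv.refl _)
  have h3 : (Subgroup.zpowers x : Set A).toFinset ⊆ Finset.univ.filter (fun a : A => a ^ p = 1) := by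
    intro a ha
    rw [Set.mem_toFinset] at ha
    obtain ⟨k, rfl⟩ := Subgroup.mem_zpowers_iff.mp ha
    rw [Finset.mem_filter]
    refine ⟨Finset.mem_univ _, ?_⟩
    rw [← zpow_natCast, ← zpow_mul, mul_comm, zpow_mul, zpow_natCast, hx, one_zpow]
  have h4 : (Finset.univ.filter (fun a : A => a ^ p = 1)).card ≤ p :=
    IsCyclic.card_pow_eq_one_le hp.out.pos
  have h5 := Finset.eq_of_subset_of_card_le h3 (h1 ▸ h4)
  have h6 : y ∈ Finset.univ.filter (fun a : A => a ^ p = 1) := by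
    rw [Finset.mem_filter]
    exact ⟨Finset.mem_univ _, hy⟩
  rw [← h5, Set.mem_toFinset] at h6
  exact h6

/-- In a finite metacyclic `p`-group, `p` odd, the elements `x` with `x ^ p = 1` form a subgroup
of order at most `p ^ 2`. -/
theorem metacyclic_omega {P : Type*} [Group P] [Finite P] {p : ℕ} [hp : Fact p.Prime]
    (hodd : p ≠ 2) (hP : IsPGroup p P) (N : Subgroup P) [N.Normal] [IsCyclic N]
    [IsCyclic (P ⧸ N)] :
    ∃ V : Subgroup P, (∀ x, x ∈ V ↔ x ^ p = 1) ∧ Nat.card V ≤ p ^ 2 := by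
  classical
  have hNp : IsPGroup p N := hP.to_subgroup N
  have hNcomm : ∀ a b : N, a * b = b * a :=
    fun a b => (IsCyclic.isMulCommutative (α := N)).is_comm.comm a b
  have hQcomm : ∀ a b : P ⧸ N, a * b = b * a :=
    fun a b => (IsCyclic.isMulCommutative (α := P ⧸ N)).is_comm.comm a b
  -- conjugation by `x` with `x ^ p ∈ N` is an automorphism of `N` of order dividing `p`
  have hconj : ∀ x : P, x ^ p ∈ N → (MulAut.conjNormal x : MulAut N) ^ p = 1 := by
    intro x hx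
    rw [← map_pow]
    refine MulEquiv.ext fun a => Subtype.ext ?_
    rw [MulAut.conjNormal_apply]
    have h1 := hNcomm ⟨x ^ p, hx⟩ a
    have h2 : x ^ p * (a : P) = (a : P) * x ^ p := congrArg Subtype.val h1
    rw [h2, mul_assoc, mul_inv_cancel, mul_one]
    rfl
  have hkey1 : ∀ x : P, x ^ p ∈ N → ∀ a ∈ N, (a⁻¹ * (x * a * x⁻¹)) ^ p = 1 := by
    intro x hx a ha
    have h1 := (cyclic_aut_pow_prime hodd hNp _ (hconj x hx)).1 ⟨a, ha⟩
    have h2 := congrArg Subtype.val h1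
    rw [Subgroup.coe_pow, Subgroup.coe_mul, Subgroup.coe_inv, MulAut.conjNormal_apply] at h2
    exact h2
  have hkey2 : ∀ x : P, x ^ p ∈ N → ∀ w ∈ N, w ^ p = 1 → x * w * x⁻¹ = w := by
    intro x hx w hw hwp
    have h1 := (cyclic_aut_pow_prime hodd hNp _ (hconj x hx)).2 ⟨w, hw⟩
      (Subtype.ext (by rw [Subgroup.coe_pow]; exact hwp))
    have h2 := congrArg Subtype.val h1
    rw [MulAut.conjNormal_apply] at h2
    exact h2
  -- the commutator of two elements whose `p`-th powers lie in `N`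
  have hcomm : ∀ x y : P, x ^ p ∈ N → y ^ p ∈ N →
      y * x * y⁻¹ * x⁻¹ ∈ N ∧ (y * x * y⁻¹ * x⁻¹) ^ p = 1 := by
    intro x y hx hy
    have hN : ∀ g a : P, a ∈ N → g * a * g⁻¹ ∈ N := fun g a ha =>
      (inferInstance : N.Normal).conj_mem a ha g
    by_cases hyN : y ∈ N
    · have h1 := hkey1 x hx y⁻¹ (N.inv_mem hyN)
      have e : y⁻¹⁻¹ * (x * y⁻¹ * x⁻¹) = y * x * y⁻¹ * x⁻¹ := by group
      rw [e] at h1
      refine ⟨?_, h1⟩
      rw [← e]
      exact N.mul_mem (N.inv_mem (N.inv_mem hyN)) (hN x _ (N.inv_mem hyN))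
    by_cases hxN : x ∈ N
    · have h1 := hkey1 y hy x hxN
      have h2 := hNcomm ⟨x⁻¹, N.inv_mem hxN⟩ ⟨y * x * y⁻¹, hN y x hxN⟩
      have h3 : x⁻¹ * (y * x * y⁻¹) = y * x * y⁻¹ * x⁻¹ := congrArg Subtype.val h2
      rw [h3] at h1
      refine ⟨?_, h1⟩
      exact N.mul_mem (hN y x hxN) (N.inv_mem hxN)
    · -- `y = b * x ^ i`
      have hx1 : ((x : P ⧸ N)) ^ p = 1 := by
        rw [← QuotientGroup.mk_pow]
        exact (QuotientGroup.eq_one_iff _).mpr hx
      have hy1 : ((y : P ⧸ N)) ^ p = 1 := by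
        rw [← QuotientGroup.mk_pow]
        exact (QuotientGroup.eq_one_iff _).mpr hy
      have hxne : (x : P ⧸ N) ≠ 1 := fun h => hxN ((QuotientGroup.eq_one_iff _).mp h)
      obtain ⟨i, hi⟩ := Subgroup.mem_zpowers_iff.mp (mem_zpowers_of_pow_eq_one hx1 hxne hy1)
      have hb : y * (x ^ i)⁻¹ ∈ N := by
        apply (QuotientGroup.eq_one_iff _).mp
        rw [QuotientGroup.mk_mul, QuotientGroup.mk_inv, QuotientGroup.mk_zpow, hi, mul_inv_cancel]
      obtain ⟨b, hbdef⟩ : ∃ b : P, b = y * (x ^ i)⁻¹ := ⟨_, rfl⟩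
      have hbN : b ∈ N := hbdef ▸ hb
      have hyb : y = b * x ^ i := by rw [hbdef]; group
      have h1 := hkey1 x hx b⁻¹ (N.inv_mem hbN)
      have hcx : x ^ i * x * (x ^ i)⁻¹ = x := by
        have : x ^ i * x = x * x ^ i := ((Commute.refl x).zpow_left i).eq
        rw [this, mul_assoc, mul_inv_cancel, mul_one]
      have e : b⁻¹⁻¹ * (x * b⁻¹ * x⁻¹) = y * x * y⁻¹ * x⁻¹ := by
        rw [hyb, mul_inv_rev]
        calc b⁻¹⁻¹ * (x * b⁻¹ * x⁻¹) = b * (x ^ i * x * (x ^ i)⁻¹) * b⁻¹ * x⁻¹ := by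
              rw [hcx]; group
          _ = b * x ^ i * x * ((x ^ i)⁻¹ * b⁻¹) * x⁻¹ := by group
      rw [e] at h1
      refine ⟨?_, h1⟩
      rw [← e]
      exact N.mul_mem (N.inv_mem (N.inv_mem hbN)) (hN x _ (N.inv_mem hbN))
  have h2p : 2 < p := by
    have := hp.out.two_le
    omega
  have hchoose : p ∣ p.choose 2 := hp.out.dvd_choose_self (by norm_num) h2p
  let V : Subgroup P :=
    { carrier := {x | x ^ p = 1}
      mul_mem' := by
        intro x y hx hy
        have hx' : x ^ p = 1 := hx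
        have hy' : y ^ p = 1 := hy
        have hxN : x ^ p ∈ N := by rw [hx']; exact N.one_mem
        have hyN : y ^ p ∈ N := by rw [hy']; exact N.one_mem
        obtain ⟨hcN, hcp⟩ := hcomm x y hxN hyN
        have hc : y * x = (y * x * y⁻¹ * x⁻¹) * x * y := by group
        have hcx : Commute (y * x * y⁻¹ * x⁻¹) x := by
          have h1 := hkey2 x hxN _ hcN hcp
          show (y * x * y⁻¹ * x⁻¹) * x = x * (y * x * y⁻¹ * x⁻¹)
          have h2 : x * (y * x * y⁻¹ * x⁻¹) = x * (y * x * y⁻¹ * x⁻¹) * x⁻¹ * x := by group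
          rw [h2, h1]
        have hcy : Commute (y * x * y⁻¹ * x⁻¹) y := by
          have h1 := hkey2 y hyN _ hcN hcp
          show (y * x * y⁻¹ * x⁻¹) * y = y * (y * x * y⁻¹ * x⁻¹)
          have h2 : y * (y * x * y⁻¹ * x⁻¹) = y * (y * x * y⁻¹ * x⁻¹) * y⁻¹ * y := by group
          rw [h2, h1]
        show (x * y) ^ p = 1
        rw [mul_pow_of_central hc hcx hcy p, hx', hy']
        obtain ⟨m, hm⟩ := hchoose
        rw [hm, pow_mul, hcp, one_pow, mul_one, mul_one]
      one_mem' := one_pow p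
      inv_mem' := by
        intro x hx
        have hx' : x ^ p = 1 := hx
        show x⁻¹ ^ p = 1
        rw [inv_pow, hx', inv_one] }
  have hVmem : ∀ x, x ∈ V ↔ x ^ p = 1 := fun x => Iff.rfl
  refine ⟨V, hVmem, ?_⟩
  -- the order of `V`
  let f : V →* P ⧸ N := (QuotientGroup.mk' N).comp V.subtype
  have h1 : Nat.card f.ker * f.ker.index = Nat.card V := Subgroup.card_mul_index f.ker
  have h2 : f.ker.index = Nat.card f.range := Subgroup.index_ker f
  have h3 : Nat.card f.ker ≤ p := by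
    have hmem : ∀ v : f.ker, ((v : V) : P) ∈ N := by
      intro v
      have h4 : f (v : V) = 1 := v.2
      exact (QuotientGroup.eq_one_iff _).mp h4
    refine card_le_of_pow_eq_one (A := N) hp.out.pos
      (fun v : f.ker => (⟨((v : V) : P), hmem v⟩ : N)) ?_ ?_
    · intro v₁ v₂ h12
      have h12' : (⟨((v₁ : V) : P), hmem v₁⟩ : N) = ⟨((v₂ : V) : P), hmem v₂⟩ := h12
      have h5 : ((v₁ : V) : P) = ((v₂ : V) : P) := Subtype.mk.inj h12'
      exact Subtype.ext (Subtype.ext h5)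
    · intro v
      apply Subtype.ext
      rw [Subgroup.coe_pow]
      exact (hVmem _).mp (v : V).2
  have h4 : Nat.card f.range ≤ p := by
    refine card_le_of_pow_eq_one (A := P ⧸ N) hp.out.pos
      (fun u : f.range => (u : P ⧸ N)) Subtype.val_injective ?_
    rintro ⟨u, v, rfl⟩
    show f v ^ p = 1
    rw [← map_pow]
    have h5 : v ^ p = 1 := Subtype.ext (by rw [Subgroup.coe_pow]; exact (hVmem _).mp v.2)
    rw [h5, map_one]
  rw [← h1, h2, pow_two]
  exact Nat.mul_le_mul h3 h4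

end Metacyclic

end Cfsg.Agent.Lib.Helper90
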