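import Cfsg.Agent.Lib.Helper90.Metacyclic

set_option autoImplicit false

namespace Cfsg.Agent.Lib.Helper90

section NegOne

/-- Two "transvections" `τ`, `τ'` with different centres `z`, `y` generate a group containing an
automorphism inverting both `y` and `z` (the element `-1` of `SL₂(p)`). -/
theorem exists_aut_inv_of_transvections {V : Type*} [Group V] (τ τ' : MulAut V) (y : V)
    (hτ'y : τ' y = y) (hz : τ (y⁻¹ * τ y) = y⁻¹ * τ y)
    (hyz : y * (y⁻¹ * τ y) = (y⁻¹ * τ y) * y)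
    (hy₁ : τ' ((y⁻¹ * τ y)⁻¹ * τ' (y⁻¹ * τ y)) = (y⁻¹ * τ y)⁻¹ * τ' (y⁻¹ * τ y))
    (j : ℕ) (hj : ((y⁻¹ * τ y)⁻¹ * τ' (y⁻¹ * τ y)) ^ j = y⁻¹) :
    ∃ β ∈ Subgroup.closure ({τ, τ'} : Set (MulAut V)),
      β y = y⁻¹ ∧ β (y⁻¹ * τ y) = (y⁻¹ * τ y)⁻¹ := by
  obtain ⟨z, hzdef⟩ : ∃ z : V, z = y⁻¹ * τ y := ⟨_, rfl⟩
  rw [← hzdef] at hz hyz hy₁ hj ⊢
  obtain ⟨y₁, hy₁def⟩ : ∃ y₁ : V, y₁ = z⁻¹ * τ' z := ⟨_, rfl⟩
  rw [← hy₁def] at hy₁ hj
  have hτy : τ y = y * z := by rw [hzdef]; group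
  have hτ'z : τ' z = z * y₁ := by rw [hy₁def]; group
  have hl : ∀ k : ℕ, (τ' ^ k) y = y ∧ (τ' ^ k) z = z * y₁ ^ k := by
    intro k
    induction k with
    | zero => simp
    | succ k ih =>
      rw [pow_succ', MulAut.mul_apply, MulAut.mul_apply, ih.1, ih.2, hτ'y, map_mul, map_pow,
        hτ'z, hy₁]
      exact ⟨rfl, by rw [pow_succ']; group⟩
  obtain ⟨hly, hlz⟩ := hl j
  rw [hj] at hlz
  obtain ⟨w, hw⟩ : ∃ w : MulAut V, w = τ * τ' ^ j * τ := ⟨_, rfl⟩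
  have hwz : w z = y⁻¹ := by
    rw [hw]
    show τ ((τ' ^ j) (τ z)) = y⁻¹
    rw [hz, hlz, map_mul, map_inv, hz, hτy]
    group
  have hwy : w y = z := by
    rw [hw]
    show τ ((τ' ^ j) (τ y)) = z
    rw [hτy, map_mul, hly, hlz, map_mul, map_mul, map_inv, hτy, hz]
    have h1 : y * z * (z * (y * z)⁻¹) = y * z * y⁻¹ := by group
    rw [h1, hyz]
    group
  have hτm : τ ∈ Subgroup.closure ({τ, τ'} : Set (MulAut V)) :=
    Subgroup.subset_closure (Set.mem_insert _ _)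
  have hτ'm : τ' ∈ Subgroup.closure ({τ, τ'} : Set (MulAut V)) :=
    Subgroup.subset_closure (Set.mem_insert_of_mem _ rfl)
  have hwm : w ∈ Subgroup.closure ({τ, τ'} : Set (MulAut V)) := by
    rw [hw]
    exact Subgroup.mul_mem _ (Subgroup.mul_mem _ hτm (Subgroup.pow_mem _ hτ'm j)) hτm
  refine ⟨w * w, Subgroup.mul_mem _ hwm hwm, ?_, ?_⟩
  · show w (w y) = y⁻¹
    rw [hwy, hwz]
  · show w (w z) = z⁻¹
    rw [hwz, map_inv, hwy]

/-- An automorphism of `2`-power order of a group of odd order that preserves the cosets of a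
subgroup `C` has a fixed point in every coset of `C`. -/
theorem exists_fixed_in_coset {P : Type*} [Group P] [Finite P] (hodd : Odd (Nat.card P))
    (C : Subgroup P) (α : MulAut P) (k : ℕ) (hα : α ^ (2 ^ k) = 1)
    (hC : ∀ x : P, x⁻¹ * α x ∈ C) (s : P) : ∃ x : P, s⁻¹ * x ∈ C ∧ α x = x := by
  classical
  have hiff : ∀ x : P, s⁻¹ * (MulAut.toPerm P α) x ∈ C ↔ s⁻¹ * x ∈ C := by
    intro x
    have e : s⁻¹ * α x = (s⁻¹ * x) * (x⁻¹ * α x) := by group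
    show s⁻¹ * α x ∈ C ↔ _
    rw [e]
    exact C.mul_mem_cancel_right (hC x)
  obtain ⟨σ, hσdef⟩ : ∃ σ : Equiv.Perm {x : P // s⁻¹ * x ∈ C},
      σ = (MulAut.toPerm P α).subtypePerm hiff := ⟨_, rfl⟩
  have hσapp : ∀ x, ((σ x : {x : P // s⁻¹ * x ∈ C}) : P) = α x.1 := by
    intro x
    rw [hσdef]
    rfl
  have hσpow : ∀ (n : ℕ) (x : {x : P // s⁻¹ * x ∈ C}), (((σ ^ n) x : _) : P) = (α ^ n) x.1 := by
    intro n
    induction n with
    | zero => intro x; rfl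
    | succ n ih =>
      intro x
      rw [pow_succ', pow_succ', Equiv.Perm.mul_apply, MulAut.mul_apply, hσapp, ih]
  have hσ : σ ^ 2 ^ k = 1 := by
    refine Equiv.ext fun x => Subtype.ext ?_
    rw [hσpow, hα]
    rfl
  have : Fintype {x : P // s⁻¹ * x ∈ C} := Fintype.ofFinite _
  have hcard : ¬ 2 ∣ Fintype.card {x : P // s⁻¹ * x ∈ C} := by
    have e : {x : P // s⁻¹ * x ∈ C} ≃ C :=
      { toFun := fun x => ⟨s⁻¹ * x.1, x.2⟩
        invFun := fun c => ⟨s * c.1, by rw [inv_mul_cancel_left]; exact c.2⟩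
        left_inv := fun x => Subtype.ext (by simp)
        right_inv := fun c => Subtype.ext (by simp) }
    rw [← Nat.card_eq_fintype_card, Nat.card_congr e]
    have h1 : Nat.card C ∣ Nat.card P := Subgroup.card_subgroup_dvd_card C
    have h2 : Odd (Nat.card C) := Odd.of_dvd_nat hodd h1
    exact fun h => (Nat.not_even_iff_odd.mpr h2) (even_iff_two_dvd.mpr h)
  obtain ⟨a, ha⟩ := Equiv.Perm.exists_fixed_point_of_prime (p := 2) hcard hσ
  refine ⟨a.1, a.2, ?_⟩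
  rw [← hσapp a, ha]

end NegOne

end Cfsg.Agent.Lib.Helper90
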