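import Cfsg.Agent.Lib.Helper90.BGHSel

set_option autoImplicit false

namespace Cfsg.Agent.Lib.Helper90

open Cfsg Cfsg.FusionSystem

open scoped commutatorElement

variable {Ω : Type*} [Group Ω] {S : Subgroup Ω} {F : FusionSystem S} {P Q : Subgroup Ω}
  {f g : Ω → Ω}

/-- The `i`-th term of the upper central series of `S`, as a subgroup of the ambient group. -/
def ucsSub (S : Subgroup Ω) (i : ℕ) : Subgroup Ω := (Subgroup.upperCentralSeries S i).map S.subtype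

theorem ucsSub_le (S : Subgroup Ω) (i : ℕ) : ucsSub S i ≤ S := Subgroup.map_subtype_le _

theorem mem_ucsSub {i : ℕ} {x : Ω} :
    x ∈ ucsSub S i ↔ ∃ h : x ∈ S, (⟨x, h⟩ : S) ∈ Subgroup.upperCentralSeries S i := by
  unfold ucsSub
  constructor
  · rintro ⟨y, hy, rfl⟩
    exact ⟨y.2, hy⟩
  · rintro ⟨h, hx⟩
    exact ⟨⟨x, h⟩, hx, rfl⟩

theorem ucsSub_zero (S : Subgroup Ω) : ucsSub S 0 = ⊥ := by
  unfold ucsSub
  rw [Subgroup.upperCentralSeries_zero, Subgroup.map_bot]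

theorem ucsSub_mono (S : Subgroup Ω) {i j : ℕ} (h : i ≤ j) : ucsSub S i ≤ ucsSub S j :=
  Subgroup.map_mono (Subgroup.upperCentralSeries_mono _ h)

theorem comm_mem_ucsSub {i : ℕ} {x s : Ω} (hx : x ∈ ucsSub S (i + 1)) (hs : s ∈ S) :
    x * s * x⁻¹ * s⁻¹ ∈ ucsSub S i := by
  obtain ⟨h, hx'⟩ := mem_ucsSub.mp hx
  have h1 := (Subgroup.mem_upperCentralSeries_succ_iff.mp hx') ⟨s, hs⟩
  exact mem_ucsSub.mpr ⟨S.mul_mem (S.mul_mem (S.mul_mem h hs) (S.inv_mem h)) (S.inv_mem hs), h1⟩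

theorem exists_ucsSub_eq [Finite S] {p : ℕ} [Fact p.Prime] (hS : IsPGroup p S) :
    ∃ n, ucsSub S n = S := by
  have hnil : Group.IsNilpotent S := hS.isNilpotent
  obtain ⟨n, hn⟩ := hnil.nilpotent'
  refine ⟨n, ?_⟩
  unfold ucsSub
  rw [hn, ← MonoidHom.range_eq_map, Subgroup.range_subtype]

/-- Automorphisms of `S` in the system preserve the upper central series. -/
theorem Mor.map_ucsSub [Finite S] (hf : Mor F S f) (hfS : ∀ x ∈ S, f x ∈ S) {i : ℕ} {x : Ω}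
    (hx : x ∈ ucsSub S i) : f x ∈ ucsSub S i := by
  obtain ⟨α, -, hα⟩ := exists_aut_of_mor hf hfS
  obtain ⟨h, hx'⟩ := mem_ucsSub.mp hx
  have hchar : (Subgroup.upperCentralSeries S i).Characteristic := inferInstance
  have h1 : α ⟨x, h⟩ ∈ Subgroup.upperCentralSeries S i := by
    have h2 := Subgroup.characteristic_iff_map_le.mp hchar α
    exact h2 ⟨⟨x, h⟩, hx', rfl⟩
  rw [← hα ⟨x, h⟩]
  exact mem_ucsSub.mpr ⟨(α ⟨x, h⟩).2, h1⟩

/-- If a subgroup `D` of `P` is invariant under `Aut_F(P)`, detects the elements of `Aut_F(P)` of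
order prime to `p`, and every `F`-automorphism of `P` agrees on each element of `D` with an
`F`-automorphism of `S`, then `Aut_S(P)` is normal in `Aut_F(P)` when `P` is fully automized. -/
theorem autInducedBy_normal_of_chain [Finite S] {p : ℕ} [Fact p.Prime] (hS : IsPGroup p S)
    {P D : Subgroup Ω} (hfa : F.IsFullyAutomized p P) (_hDP : D ≤ P)
    (hDinv : ∀ f : Ω → Ω, Mor F P f → (∀ x ∈ P, f x ∈ P) → ∀ x ∈ D, f x ∈ D)
    (hDfaith : ∀ c : MulAut P, c ∈ F.autGroup P → Nat.Coprime (orderOf c) p →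
        (∀ x : P, (x : Ω) ∈ D → c x = x) → c = 1)
    (hext : ∀ f : Ω → Ω, Mor F P f → (∀ x ∈ P, f x ∈ P) → ∀ x ∈ D,
      ∃ σ : Ω → Ω, Mor F S σ ∧ (∀ y ∈ S, σ y ∈ S) ∧ σ x = f x) :
    ∀ α ∈ F.autGroup P, ∀ τ ∈ autInducedBy S P, α * τ * α⁻¹ ∈ autInducedBy S P := by
  have hP : P ≤ S := hfa.1
  have : Finite P := finite_of_le hP
  have hPp : IsPGroup p P := hS.to_le hP
  -- the chain
  obtain ⟨C, hC⟩ : ∃ C : ℕ → Subgroup P, C = fun i => (D ⊓ ucsSub S i).subgroupOf P := ⟨_, rfl⟩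
  have hCmem : ∀ (i : ℕ) (x : P), x ∈ C i ↔ (x : Ω) ∈ D ∧ (x : Ω) ∈ ucsSub S i := by
    intro i x
    rw [hC]
    exact Subgroup.mem_subgroupOf.trans Subgroup.mem_inf
  have hC0 : ∀ x ∈ C 0, x = 1 := by
    intro x hx
    rw [hCmem, ucsSub_zero, Subgroup.mem_bot] at hx
    exact Subtype.ext hx.2
  obtain ⟨n, hn⟩ := exists_ucsSub_eq hS
  have hCn : ∀ x : P, (x : Ω) ∈ D → x ∈ C n := by
    intro x hx
    rw [hCmem, hn]
    exact ⟨hx, hP x.2⟩
  have hCinv : ∀ α : MulAut P, α ∈ F.autGroup P → ∀ (i : ℕ) (x : P), x ∈ C i → α x ∈ C i := by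
    intro α hα i x hx
    have hαF : Mor F P (autFun P α) := (mem_autGroup_iff F hP α).mp hα
    have hαP : ∀ y ∈ P, autFun P α y ∈ P := fun y hy => autFun_mem α hy
    rw [hCmem] at hx ⊢
    have h1 := hDinv _ hαF hαP x hx.1
    rw [autFun_apply] at h1
    refine ⟨h1, ?_⟩
    obtain ⟨σ, hσ, hσS, hσx⟩ := hext _ hαF hαP x hx.1
    rw [autFun_apply] at hσx
    rw [← hσx]
    exact hσ.map_ucsSub hσS hx.2
  -- the stabilizer of the chain
  let K : Subgroup (MulAut P) :=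
    { carrier := {κ | κ ∈ F.autGroup P ∧ ∀ (i : ℕ) (x : P), x ∈ C (i + 1) →
        x⁻¹ * κ x ∈ C i ∧ x⁻¹ * κ⁻¹ x ∈ C i}
      mul_mem' := by
        rintro κ₁ κ₂ ⟨h1, h1'⟩ ⟨h2, h2'⟩
        refine ⟨(F.autGroup P).mul_mem h1 h2, fun i x hx => ⟨?_, ?_⟩⟩
        · have h3 : κ₂ x ∈ C (i + 1) := hCinv κ₂ h2 _ x hx
          have h4 : x⁻¹ * (κ₁ * κ₂) x = (x⁻¹ * κ₂ x) * ((κ₂ x)⁻¹ * κ₁ (κ₂ x)) := by
            rw [MulAut.mul_apply]; group
          rw [h4]
          exact (C i).mul_mem (h2' i x hx).1 (h1' i _ h3).1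
        · have h3 : κ₁⁻¹ x ∈ C (i + 1) := hCinv κ₁⁻¹ ((F.autGroup P).inv_mem h1) _ x hx
          have h4 : x⁻¹ * (κ₁ * κ₂)⁻¹ x = (x⁻¹ * κ₁⁻¹ x) * ((κ₁⁻¹ x)⁻¹ * κ₂⁻¹ (κ₁⁻¹ x)) := by
            rw [mul_inv_rev, MulAut.mul_apply]; group
          rw [h4]
          exact (C i).mul_mem (h1' i x hx).2 (h2' i _ h3).2
      one_mem' := by
        refine ⟨(F.autGroup P).one_mem, fun i x _ => ?_⟩
        rw [inv_one, MulAut.one_apply, inv_mul_cancel]
        exact ⟨(C i).one_mem, (C i).one_mem⟩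
      inv_mem' := by
        rintro κ ⟨h1, h1'⟩
        refine ⟨(F.autGroup P).inv_mem h1, fun i x hx => ?_⟩
        rw [inv_inv]
        exact ⟨(h1' i x hx).2, (h1' i x hx).1⟩ }
  have hKmem : ∀ κ, κ ∈ K ↔ κ ∈ F.autGroup P ∧ ∀ (i : ℕ) (x : P), x ∈ C (i + 1) →
        x⁻¹ * κ x ∈ C i ∧ x⁻¹ * κ⁻¹ x ∈ C i := fun κ => Iff.rfl
  -- `K` is a `p`-group
  have hKp : IsPGroup p K := by
    apply isPGroup_of_coprime_trivial
    intro g hg
    have h1 : orderOf (g : MulAut P) = orderOf g := Subgroup.orderOf_coe g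
    have hcop : Nat.Coprime (orderOf (g : MulAut P)) p := h1 ▸ hg
    have hfix : ∀ (i : ℕ) (x : P), x ∈ C i → (g : MulAut P) x = x := by
      intro i
      induction i with
      | zero =>
        intro x hx
        rw [hC0 x hx, map_one]
      | succ i ih =>
        intro x hx
        have hz := (g.2.2 i x hx).1
        obtain ⟨k, hk⟩ := hPp (x⁻¹ * (g : MulAut P) x)
        exact aut_fix_of_fix_comm (g : MulAut P) hcop x (ih _ hz)
          (by rw [pow_orderOf_eq_one]; rfl) hk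
    have h2 := hDfaith (g : MulAut P) g.2.1 hcop (fun x hx => hfix n x (hCn x hx))
    exact Subtype.ext h2
  -- `K` is normal in `Aut_F(P)`
  have hconj : ∀ α ∈ F.autGroup P, ∀ κ : MulAut P,
      (∀ (i : ℕ) (x : P), x ∈ C (i + 1) → x⁻¹ * κ x ∈ C i) →
      ∀ (i : ℕ) (x : P), x ∈ C (i + 1) → x⁻¹ * (α * κ * α⁻¹) x ∈ C i := by
    intro α hα κ hκ i x hx
    have h1 : α⁻¹ x ∈ C (i + 1) := hCinv α⁻¹ ((F.autGroup P).inv_mem hα) _ x hx
    have h2 := hCinv α hα _ _ (hκ i _ h1)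
    have h3 : α ((α⁻¹ x)⁻¹ * κ (α⁻¹ x)) = x⁻¹ * (α * κ * α⁻¹) x := by
      rw [map_mul, map_inv, MulAut.apply_inv_self, MulAut.mul_apply, MulAut.mul_apply]
    rwa [h3] at h2
  have hKn : ∀ α ∈ F.autGroup P, ∀ κ ∈ K, α * κ * α⁻¹ ∈ K := by
    intro α hα κ hκ
    refine ⟨(F.autGroup P).mul_mem ((F.autGroup P).mul_mem hα hκ.1) ((F.autGroup P).inv_mem hα),
      fun i x hx => ⟨?_, ?_⟩⟩
    · exact hconj α hα κ (fun i x hx => (hκ.2 i x hx).1) i x hx
    · have h1 : (α * κ * α⁻¹)⁻¹ = α * κ⁻¹ * α⁻¹ := by group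
      rw [h1]
      exact hconj α hα κ⁻¹ (fun i x hx => (hκ.2 i x hx).2) i x hx
  have hKT : K ≤ autInducedBy S P :=
    normal_pSubgroup_le_autInducedBy hfa K hKp (fun κ hκ => hκ.1) hKn
  -- `Aut_S(P) ≤ K`
  have hT1 : ∀ τ ∈ autInducedBy S P, ∀ (i : ℕ) (x : P), x ∈ C (i + 1) → x⁻¹ * τ x ∈ C i := by
    intro τ hτ i x hx
    have hτΓ : τ ∈ F.autGroup P := autInducedBy_le_autGroup F hP hτ
    obtain ⟨s, hs, hτs⟩ := (mem_autInducedBy_iff S P τ).mp hτ
    have h1 : τ x ∈ C (i + 1) := hCinv τ hτΓ _ x hx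
    rw [hCmem] at hx h1 ⊢
    refine ⟨D.mul_mem (D.inv_mem hx.1) h1.1, ?_⟩
    have h2 : ((x⁻¹ * τ x : P) : Ω) = (x : Ω)⁻¹ * s * ((x : Ω)⁻¹)⁻¹ * s⁻¹ := by
      rw [inv_inv]
      show (x : Ω)⁻¹ * ((τ x : P) : Ω) = _
      rw [hτs]
      group
    rw [h2]
    exact comm_mem_ucsSub (Subgroup.inv_mem _ hx.2) hs
  have hTK : autInducedBy S P ≤ K := by
    intro τ hτ
    refine ⟨autInducedBy_le_autGroup F hP hτ, fun i x hx => ⟨hT1 τ hτ i x hx, ?_⟩⟩
    exact hT1 τ⁻¹ (Subgroup.inv_mem _ hτ) i x hx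
  intro α hα τ hτ
  exact hKT (hKn α hα τ (hTK hτ))

/-- If `Aut_S(P)` is normal in `Aut_F(P)`, the extender of every automorphism is `N_S(P)`. -/
theorem normalizerIn_le_extFn_of_normal [Finite S] (hP : P ≤ S) (hf : Mor F P f)
    (hfP : ∀ x ∈ P, f x ∈ P)
    (hnorm : ∀ α ∈ F.autGroup P, ∀ τ ∈ autInducedBy S P, α * τ * α⁻¹ ∈ autInducedBy S P) :
    normalizerIn S P ≤ extFn S P f := by
  have : Finite P := finite_of_le hP
  intro a ha
  rw [hf.mem_extFn]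
  refine ⟨ha.1, ha.2, ?_⟩
  obtain ⟨α, hα, hαf⟩ := exists_aut_of_mor hf hfP
  obtain ⟨τ, -, hτa⟩ := exists_aut_of_mor (mor_conj F hP ha.1)
    (fun x hx => conj_mem_of_mem_normalizer ha.2 hx)
  have hτT : τ ∈ autInducedBy S P := (mem_autInducedBy_iff S P τ).mpr ⟨a, ha.1, hτa⟩
  obtain ⟨b, hb, hbα⟩ := (mem_autInducedBy_iff S P _).mp (hnorm α hα τ hτT)
  refine ⟨b, hb, fun x hx => ?_⟩
  have h1 := hbα (α ⟨x, hx⟩)
  rw [MulAut.mul_apply, MulAut.mul_apply, MulAut.inv_apply_self, hαf, hαf, hτa] at h1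
  exact h1

/-- If the `F`-maps between the cyclic subgroups of order `p` or `4` of the hyperfocal subgroup
all extend to `F`-automorphisms of `S`, then `S` is normal in `F`. -/
theorem isNormal_top_of_cyclic [Finite S] (p : ℕ) [Fact p.Prime] (hS : IsPGroup p S)
    (F : FusionSystem S) (hF : F.IsSaturated p)
    (h : ∀ A B : Subgroup Ω, A ≤ (F.hyperfocalSubgroup p) → B ≤ (F.hyperfocalSubgroup p) →
      IsCyclic ↥A → (Nat.card ↥A = p ∨ Nat.card ↥A = 4) → IsCyclic ↥B →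
      (Nat.card ↥B = p ∨ Nat.card ↥B = 4) → F.homSet A B ⊆ F.normalizerHom S A) :
    F.IsNormal S := by
  apply isNormal_of_extQ le_rfl
  apply extQ_of_alperin hS hF le_rfl
  intro P hfa hrec prem f hf hfP
  have hP : P ≤ S := hfa.1
  rcases eq_or_lt_of_le hP with heq | hlt
  · exact extQ_of_le (le_of_eq heq.symm) hf (fun x hx => hf.mem (by rw [heq]; exact hx))
  · obtain ⟨D, hDP, hDhyp, hDinv, hDexp, hDfaith⟩ := exists_crit_sub hS F hP
    have hord : ∀ y ∈ D, y ≠ 1 →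
        Nat.card (Subgroup.zpowers y) = p ∨ Nat.card (Subgroup.zpowers y) = 4 := by
      intro y hy hy1
      rw [Nat.card_zpowers]
      rcases hDexp y hy with h1 | ⟨h2, h4⟩
      · left
        exact orderOf_eq_prime h1 hy1
      · have hd : orderOf y ∣ 2 ^ 2 := orderOf_dvd_of_pow_eq_one (by norm_num; exact h4)
        obtain ⟨k, hk, hk'⟩ := (Nat.dvd_prime_pow Nat.prime_two).mp hd
        interval_cases k
        · exfalso
          exact hy1 (orderOf_eq_one_iff.mp (by simpa using hk'))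
        · left
          rw [hk', h2]
          norm_num
        · right
          rw [hk']
          norm_num
    have hext : ∀ f : Ω → Ω, Mor F P f → (∀ x ∈ P, f x ∈ P) → ∀ x ∈ D,
        ∃ σ : Ω → Ω, Mor F S σ ∧ (∀ y ∈ S, σ y ∈ S) ∧ σ x = f x := by
      intro f₁ hf₁ hf₁P x hx
      by_cases hx1 : x = 1
      · exact ⟨id, mor_id F le_rfl, fun y hy => hy, by rw [hx1, hf₁.map_one]; rfl⟩
      · have hxP : x ∈ P := hDP hx
        have hfx1 : f₁ x ≠ 1 := by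
          intro h0
          apply hx1
          exact hf₁.inj hxP P.one_mem (by rw [h0, hf₁.map_one])
        have hfxD : f₁ x ∈ D := hDinv f₁ hf₁ hf₁P x hx
        have hAP : Subgroup.zpowers x ≤ P := Subgroup.zpowers_le.mpr hxP
        obtain ⟨φ, hφ, hφf⟩ := hf₁.restrict hAP
        have hφB : ∀ a : Subgroup.zpowers x, φ a ∈ Subgroup.zpowers (f₁ x) := by
          intro a
          obtain ⟨k, hk⟩ := Subgroup.mem_zpowers_iff.mp a.2
          have h1 : a = (⟨x, Subgroup.mem_zpowers x⟩ : Subgroup.zpowers x) ^ k :=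
            Subtype.ext (by rw [← hk]; rfl)
          rw [h1, map_zpow, hφf]
          exact Subgroup.zpow_mem_zpowers _ _
        have h2 := h (Subgroup.zpowers x) (Subgroup.zpowers (f₁ x))
          (Subgroup.zpowers_le.mpr (hDhyp hx)) (Subgroup.zpowers_le.mpr (hDhyp hfxD))
          inferInstance (hord x hx hx1) inferInstance (hord _ hfxD hfx1) ⟨hφ, hφB⟩
        obtain ⟨-, -, -, ψ, hψ, hψext, hψS⟩ := h2
        refine ⟨extFun _ ψ, (mor_of_hom hψ).restrict le_sup_right, ?_, ?_⟩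
        · intro y hy
          rw [extFun_apply' _ _ (Subgroup.mem_sup_right hy)]
          have h3 : ψ ⟨y, Subgroup.mem_sup_right hy⟩ ∈
              (S.subgroupOf (Subgroup.zpowers x ⊔ S)).map ψ :=
            ⟨⟨y, Subgroup.mem_sup_right hy⟩, Subgroup.mem_subgroupOf.mpr hy, rfl⟩
          rw [hψS] at h3
          exact h3
        · rw [extFun_apply' _ _ (Subgroup.mem_sup_left (Subgroup.mem_zpowers x)),
            ← hφf ⟨x, Subgroup.mem_zpowers x⟩, ← hψext ⟨x, Subgroup.mem_zpowers x⟩]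
          rfl
    have hnorm := autInducedBy_normal_of_chain hS hfa hDP hDinv hDfaith hext
    obtain ⟨a, ha, haP⟩ := SetLike.exists_of_lt (lt_normalizerIn hS hlt)
    exact extQ_of_extFn hrec hf hfP prem (normalizerIn_le_extFn_of_normal hP hf hfP hnorm ha) haP

end Cfsg.Agent.Lib.Helper90
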