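import Cfsg.Agent.Lib.Helper90.Inner
import Cfsg.Agent.Lib.Helper87.Model
import Cfsg.Agent.Lib.Helper88.HFreeA
import Cfsg.Agent.Lib.Helper26.SolvPSolv
import Cfsg.Agent.Lib.Helper14.SL2Solv3
import Cfsg.Agent.Lib.Helper40.HallHigman
import Cfsg.Agent.Lib.Helper75.FrattiniAct

set_option autoImplicit false

namespace Cfsg.Agent.Lib.Helper90

open Cfsg Cfsg.FusionSystem

universe u v

variable {Ω : Type u} [Group Ω] {S : Subgroup Ω} {G : Type v} [Group G]

/-- For a model `G` of `F`, with `Q` the preimage of `O_p(G)`: the conjugation action gives a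
surjective homomorphism of `G` onto `Aut_F(Q)` whose kernel lies in `O_p(G)`. -/
theorem exists_model_aut (p : ℕ) [Fact p.Prime] (F : FusionSystem S) (ι : S →* G)
    (hG : F.IsModel p G ι) :
    ∃ α : G →* F.autGroup (Cfsg.Agent.Lib.Helper87.coreQ p ι),
      Function.Surjective α ∧ α.ker ≤ Cfsg.pCore p G := by
  have hOr := Cfsg.Agent.Lib.Helper87.pCore_le_range_of_model p F ι hG
  obtain ⟨hfin, hR, ⟨T, hT⟩, hC⟩ := hG
  have hι := hR.1
  have hQS := Cfsg.Agent.Lib.Helper87.coreQ_le p ι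
  have hQmem := Cfsg.Agent.Lib.Helper87.mem_coreQ_iff p ι
  generalize Cfsg.Agent.Lib.Helper87.coreQ p ι = Q at hQS hQmem ⊢
  obtain ⟨α₀, hα₀⟩ := Cfsg.Agent.Lib.Helper87.exists_alpha p ι hι hOr hQS hQmem
  have hmem : ∀ g, α₀ g ∈ F.autGroup Q := by
    intro g
    apply Subgroup.subset_closure
    show Q.subtype.comp (α₀ g).toMonoidHom ∈ F.Hom Q
    rw [hR.2 Q hQS _ (fun x => hQS (α₀ g x).2)]
    exact ⟨g, fun x => hα₀ g x⟩
  refine ⟨α₀.codRestrict _ hmem, ?_, ?_⟩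
  · rintro ⟨β, hβ⟩
    have h1 : Q.subtype.comp β.toMonoidHom ∈ F.Hom Q :=
      ((mem_autGroup_iff F hQS β).mp hβ).hom _ (fun x => (autFun_apply β x).symm)
    obtain ⟨g, hg⟩ := (hR.2 Q hQS _ (fun x => hQS (β x).2)).mp h1
    refine ⟨g, Subtype.ext (MulEquiv.ext fun x => Subtype.ext ?_)⟩
    have h2 : ι ⟨α₀ g x, hQS (α₀ g x).2⟩ = ι ⟨β x, hQS (β x).2⟩ := by
      rw [hα₀ g x]; exact (hg x).symm
    exact congrArg (fun t : S => (t : Ω)) (hι h2)
  · intro g hg
    apply hC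
    rw [Subgroup.mem_centralizer_iff]
    intro y hy
    obtain ⟨s, rfl⟩ := hOr hy
    have hsQ : (s : Ω) ∈ Q := (hQmem s).2 hy
    have h1 := hα₀ g ⟨s, hsQ⟩
    have h2 : α₀ g = 1 := congrArg Subtype.val (MonoidHom.mem_ker.mp hg)
    rw [h2] at h1
    have h3 : ι s = g * ι s * g⁻¹ := h1
    calc ι s * g = g * ι s * g⁻¹ * g := by rw [← h3]
      _ = g * ι s := by group

/-- For a model `G` of `F`: `G` is `p`-solvable iff `Aut_F(Q)` is, `Q` the preimage of
`O_p(G)`. -/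
theorem model_isPSolvable_iff (p : ℕ) [Fact p.Prime] (F : FusionSystem S) (ι : S →* G)
    (hG : F.IsModel p G ι) :
    IsPSolvable p G ↔ IsPSolvable p (F.autGroup (Cfsg.Agent.Lib.Helper87.coreQ p ι)) := by
  obtain ⟨α, hsurj, hker⟩ := exists_model_aut p F ι hG
  have hfin : Finite G := hG.1
  constructor
  · intro h
    exact Cfsg.Agent.Lib.Helper14.isPSolvable_map α hsurj h
  · intro h
    have hOp : IsPGroup p (Cfsg.pCore p G) := Cfsg.Agent.Lib.Helper40.pCore_isPGroup' p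
    have hkp : IsPGroup p α.ker := hOp.to_le hker
    obtain ⟨m, hm⟩ := hkp.exists_card_eq
    refine Cfsg.Agent.Lib.Helper26.isPSolvable_lift p α.ker (Or.inl ⟨m, hm⟩) ?_
    exact Cfsg.Agent.Lib.Helper14.isPSolvable_map
      (QuotientGroup.quotientKerEquivOfSurjective α hsurj).symm.toMonoidHom
      (QuotientGroup.quotientKerEquivOfSurjective α hsurj).symm.surjective h

/-- For a model `G` of `F`, `O_p(F)` is the preimage of `O_p(G)`. -/
theorem model_core_eq (p : ℕ) [Fact p.Prime] (F : FusionSystem S) (ι : S →* G)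
    (hG : F.IsModel p G ι) : F.core = Cfsg.Agent.Lib.Helper87.coreQ p ι :=
  le_antisymm (sSup_le fun _ hQ' => Cfsg.Agent.Lib.Helper87.normal_le_coreQ p F ι hG hQ')
    (le_sSup (Cfsg.Agent.Lib.Helper87.coreQ_isNormal p F ι hG))

/-- A saturated fusion system with a model is constrained. -/
theorem model_isConstrained [Finite S] (p : ℕ) [Fact p.Prime] (F : FusionSystem S)
    (hF : F.IsSaturated p) (ι : S →* G) (hG : F.IsModel p G ι) : F.IsConstrained p := by
  have hOr := Cfsg.Agent.Lib.Helper87.pCore_le_range_of_model p F ι hG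
  have hn := Cfsg.Agent.Lib.Helper87.coreQ_isNormal p F ι hG
  have hQS := Cfsg.Agent.Lib.Helper87.coreQ_le p ι
  have hQmem := Cfsg.Agent.Lib.Helper87.mem_coreQ_iff p ι
  refine ⟨hF, Cfsg.Agent.Lib.Helper87.coreQ p ι, hn, hQS, ?_⟩
  generalize Cfsg.Agent.Lib.Helper87.coreQ p ι = Q at hQS hQmem hn ⊢
  have hsc := stronglyClosed_of_isNormal hn
  have : Finite Q := finite_of_le hQS
  intro Q' hconj
  obtain ⟨f, hf, himg⟩ := isConj_iff.mp hconj
  have hle : Q' ≤ Q := by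
    rw [← himg]
    intro y hy
    obtain ⟨x, hx, rfl⟩ := hf.mem_img.mp hy
    exact stronglyClosed_mor_mem hsc hf le_rfl hx
  have hQ' : Q' = Q := by
    apply Subgroup.eq_of_le_of_card_ge hle
    rw [← himg, hf.card_img]
  rw [hQ']
  intro s hs
  obtain ⟨hsS, hsc'⟩ := hs
  have h1 : ι ⟨s, hsS⟩ ∈ Subgroup.centralizer ((Cfsg.pCore p G : Subgroup G) : Set G) := by
    rw [Subgroup.mem_centralizer_iff]
    intro y hy
    obtain ⟨t, rfl⟩ := hOr hy
    have htQ : (t : Ω) ∈ Q := (hQmem t).2 hy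
    have h2 : (t : Ω) * s = s * t := Subgroup.mem_centralizer_iff.mp hsc' t htQ
    have h3 : t * ⟨s, hsS⟩ = ⟨s, hsS⟩ * t := Subtype.ext h2
    rw [← map_mul, ← map_mul, h3]
  exact (hQmem ⟨s, hsS⟩).2 (hG.2.2.2 h1)

end Cfsg.Agent.Lib.Helper90
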