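import Cfsg.Agent.Lib.Helper87.Fusion9
import Cfsg.Agent.Lib.Helper14.PCore

set_option autoImplicit false

namespace Cfsg.Agent.Lib.Helper90

open Cfsg

section AbsChain

variable {G : Type*} [Group G]

/-- `D` is generated modulo `N` by one element (an elementwise form of "`D N / N` is cyclic"). -/
def CycStep (N D : Subgroup G) : Prop :=
  ∃ y₀ ∈ D, ∀ y ∈ D, ∃ k : ℕ, (y₀ ^ k)⁻¹ * y ∈ N

/-- An automorphism preserving `N` and `D` acts on `D` modulo `N` as a power map. -/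
theorem cycStep_pow_map {N D : Subgroup G} [N.Normal] (hc : CycStep N D) (α : MulAut G)
    (hN : ∀ x ∈ N, α x ∈ N) (hD : ∀ x ∈ D, α x ∈ D) :
    ∃ a : ℕ, ∀ y ∈ D, (QuotientGroup.mk (α y) : G ⧸ N) = (QuotientGroup.mk y) ^ a := by
  obtain ⟨y₀, hy₀, hgen⟩ := hc
  obtain ⟨a, ha⟩ := hgen (α y₀) (hD y₀ hy₀)
  refine ⟨a, fun y hy => ?_⟩
  obtain ⟨k, hk⟩ := hgen y hy
  have h1 : (QuotientGroup.mk (α y₀) : G ⧸ N) = (QuotientGroup.mk y₀) ^ a := by
    rw [← QuotientGroup.mk_pow]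
    exact (QuotientGroup.eq.mpr ha).symm
  have h2 : (QuotientGroup.mk y : G ⧸ N) = (QuotientGroup.mk y₀) ^ k := by
    rw [← QuotientGroup.mk_pow]
    exact (QuotientGroup.eq.mpr hk).symm
  have h3 : (QuotientGroup.mk (α ((y₀ ^ k)⁻¹ * y)) : G ⧸ N) = 1 :=
    (QuotientGroup.eq_one_iff _).mpr (hN _ hk)
  have h4 : α y = (α y₀) ^ k * α ((y₀ ^ k)⁻¹ * y) := by
    rw [← map_pow, ← map_mul, mul_inv_cancel_left]
  rw [h4, QuotientGroup.mk_mul, h3, mul_one, QuotientGroup.mk_pow, h1, h2, ← pow_mul, ← pow_mul,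
    mul_comm]

/-- Two automorphisms preserving `N` and `D` commute on `D` modulo `N`. -/
theorem cycStep_comm {N D : Subgroup G} [N.Normal] (hc : CycStep N D) (α β : MulAut G)
    (hαN : ∀ x ∈ N, α x ∈ N) (hαD : ∀ x ∈ D, α x ∈ D)
    (hβN : ∀ x ∈ N, β x ∈ N) (hβD : ∀ x ∈ D, β x ∈ D) :
    ∀ y ∈ D, (QuotientGroup.mk (α (β y)) : G ⧸ N) = QuotientGroup.mk (β (α y)) := by
  obtain ⟨a, ha⟩ := cycStep_pow_map hc α hαN hαD
  obtain ⟨b, hb⟩ := cycStep_pow_map hc β hβN hβD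
  intro y hy
  rw [ha _ (hβD y hy), hb y hy, hb _ (hαD y hy), ha y hy, ← pow_mul, ← pow_mul, mul_comm]

/-- The commutator of two automorphisms preserving `N` and `D` (with their inverses) acts
trivially on `D` modulo `N`. -/
theorem cycStep_commutator {N D : Subgroup G} [N.Normal] (hc : CycStep N D) (A : Subgroup (MulAut G))
    (hAN : ∀ γ ∈ A, ∀ x ∈ N, γ x ∈ N) (hAD : ∀ γ ∈ A, ∀ x ∈ D, γ x ∈ D)
    (α β : MulAut G) (hα : α ∈ A) (hβ : β ∈ A) :
    ∀ y ∈ D, y⁻¹ * (α * β * α⁻¹ * β⁻¹) y ∈ N := by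
  intro y hy
  have hz : α⁻¹ (β⁻¹ y) ∈ D := hAD _ (A.inv_mem hα) _ (hAD _ (A.inv_mem hβ) y hy)
  have h1 := cycStep_comm hc α β (hAN α hα) (hAD α hα) (hAN β hβ) (hAD β hβ) _ hz
  have h2 : β (α (α⁻¹ (β⁻¹ y))) = y := by
    rw [MulAut.apply_inv_self, MulAut.apply_inv_self]
  have h3 : (α * β * α⁻¹ * β⁻¹) y = α (β (α⁻¹ (β⁻¹ y))) := rfl
  rw [h2] at h1
  rw [h3]
  exact QuotientGroup.eq.mp h1.symm

/-- In a group of order `p ^ n`, the `p ^ n * (p - 1)`-th power of an automorphism preserving `N`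
and `D` (with its inverse) acts trivially on `D` modulo `N`. -/
theorem cycStep_pow_trivial [Finite G] {p : ℕ} [hp : Fact p.Prime] {n : ℕ}
    (hG : Nat.card G = p ^ n) {N D : Subgroup G} [N.Normal] (hc : CycStep N D) (α : MulAut G)
    (hαN : ∀ x ∈ N, α x ∈ N) (hαD : ∀ x ∈ D, α x ∈ D)
    (hα'N : ∀ x ∈ N, α⁻¹ x ∈ N) (hα'D : ∀ x ∈ D, α⁻¹ x ∈ D) :
    ∀ y ∈ D, y⁻¹ * (α ^ (p ^ n * (p - 1))) y ∈ N := by
  obtain ⟨a, ha⟩ := cycStep_pow_map hc α hαN hαD
  obtain ⟨b, hb⟩ := cycStep_pow_map hc α⁻¹ hα'N hα'D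
  have hiter : ∀ k : ℕ, ∀ y ∈ D, (α ^ k) y ∈ D ∧
      (QuotientGroup.mk ((α ^ k) y) : G ⧸ N) = (QuotientGroup.mk y) ^ (a ^ k) := by
    intro k
    induction k with
    | zero =>
      intro y hy
      rw [pow_zero, pow_zero, pow_one]
      exact ⟨hy, rfl⟩
    | succ k ih =>
      intro y hy
      obtain ⟨h1, h2⟩ := ih y hy
      have h3 : (α ^ (k + 1)) y = α ((α ^ k) y) := by
        rw [pow_succ']
        rfl
      rw [h3]
      refine ⟨hαD _ h1, ?_⟩
      rw [ha _ h1, h2, ← pow_mul, ← pow_succ]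
  intro y hy
  obtain ⟨-, h2⟩ := hiter (p ^ n * (p - 1)) y hy
  apply QuotientGroup.eq.mp
  rw [h2]
  set z : G ⧸ N := QuotientGroup.mk y with hz
  have hzab : z ^ (a * b) = z ^ 1 := by
    have h3 := hb _ (hαD y hy)
    rw [MulAut.inv_apply_self, ha y hy, ← pow_mul] at h3
    rw [pow_one]
    exact h3.symm
  have hzp : z ^ (p ^ n) = 1 := by
    rw [hz, ← QuotientGroup.mk_pow, ← hG, pow_card_eq_one']
    rfl
  obtain ⟨j, hj, hoj⟩ := (Nat.dvd_prime_pow hp.out).mp (orderOf_dvd_of_pow_eq_one hzp)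
  have hmod : a ^ (p ^ n * (p - 1)) ≡ 1 [MOD orderOf z] := by
    rw [hoj]
    rcases Nat.eq_zero_or_pos j with h0 | hpos
    · rw [h0, pow_zero]
      exact Nat.modEq_one
    · have hab : a * b ≡ 1 [MOD p ^ j] := by
        rw [← hoj]
        exact pow_eq_pow_iff_modEq.mp hzab
      have hcop : Nat.Coprime a (p ^ j) := by
        have h4 : Nat.gcd (a * b) (p ^ j) = 1 := by
          rw [hab.gcd_eq]
          exact Nat.gcd_one_left _
        exact Nat.Coprime.coprime_mul_right h4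
      have h5 := Nat.ModEq.pow_totient hcop
      rw [Nat.totient_prime_pow hp.out hpos] at h5
      have h6 : p ^ n * (p - 1) = (p ^ (j - 1) * (p - 1)) * p ^ (n - (j - 1)) := by
        have : p ^ n = p ^ (j - 1) * p ^ (n - (j - 1)) := by
          rw [← pow_add]
          congr 1
          omega
        rw [this]
        ring
      rw [h6, pow_mul]
      have h7 := h5.pow (p ^ (n - (j - 1)))
      rwa [one_pow] at h7
  have := pow_eq_pow_iff_modEq.mpr hmod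
  rw [pow_one] at this
  exact this.symm

/-- An automorphism of order prime to `p` of a group of order `p ^ n` acting trivially on the
factors of a chain from `1` to the whole group is trivial. -/
theorem chain_coprime_trivial [Finite G] {p : ℕ} [Fact p.Prime] {n : ℕ}
    (hG : Nat.card G = p ^ n) (T : ℕ → Subgroup G) (m : ℕ) (hT0 : T 0 = ⊥) (hTm : T m = ⊤)
    (hmono : Monotone T) (β : MulAut G) (hβ : ∀ i, ∀ x ∈ T (i + 1), x⁻¹ * β x ∈ T i)
    {r : ℕ} (hr : r.Coprime p) (hβr : β ^ r = 1) : β = 1 := by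
  have h1 : β ^ (Nat.card G ^ m) = 1 := by
    ext x
    rw [MulAut.one_apply]
    exact Cfsg.Agent.Lib.Helper87.chain_pow_card_fix β T hT0 hmono hβ m x
      (by rw [hTm]; exact Subgroup.mem_top x)
  have h2 : orderOf β ∣ Nat.gcd r (Nat.card G ^ m) :=
    Nat.dvd_gcd (orderOf_dvd_of_pow_eq_one hβr) (orderOf_dvd_of_pow_eq_one h1)
  have h3 : Nat.gcd r (Nat.card G ^ m) = 1 := by
    rw [hG]
    exact Nat.Coprime.pow_right _ (Nat.Coprime.pow_right _ hr)
  rw [h3, Nat.dvd_one] at h2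
  exact orderOf_eq_one_iff.mp h2

/-- If a group `A` of automorphisms of a finite `p`-group preserves a chain of normal subgroups
from `1` to the whole group with cyclic steps, then every Sylow `p`-subgroup of `A` is normal. -/
theorem chain_sylow_normal [Finite G] (p : ℕ) [Fact p.Prime] (hG : IsPGroup p G)
    (A : Subgroup (MulAut G)) (T : ℕ → Subgroup G) (m : ℕ) (hT0 : T 0 = ⊥) (hTm : T m = ⊤)
    (hmono : Monotone T) (hnorm : ∀ i, (T i).Normal)
    (hinv : ∀ β ∈ A, ∀ i, ∀ x ∈ T i, β x ∈ T i) (hcyc : ∀ i, CycStep (T i) (T (i + 1)))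
    (R : Sylow p A) : (R : Subgroup A).Normal := by
  constructor
  intro r hr g
  have hc : ((g : MulAut G) * (r : MulAut G) * (g : MulAut G)⁻¹ * (r : MulAut G)⁻¹) ∈ A :=
    A.mul_mem (A.mul_mem (A.mul_mem g.2 r.2) (A.inv_mem g.2)) (A.inv_mem r.2)
  have h1 := Cfsg.Agent.Lib.Helper87.chain_stab_mem_pCore p hG A T m hT0 hTm hmono hinv _ hc
    (fun i x hx => by
      have := hnorm i
      exact cycStep_commutator (hcyc i) A (fun γ hγ => hinv γ hγ i) (fun γ hγ => hinv γ hγ (i + 1))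
        _ _ g.2 r.2 x hx)
  have h2 := Cfsg.Agent.Lib.Helper14.pCore_le_sylow R h1
  have h3 : g * r * g⁻¹ = (⟨_, hc⟩ : A) * r := by
    apply Subtype.ext
    simp
  rw [h3]
  exact (R : Subgroup A).mul_mem h2 hr

end AbsChain

end Cfsg.Agent.Lib.Helper90
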