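import Cfsg.Agent.Lib.Helper90.AutSys
import Cfsg.Agent.Lib.Helper90.SupSolA
import Cfsg.Agent.S5301

set_option autoImplicit false

namespace Cfsg.Agent.Lib.Helper90

open Cfsg Cfsg.FusionSystem
open scoped Pointwise

variable {Ω : Type*} [Group Ω] {S : Subgroup Ω}

/-- The universal fusion system over `S`: all injective homomorphisms between subgroups of `S`. -/
def univSys (S : Subgroup Ω) : FusionSystem S where
  Hom P := {φ | P ≤ S ∧ Function.Injective φ ∧ ∀ x, φ x ∈ S}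
  le_of_mem := fun h => ⟨h.1, h.2.2⟩
  injective_of_mem := fun h => h.2.1
  conj_mem := by
    intro P g hP hg
    refine ⟨hP, ?_, fun x => ?_⟩
    · intro x y hxy
      have h1 : g * (x : Ω) * g⁻¹ = g * (y : Ω) * g⁻¹ := hxy
      exact Subtype.ext (mul_left_cancel (mul_right_cancel h1))
    · exact S.mul_mem (S.mul_mem hg (hP x.2)) (S.inv_mem hg)
  comp_mem := by
    intro P Q φ ψ hφ hψ h
    refine ⟨hφ.1, ?_, fun x => hψ.2.2 _⟩
    intro x y hxy
    have h1 := hψ.2.1 hxy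
    exact hφ.2.1 (congrArg Subtype.val h1)
  inv_mem := by
    intro P φ hφ
    let e : P ≃* φ.range := MonoidHom.ofInjective hφ.2.1
    refine ⟨P.subtype.comp e.symm.toMonoidHom, ⟨?_, ?_, fun x => hφ.1 (e.symm x).2⟩, fun x => ?_⟩
    · rintro _ ⟨x, rfl⟩
      exact hφ.2.2 x
    · exact (Subtype.val_injective).comp e.symm.injective
    · show ((e.symm ⟨φ x, ⟨x, rfl⟩⟩ : P) : Ω) = x
      have h1 : (⟨φ x, ⟨x, rfl⟩⟩ : φ.range) = e x :=
        Subtype.ext (MonoidHom.ofInjective_apply hφ.2.1).symm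
      rw [h1, MulEquiv.symm_apply_apply]

theorem le_autGroup_univSys (Γ : Subgroup (MulAut S)) : Γ ≤ (univSys S).autGroup S := by
  intro α _
  apply Subgroup.subset_closure
  exact ⟨le_rfl, (Subtype.val_injective).comp α.injective, fun x => (α x).2⟩

/-- Pass from a chain indexed by `Fin (m + 1)` to one indexed by `ℕ`. -/
theorem natChain_of_finChain (F : FusionSystem S) {m : ℕ} (c : Fin (m + 1) → Subgroup Ω)
    (h0 : c 0 = ⊥) (hm : c (Fin.last m) = S) (hsc : ∀ i, F.StronglyClosed (c i))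
    (hstep : ∀ i : Fin m, c i.castSucc ≤ c i.succ ∧
      ∃ x ∈ S, c i.succ = c i.castSucc ⊔ Subgroup.zpowers x) :
    ∃ c' : ℕ → Subgroup Ω, c' 0 = ⊥ ∧ c' m = S ∧ (∀ i, F.StronglyClosed (c' i)) ∧
      ∀ i, c' i ≤ c' (i + 1) ∧ ∃ x ∈ S, c' (i + 1) = c' i ⊔ Subgroup.zpowers x := by
  have hlt : ∀ i : ℕ, min i m < m + 1 := fun i => by omega
  refine ⟨fun i => c ⟨min i m, hlt i⟩, ?_, ?_, fun i => hsc _, fun i => ?_⟩
  · have e : (⟨min 0 m, hlt 0⟩ : Fin (m + 1)) = 0 := Fin.ext (by simp)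
    show c ⟨min 0 m, hlt 0⟩ = ⊥
    rw [e, h0]
  · have e : (⟨min m m, hlt m⟩ : Fin (m + 1)) = Fin.last m := Fin.ext (by simp)
    show c ⟨min m m, hlt m⟩ = S
    rw [e, hm]
  · show c ⟨min i m, hlt i⟩ ≤ c ⟨min (i + 1) m, hlt (i + 1)⟩ ∧
      ∃ x ∈ S, c ⟨min (i + 1) m, hlt (i + 1)⟩ = c ⟨min i m, hlt i⟩ ⊔ Subgroup.zpowers x
    by_cases hi : i < m
    · have e1 : (⟨min i m, hlt i⟩ : Fin (m + 1)) = (⟨i, hi⟩ : Fin m).castSucc :=
        Fin.ext (by simp; omega)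
      have e2 : (⟨min (i + 1) m, hlt (i + 1)⟩ : Fin (m + 1)) = (⟨i, hi⟩ : Fin m).succ :=
        Fin.ext (by simp; omega)
      rw [e1, e2]
      exact hstep ⟨i, hi⟩
    · have e : (⟨min (i + 1) m, hlt (i + 1)⟩ : Fin (m + 1)) = ⟨min i m, hlt i⟩ :=
        Fin.ext (by simp; omega)
      rw [e]
      exact ⟨le_rfl, 1, S.one_mem, by rw [Subgroup.zpowers_one_eq_bot, sup_bot_eq]⟩

/-- The abstract chain data in `P ≤ S` obtained from a chain of strongly closed subgroups with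
cyclic steps. -/
theorem chain_abs [Finite S] (F : FusionSystem S) (c : ℕ → Subgroup Ω) (m : ℕ) (hc0 : c 0 = ⊥)
    (hcm : c m = S) (hsc : ∀ i, F.StronglyClosed (c i))
    (hstep : ∀ i, c i ≤ c (i + 1) ∧ ∃ x ∈ S, c (i + 1) = c i ⊔ Subgroup.zpowers x)
    {P : Subgroup Ω} (hP : P ≤ S) :
    ((c 0).subgroupOf P = ⊥) ∧ ((c m).subgroupOf P = ⊤) ∧
    Monotone (fun i => (c i).subgroupOf P) ∧ (∀ i, ((c i).subgroupOf P).Normal) ∧
    (∀ β ∈ F.autGroup P, ∀ i, ∀ x ∈ (c i).subgroupOf P, β x ∈ (c i).subgroupOf P) ∧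
    ∀ i, CycStep ((c i).subgroupOf P) ((c (i + 1)).subgroupOf P) := by
  refine ⟨?_, ?_, ?_, ?_, ?_, ?_⟩
  · rw [hc0, Subgroup.bot_subgroupOf]
  · rw [hcm]
    exact Subgroup.subgroupOf_eq_top.mpr hP
  · exact monotone_nat_of_le_succ (fun i x hx => (hstep i).1 hx)
  · intro i
    constructor
    intro n hn g
    exact stronglyClosed_conj_mem (hsc i) (hP g.2) hn
  · intro β hβ i x hx
    have hmor : Mor F P (autFun P β) := (mem_autGroup_iff F hP β).mp hβ
    have h1 : autFun P β (x : Ω) ∈ c i :=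
      stronglyClosed_mor_mem (hsc i) (hmor.restrict (inf_le_right : c i ⊓ P ≤ P)) inf_le_left
        (show (x : Ω) ∈ c i ⊓ P from ⟨hx, x.2⟩)
    rw [autFun_apply] at h1
    exact h1
  · intro i
    obtain ⟨x, hx, hcx⟩ := (hstep i).2
    have hN : ((c i).subgroupOf S).Normal := by
      constructor
      intro n hn g
      exact stronglyClosed_conj_mem (hsc i) g.2 hn
    let π : S →* S ⧸ (c i).subgroupOf S := QuotientGroup.mk' _
    let D' : Subgroup S := (c (i + 1) ⊓ P).subgroupOf S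
    have hle : D'.map π ≤ Subgroup.zpowers (π ⟨x, hx⟩) := by
      rintro _ ⟨y, hy, rfl⟩
      have hy1 : (y : Ω) ∈ Subgroup.zpowers x ⊔ c i := by
        rw [sup_comm, ← hcx]
        exact hy.1
      obtain ⟨u, hu, q, hq, hyuq⟩ := exists_mul_of_mem_sup
        (fun u hu q hq => stronglyClosed_conj_mem (hsc i) (Subgroup.zpowers_le.mpr hx hu) hq) hy1
      obtain ⟨k, rfl⟩ := Subgroup.mem_zpowers_iff.mp hu
      have hy2 : y = (⟨x, hx⟩ : S) ^ k * ⟨q, (hsc i).1 hq⟩ := Subtype.ext (by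
        rw [hyuq]
        simp)
      have hq1 : π ⟨q, (hsc i).1 hq⟩ = 1 := (QuotientGroup.eq_one_iff _).mpr hq
      rw [hy2, map_mul, hq1, mul_one, map_zpow]
      exact Subgroup.zpow_mem_zpowers _ k
    have : IsCyclic ↥(D'.map π) :=
      isCyclic_of_injective (Subgroup.inclusion hle) (Subgroup.inclusion_injective hle)
    obtain ⟨g, hg⟩ := IsCyclic.exists_generator (α := ↥(D'.map π))
    obtain ⟨y₀, hy₀, hy₀g⟩ := g.2
    refine ⟨⟨(y₀ : Ω), hy₀.2⟩, hy₀.1, fun y hy => ?_⟩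
    have hyD : (⟨(y : Ω), hP y.2⟩ : S) ∈ D' := ⟨hy, y.2⟩
    have h1 := hg ⟨π ⟨(y : Ω), hP y.2⟩, Subgroup.mem_map_of_mem π hyD⟩
    rw [← mem_powers_iff_mem_zpowers] at h1
    obtain ⟨k, hk⟩ := h1
    refine ⟨k, ?_⟩
    have h2 : π (y₀ ^ k) = π ⟨(y : Ω), hP y.2⟩ := by
      have h3 := congrArg (Subtype.val) hk
      rw [map_pow, hy₀g]
      exact h3
    have h4 : (y₀ ^ k)⁻¹ * ⟨(y : Ω), hP y.2⟩ ∈ (c i).subgroupOf S := QuotientGroup.eq.mp h2
    exact h4

/-- A saturated fusion system admitting a chain of strongly closed subgroups with cyclic steps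
has its Sylow group normal. -/
theorem isNormal_of_cyclic_chain [Finite S] (p : ℕ) [Fact p.Prime] (hS : IsPGroup p S)
    (F : FusionSystem S) (hF : F.IsSaturated p) (c : ℕ → Subgroup Ω) (m : ℕ) (hc0 : c 0 = ⊥)
    (hcm : c m = S) (hsc : ∀ i, F.StronglyClosed (c i))
    (hstep : ∀ i, c i ≤ c (i + 1) ∧ ∃ x ∈ S, c (i + 1) = c i ⊔ Subgroup.zpowers x) :
    F.IsNormal S := by
  apply Cfsg.Agent.S5301.result p hS F hF
  intro P hfn _ _
  obtain ⟨hT0, hTm, hmono, hnorm, hinv, hcyc⟩ := chain_abs F c m hc0 hcm hsc hstep hfn.1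
  have : Finite P := finite_of_le hfn.1
  obtain ⟨R⟩ := (inferInstance : Nonempty (Sylow p (F.autGroup P)))
  exact ⟨R, chain_sylow_normal p (hS.to_le hfn.1) (F.autGroup P) _ m hT0 hTm hmono hnorm hinv
    hcyc R⟩

/-- If every saturated fusion system over `S` has a chain of strongly closed subgroups with
cyclic steps, then every `p'`-group of automorphisms of `S` is abelian of exponent dividing
`p - 1`. -/
theorem abelian_of_chain [Finite S] (p : ℕ) [hp : Fact p.Prime] (hS : IsPGroup p S)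
    (hA : ∀ F : FusionSystem S, F.IsSaturated p → ∃ (c : ℕ → Subgroup Ω) (m : ℕ), c 0 = ⊥ ∧
      c m = S ∧ (∀ i, F.StronglyClosed (c i)) ∧
      ∀ i, c i ≤ c (i + 1) ∧ ∃ x ∈ S, c (i + 1) = c i ⊔ Subgroup.zpowers x)
    (H : Subgroup (MulAut S)) (hH : (Nat.card H).Coprime p) :
    (∀ h ∈ H, ∀ h' ∈ H, h * h' = h' * h) ∧ ∀ h ∈ H, h ^ (p - 1) = 1 := by
  have hHpow : ∀ h ∈ H, h ^ Nat.card H = 1 := by
    intro h hh
    have h1 := pow_card_eq_one' (G := H) (x := ⟨h, hh⟩)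
    exact congrArg Subtype.val h1
  have hΓ : Inn S ⊔ H ≤ (univSys S).autGroup S := le_autGroup_univSys _
  have hInn : Inn S ≤ Inn S ⊔ H := le_sup_left
  have hΓm : ∀ γ ∈ Inn S ⊔ H, γ ^ Nat.card H ∈ Inn S := by
    intro γ hγ
    have h1 : γ ∈ ((Inn S : Set (MulAut S)) * (H : Set (MulAut S))) := by
      rw [← Subgroup.normal_mul]
      exact hγ
    obtain ⟨n, hn, h, hh, rfl⟩ := Set.mem_mul.mp h1
    rw [← QuotientGroup.eq_one_iff, QuotientGroup.mk_pow, QuotientGroup.mk_mul,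
      (QuotientGroup.eq_one_iff n).mpr hn, one_mul, ← QuotientGroup.mk_pow, hHpow h hh]
    rfl
  have hsat := autSys_isSaturated (F := univSys S) hS le_rfl (Inn S ⊔ H) hΓ hInn hH hΓm
  obtain ⟨c, m, hc0, hcm, hsc, hstep⟩ := hA _ hsat
  obtain ⟨hT0, hTm, hmono, hnorm, hinv, hcyc⟩ :=
    chain_abs _ c m hc0 hcm hsc hstep (le_refl S)
  rw [autGroup_autSys] at hinv
  obtain ⟨n, hn⟩ := IsPGroup.iff_card.mp hS
  have hinvH : ∀ β ∈ H, ∀ i, ∀ x ∈ (c i).subgroupOf S, β x ∈ (c i).subgroupOf S :=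
    fun β hβ => hinv β (Subgroup.mem_sup_right hβ)
  constructor
  · intro h hh h' hh'
    have hγH : h * h' * h⁻¹ * h'⁻¹ ∈ H :=
      H.mul_mem (H.mul_mem (H.mul_mem hh hh') (H.inv_mem hh)) (H.inv_mem hh')
    have h1 : h * h' * h⁻¹ * h'⁻¹ = 1 := by
      refine chain_coprime_trivial hn _ m hT0 hTm hmono _ (fun i x hx => ?_) hH (hHpow _ hγH)
      have := hnorm i
      exact cycStep_commutator (hcyc i) H (fun γ hγ => hinvH γ hγ i)
        (fun γ hγ => hinvH γ hγ (i + 1)) h h' hh hh' x hx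
    have h2 : h * h' = (h * h' * h⁻¹ * h'⁻¹) * (h' * h) := by group
    rw [h2, h1, one_mul]
  · intro h hh
    have hβH : h ^ (p ^ n * (p - 1)) ∈ H := H.pow_mem hh _
    have h1 : h ^ (p ^ n * (p - 1)) = 1 := by
      refine chain_coprime_trivial hn _ m hT0 hTm hmono _ (fun i x hx => ?_) hH (hHpow _ hβH)
      have := hnorm i
      exact cycStep_pow_trivial hn (hcyc i) h (hinvH h hh i) (hinvH h hh (i + 1))
        (hinvH h⁻¹ (H.inv_mem hh) i) (hinvH h⁻¹ (H.inv_mem hh) (i + 1)) x hx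
    have h2 : orderOf h ∣ p ^ n * (p - 1) := orderOf_dvd_of_pow_eq_one h1
    have h3 : orderOf h ∣ Nat.card H := orderOf_dvd_of_pow_eq_one (hHpow h hh)
    have h4 : Nat.Coprime (orderOf h) (p ^ n) :=
      Nat.Coprime.pow_right _ (Nat.Coprime.coprime_dvd_left h3 hH)
    exact orderOf_dvd_iff_pow_eq_one.mp (h4.dvd_of_dvd_mul_left h2)

end Cfsg.Agent.Lib.Helper90
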