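import Cfsg.Agent.Lib.Helper90.SupSolA

set_option autoImplicit false

namespace Cfsg.Agent.Lib.Helper90

open Cfsg

section AbsB2

variable {G : Type*} [Group G]

/-- A `p'`-group of automorphisms of a group of order `p ^ n` preserving a chain of normal
subgroups from `1` to the whole group with one-generator steps is abelian of exponent dividing
`p - 1`. -/
theorem pprime_abelian_of_abs_chain [Finite G] (p : ℕ) [hp : Fact p.Prime] {n : ℕ}
    (hn : Nat.card G = p ^ n) (T : ℕ → Subgroup G) (m : ℕ) (hT0 : T 0 = ⊥) (hTm : T m = ⊤)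
    (hmono : Monotone T) (hnorm : ∀ i, (T i).Normal) (hcyc : ∀ i, CycStep (T i) (T (i + 1)))
    (H : Subgroup (MulAut G)) (hinvH : ∀ β ∈ H, ∀ i, ∀ x ∈ T i, β x ∈ T i)
    (hH : (Nat.card H).Coprime p) :
    (∀ h ∈ H, ∀ h' ∈ H, h * h' = h' * h) ∧ ∀ h ∈ H, h ^ (p - 1) = 1 := by
  have hHpow : ∀ h ∈ H, h ^ Nat.card H = 1 := by
    intro h hh
    have h1 := pow_card_eq_one' (G := H) (x := ⟨h, hh⟩)
    exact congrArg Subtype.val h1
  constructor
  · intro h hh h' hh'
    have hγH : h * h' * h⁻¹ * h'⁻¹ ∈ H :=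
      H.mul_mem (H.mul_mem (H.mul_mem hh hh') (H.inv_mem hh)) (H.inv_mem hh')
    have h1 : h * h' * h⁻¹ * h'⁻¹ = 1 := by
      refine chain_coprime_trivial hn _ m hT0 hTm hmono _ (fun i x hx => ?_) hH (hHpow _ hγH)
      have := hnorm i
      exact cycStep_commutator (hcyc i) H (fun γ hγ => hinvH γ hγ i)
        (fun γ hγ => hinvH γ hγ (i + 1)) h h' hh hh' x hx
    have h2 : h * h' = (h * h' * h⁻¹ * h'⁻¹) * (h' * h) := by group
    rw [h2, h1, one_mul]
  · intro h hh
    have hβH : h ^ (p ^ n * (p - 1)) ∈ H := H.pow_mem hh _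
    have h1 : h ^ (p ^ n * (p - 1)) = 1 := by
      refine chain_coprime_trivial hn _ m hT0 hTm hmono _ (fun i x hx => ?_) hH (hHpow _ hβH)
      have := hnorm i
      exact cycStep_pow_trivial hn (hcyc i) h (hinvH h hh i) (hinvH h hh (i + 1))
        (hinvH h⁻¹ (H.inv_mem hh) i) (hinvH h⁻¹ (H.inv_mem hh) (i + 1)) x hx
    have h2 : orderOf h ∣ p ^ n * (p - 1) := orderOf_dvd_of_pow_eq_one h1
    have h3 : orderOf h ∣ Nat.card H := orderOf_dvd_of_pow_eq_one (hHpow h hh)
    have h4 : Nat.Coprime (orderOf h) (p ^ n) :=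
      Nat.Coprime.pow_right _ (Nat.Coprime.coprime_dvd_left h3 hH)
    exact orderOf_dvd_iff_pow_eq_one.mp (h4.dvd_of_dvd_mul_left h2)

/-- Invariance under all automorphisms. -/
def CharInv (D : Subgroup G) : Prop := ∀ α : MulAut G, ∀ x ∈ D, α x ∈ D

/-- There is a chain of characteristic subgroups from `N` to `D` with one-generator steps. -/
def ChainTo (N D : Subgroup G) : Prop :=
  ∃ (m : ℕ) (T : ℕ → Subgroup G), T 0 = N ∧ T m = D ∧ (∀ i, CharInv (T i)) ∧
    ∀ i, T i ≤ T (i + 1) ∧ CycStep (T i) (T (i + 1))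

theorem cycStep_refl (N : Subgroup G) : CycStep N N :=
  ⟨1, N.one_mem, fun y hy => ⟨0, by rw [pow_zero, inv_one, one_mul]; exact hy⟩⟩

theorem ChainTo.refl {N : Subgroup G} (hN : CharInv N) : ChainTo N N :=
  ⟨0, fun _ => N, rfl, rfl, fun _ => hN, fun _ => ⟨le_rfl, cycStep_refl N⟩⟩

theorem ChainTo.snoc {N D D' : Subgroup G} (h : ChainTo N D) (hD' : CharInv D') (hle : D ≤ D')
    (hc : CycStep D D') : ChainTo N D' := by
  obtain ⟨m, T, h0, hm, hinv, hstep⟩ := h
  refine ⟨m + 1, fun i => if i ≤ m then T i else D', ?_, ?_, ?_, ?_⟩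
  · show (if 0 ≤ m then T 0 else D') = N
    rw [if_pos (Nat.zero_le m), h0]
  · show (if m + 1 ≤ m then T (m + 1) else D') = D'
    rw [if_neg (by omega)]
  · intro i
    show CharInv (if i ≤ m then T i else D')
    by_cases hi : i ≤ m
    · rw [if_pos hi]; exact hinv i
    · rw [if_neg hi]; exact hD'
  · intro i
    show (if i ≤ m then T i else D') ≤ (if i + 1 ≤ m then T (i + 1) else D') ∧
      CycStep (if i ≤ m then T i else D') (if i + 1 ≤ m then T (i + 1) else D')
    by_cases hi : i + 1 ≤ m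
    · have hi' : i ≤ m := by omega
      rw [if_pos hi, if_pos hi']
      exact hstep i
    · by_cases hi' : i ≤ m
      · have him : i = m := by omega
        rw [if_pos hi', if_neg hi, him, hm]
        exact ⟨hle, hc⟩
      · rw [if_neg hi, if_neg hi']
        exact ⟨le_rfl, cycStep_refl D'⟩

theorem ChainTo.trans {N D E : Subgroup G} (h1 : ChainTo N D) (h2 : ChainTo D E) :
    ChainTo N E := by
  obtain ⟨m, T, h0, hm, hinv, hstep⟩ := h2
  have key : ∀ k, ChainTo N (T k) := by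
    intro k
    induction k with
    | zero => rw [h0]; exact h1
    | succ k ih => exact ih.snoc (hinv (k + 1)) (hstep k).1 (hstep k).2
  rw [← hm]
  exact key m

end AbsB2

section Layers

variable {G : Type*} [CommGroup G]

/-- The subgroup `Ω_a(℧^b(G)) ℧^{b+1}(G)` of a commutative group. -/
def layer (p a b : ℕ) : Subgroup G :=
  ((powMonoidHom (p ^ b) : G →* G).range ⊓ (powMonoidHom (p ^ a) : G →* G).ker) ⊔
    (powMonoidHom (p ^ (b + 1)) : G →* G).range

theorem mem_layer {p a b : ℕ} {x : G} :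
    x ∈ layer p a b ↔
      ∃ y w : G, (y ^ (p ^ b)) ^ (p ^ a) = 1 ∧ x = y ^ (p ^ b) * w ^ (p ^ (b + 1)) := by
  unfold layer
  rw [Subgroup.mem_sup]
  constructor
  · rintro ⟨u, ⟨⟨y, rfl⟩, hu2⟩, v, ⟨w, rfl⟩, rfl⟩
    exact ⟨y, w, hu2, rfl⟩
  · rintro ⟨y, w, hy, rfl⟩
    exact ⟨y ^ (p ^ b), ⟨⟨y, rfl⟩, hy⟩, w ^ (p ^ (b + 1)), ⟨w, rfl⟩, rfl⟩

theorem map_mem_layer {G' : Type*} [CommGroup G'] (f : G →* G') {p a b : ℕ} {x : G}
    (hx : x ∈ layer p a b) : f x ∈ layer p a b := by
  rw [mem_layer] at hx ⊢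
  obtain ⟨y, w, hy, rfl⟩ := hx
  refine ⟨f y, f w, ?_, ?_⟩
  · rw [← map_pow, ← map_pow, hy, map_one]
  · rw [map_mul, map_pow, map_pow]

theorem charInv_layer (p a b : ℕ) : CharInv (layer p a b : Subgroup G) :=
  fun α _ hx => map_mem_layer α.toMonoidHom hx

theorem layer_le_succ (p a b : ℕ) : (layer p a b : Subgroup G) ≤ layer p (a + 1) b := by
  intro x hx
  rw [mem_layer] at hx ⊢
  obtain ⟨y, w, hy, rfl⟩ := hx
  exact ⟨y, w, by rw [pow_succ, pow_mul, hy, one_pow], rfl⟩

theorem layer_zero (p b : ℕ) :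
    (layer p 0 b : Subgroup G) = (powMonoidHom (p ^ (b + 1)) : G →* G).range := by
  ext x
  rw [mem_layer]
  constructor
  · rintro ⟨y, w, hy, rfl⟩
    rw [pow_zero, pow_one] at hy
    rw [hy, one_mul]
    exact ⟨w, rfl⟩
  · rintro ⟨w, rfl⟩
    exact ⟨1, w, by rw [one_pow, one_pow], by rw [one_pow, one_mul]; rfl⟩

theorem layer_top {p M : ℕ} (hM : ∀ x : G, x ^ (p ^ M) = 1) (b : ℕ) :
    (layer p M b : Subgroup G) = (powMonoidHom (p ^ b) : G →* G).range := by
  ext x
  rw [mem_layer]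
  constructor
  · rintro ⟨y, w, -, rfl⟩
    refine ⟨y * w ^ p, ?_⟩
    show (y * w ^ p) ^ (p ^ b) = _
    rw [mul_pow, ← pow_mul, ← pow_succ']
  · rintro ⟨y, rfl⟩
    refine ⟨y, 1, ?_, ?_⟩
    · rw [← pow_mul, mul_comm, pow_mul, hM, one_pow]
    · rw [one_pow, mul_one]
      rfl

/-- The chain of layers, assuming each elementary step is generated by one element. -/
theorem chainTo_bot_top_of_layers [Finite G] (p : ℕ) [hp : Fact p.Prime] (hG : IsPGroup p G)
    (hcyc : ∀ a b : ℕ, CycStep (layer p a b : Subgroup G) (layer p (a + 1) b)) :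
    ChainTo (⊥ : Subgroup G) ⊤ := by
  obtain ⟨M, hM⟩ := IsPGroup.iff_card.mp hG
  have hMx : ∀ x : G, x ^ (p ^ M) = 1 := fun x => by rw [← hM]; exact pow_card_eq_one'
  have hrow : ∀ b a : ℕ, ChainTo (layer p 0 b : Subgroup G) (layer p a b) := by
    intro b a
    induction a with
    | zero => exact ChainTo.refl (charInv_layer p 0 b)
    | succ a ih => exact ih.snoc (charInv_layer p (a + 1) b) (layer_le_succ p a b) (hcyc a b)
  have hrow' : ∀ b : ℕ, ChainTo ((powMonoidHom (p ^ (b + 1)) : G →* G).range)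
      ((powMonoidHom (p ^ b) : G →* G).range) := by
    intro b
    have h := hrow b M
    rwa [layer_zero, layer_top hMx] at h
  have hall : ∀ t : ℕ, ChainTo ((powMonoidHom (p ^ t) : G →* G).range)
      ((powMonoidHom (p ^ 0) : G →* G).range) := by
    intro t
    induction t with
    | zero =>
      have h := hrow 0 M
      rw [layer_top hMx] at h
      obtain ⟨m, T, -, hm, hinv, -⟩ := h
      have hci : CharInv ((powMonoidHom (p ^ 0) : G →* G).range) := by
        rw [← hm]; exact hinv m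
      exact ChainTo.refl hci
    | succ t ih => exact (hrow' t).trans ih
  have h := hall M
  have hbot : (powMonoidHom (p ^ M) : G →* G).range = ⊥ := by
    rw [eq_bot_iff]
    rintro _ ⟨y, rfl⟩
    rw [Subgroup.mem_bot]
    exact hMx y
  have htop : (powMonoidHom (p ^ 0) : G →* G).range = ⊤ := by
    rw [eq_top_iff]
    intro x _
    exact ⟨x, by show x ^ (p ^ 0) = x; rw [pow_zero, pow_one]⟩
  rwa [hbot, htop] at h

/-- Transport of the one-generator property of a layer step along an isomorphism. -/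
theorem cycStep_layer_of_equiv {G' : Type*} [CommGroup G'] (ε : G ≃* G') {p a b : ℕ}
    (h : CycStep (layer p a b : Subgroup G') (layer p (a + 1) b)) :
    CycStep (layer p a b : Subgroup G) (layer p (a + 1) b) := by
  obtain ⟨y₀, hy₀, hgen⟩ := h
  refine ⟨ε.symm y₀, map_mem_layer ε.symm.toMonoidHom hy₀, fun y hy => ?_⟩
  obtain ⟨k, hk⟩ := hgen (ε y) (map_mem_layer ε.toMonoidHom hy)
  refine ⟨k, ?_⟩
  have h1 := map_mem_layer ε.symm.toMonoidHom hk
  have h2 : ε.symm.toMonoidHom ((y₀ ^ k)⁻¹ * ε y) = (ε.symm y₀ ^ k)⁻¹ * y := by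
    show ε.symm ((y₀ ^ k)⁻¹ * ε y) = _
    rw [map_mul, map_inv, map_pow, MulEquiv.symm_apply_apply]
  rwa [h2] at h1

/-- A `p'`-group of automorphisms of a finite commutative `p`-group whose layer steps are all
generated by one element is abelian of exponent dividing `p - 1`. -/
theorem pprime_abelian_of_layers [Finite G] (p : ℕ) [hp : Fact p.Prime] (hG : IsPGroup p G)
    (hcyc : ∀ a b : ℕ, CycStep (layer p a b : Subgroup G) (layer p (a + 1) b))
    (K : Subgroup (MulAut G)) (hK : (Nat.card K).Coprime p) :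
    (∀ h ∈ K, ∀ h' ∈ K, h * h' = h' * h) ∧ ∀ h ∈ K, h ^ (p - 1) = 1 := by
  obtain ⟨n, hn⟩ := IsPGroup.iff_card.mp hG
  obtain ⟨m, T, h0, hm, hinv, hstep⟩ := chainTo_bot_top_of_layers p hG hcyc
  exact pprime_abelian_of_abs_chain p hn T m h0 hm
    (monotone_nat_of_le_succ (fun i => (hstep i).1)) (fun i => inferInstance)
    (fun i => (hstep i).2) K (fun β _ i x hx => hinv i β x hx) hK

end Layers

end Cfsg.Agent.Lib.Helper90
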