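import Cfsg.Agent.Lib.Helper90.SupSolE

set_option autoImplicit false

namespace Cfsg.Agent.Lib.Helper90

open Cfsg

section Coord

/-- In a product of cyclic `p`-groups of pairwise distinct orders every layer step is generated
by one element. -/
theorem cycStep_layer_pi {ι : Type} (p : ℕ) [hp : Fact p.Prime] (e : ι → ℕ)
    (he : Function.Injective e) (a b : ℕ) :
    CycStep (layer p a b : Subgroup (Multiplicative (∀ i : ι, ZMod (p ^ e i))))
      (layer p (a + 1) b) := by
  classical
  have : NeZero p := ⟨hp.out.ne_zero⟩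
  let g : Multiplicative (∀ i : ι, ZMod (p ^ e i)) :=
    Multiplicative.ofAdd (fun i => if e i = a + b + 1 then (1 : ZMod (p ^ e i)) else 0)
  refine ⟨g ^ (p ^ b), ?_, ?_⟩
  · rw [mem_layer]
    refine ⟨g, 1, ?_, by rw [one_pow, mul_one]⟩
    apply Multiplicative.toAdd.injective
    funext i
    simp only [toAdd_pow, toAdd_one, Pi.smul_apply, Pi.zero_apply, g, toAdd_ofAdd]
    simp only [nsmul_eq_mul]
    split_ifs with h
    · rw [mul_one, ← Nat.cast_mul, ← pow_add, ZMod.natCast_eq_zero_iff, h]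
      exact dvd_of_eq (by ring)
    · simp
  · intro x hx
    rw [mem_layer] at hx
    obtain ⟨y, w, hy, rfl⟩ := hx
    obtain ⟨Y, hY⟩ : ∃ Y : ∀ i : ι, ZMod (p ^ e i), Y = Multiplicative.toAdd y := ⟨_, rfl⟩
    obtain ⟨W, hW⟩ : ∃ W : ∀ i : ι, ZMod (p ^ e i), W = Multiplicative.toAdd w := ⟨_, rfl⟩
    have hYi : ∀ i, ((p ^ (a + 1) : ℕ) : ZMod (p ^ e i)) * (((p ^ b : ℕ) : ZMod (p ^ e i)) * Y i)
        = 0 := by
      intro i
      have h1 := congrArg
        (fun f : Multiplicative (∀ i : ι, ZMod (p ^ e i)) => Multiplicative.toAdd f i) hy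
      simp only [toAdd_pow, toAdd_one, Pi.smul_apply, Pi.zero_apply] at h1
      simp only [nsmul_eq_mul] at h1
      rw [hY]
      exact h1
    have hZ : ∀ i, ∃ z : ZMod (p ^ e i), a + b + 2 ≤ e i → Y i = (p : ZMod (p ^ e i)) * z := by
      intro i
      by_cases h : a + b + 2 ≤ e i
      · have h1 := hYi i
        rw [← mul_assoc, ← Nat.cast_mul, ← pow_add, ← ZMod.natCast_zmod_val (Y i), ← Nat.cast_mul,
          ZMod.natCast_eq_zero_iff] at h1
        have h2 : p ^ (e i) = p ^ (a + 1 + b) * p ^ (e i - (a + 1 + b)) := by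
          rw [← pow_add]
          congr 1
          omega
        have h3 : p ^ (e i - (a + 1 + b)) ∣ (Y i).val :=
          (Nat.mul_dvd_mul_iff_left (pow_pos hp.out.pos _)).mp
            (Dvd.dvd.trans (dvd_of_eq h2.symm) h1)
        have h4 : p ∣ (Y i).val := dvd_trans (dvd_pow_self p (by omega)) h3
        obtain ⟨z, hz⟩ := h4
        refine ⟨(z : ZMod (p ^ e i)), fun _ => ?_⟩
        rw [← ZMod.natCast_zmod_val (Y i), hz, Nat.cast_mul]
      · exact ⟨0, fun h' => absurd h' h⟩
    choose Z hZ using hZ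
    obtain ⟨k, hk⟩ : ∃ k : ℕ, ∀ i, e i = a + b + 1 → (k : ZMod (p ^ e i)) = Y i := by
      by_cases h : ∃ i₀, e i₀ = a + b + 1
      · obtain ⟨i₀, hi₀⟩ := h
        refine ⟨(Y i₀).val, fun i hi => ?_⟩
        have hii : i = i₀ := he (hi.trans hi₀.symm)
        subst hii
        exact ZMod.natCast_zmod_val _
      · exact ⟨0, fun i hi => absurd ⟨i, hi⟩ h⟩
    refine ⟨k, ?_⟩
    rw [mem_layer]
    refine ⟨Multiplicative.ofAdd (fun i => if e i ≤ a + b then Y i else 0),
      Multiplicative.ofAdd (fun i => W i + if a + b + 2 ≤ e i then Z i else 0), ?_, ?_⟩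
    · apply Multiplicative.toAdd.injective
      funext i
      simp only [toAdd_pow, toAdd_one, Pi.smul_apply, Pi.zero_apply, toAdd_ofAdd]
      simp only [nsmul_eq_mul]
      split_ifs with h
      · rw [← mul_assoc, ← Nat.cast_mul, ← pow_add]
        have h0 : ((p ^ (a + b) : ℕ) : ZMod (p ^ e i)) = 0 :=
          (ZMod.natCast_eq_zero_iff _ _).mpr (pow_dvd_pow p h)
        rw [h0, zero_mul]
      · simp
    · apply Multiplicative.toAdd.injective
      funext i
      simp only [toAdd_mul, toAdd_inv, toAdd_pow, Pi.add_apply, Pi.neg_apply, Pi.smul_apply,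
        toAdd_ofAdd, g, ← hY, ← hW]
      simp only [nsmul_eq_mul]
      rcases lt_trichotomy (e i) (a + b + 1) with h | h | h
      · have h1 : e i ≤ a + b := by omega
        have h2 : ¬ (e i = a + b + 1) := by omega
        have h3 : ¬ (a + b + 2 ≤ e i) := by omega
        simp only [if_pos h1, if_neg h2, if_neg h3]
        ring
      · have h1 : ¬ (e i ≤ a + b) := by omega
        have h3 : ¬ (a + b + 2 ≤ e i) := by omega
        simp only [if_neg h1, if_pos h, if_neg h3, hk i h]
        ring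
      · have h1 : ¬ (e i ≤ a + b) := by omega
        have h2 : ¬ (e i = a + b + 1) := by omega
        have h3 : a + b + 2 ≤ e i := by omega
        simp only [if_neg h1, if_neg h2, if_pos h3]
        rw [hZ i h3]
        push_cast
        ring

/-- Splitting off two coordinates of a product of commutative groups. -/
def piSplitTwo {ι : Type} [DecidableEq ι] (A : ι → Type) [∀ i, CommGroup (A i)] (i j : ι)
    (hij : i ≠ j) : (∀ k, A k) ≃* (A i × A j) × (∀ k : {k // k ≠ i ∧ k ≠ j}, A k.1) where
  toFun f := ((f i, f j), fun k => f k.1)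
  invFun x := fun k =>
    if hi : k = i then (hi ▸ x.1.1 : A k) else if hj : k = j then (hj ▸ x.1.2 : A k)
    else x.2 ⟨k, hi, hj⟩
  left_inv f := by
    funext k
    by_cases hi : k = i
    · subst hi
      simp
    · by_cases hj : k = j
      · subst hj
        simp [hi]
      · simp [hi, hj]
  right_inv x := by
    obtain ⟨⟨a, b⟩, h⟩ := x
    refine Prod.ext (Prod.ext ?_ ?_) ?_
    · simp
    · simp [hij.symm]
    · funext k
      simp [k.2.1, k.2.2]
  map_mul' f g := rfl

/-- A `p'`-group of automorphisms of a finite abelian `p`-group with pairwise distinct invariants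
is abelian of exponent dividing `p - 1`. -/
theorem pprime_abelian_of_distinct {G : Type*} [CommGroup G] [Finite G] (p : ℕ)
    [hp : Fact p.Prime] (hG : IsPGroup p G)
    (hdist : ¬ ∃ (n : ℕ) (H : Type) (_ : CommGroup H), 0 < n ∧
      Nonempty (G ≃* (Multiplicative (ZMod (p ^ n)) × Multiplicative (ZMod (p ^ n))) × H))
    (K : Subgroup (MulAut G)) (hK : (Nat.card K).Coprime p) :
    (∀ h ∈ K, ∀ h' ∈ K, h * h' = h' * h) ∧ ∀ h ∈ K, h ^ (p - 1) = 1 := by
  classical
  obtain ⟨ι, hι, n, hn1, ⟨ε⟩⟩ := CommGroup.equiv_prod_multiplicative_zmod_of_finite G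
  obtain ⟨N, hN⟩ := IsPGroup.iff_card.mp hG
  have hcard : ∏ i, n i = p ^ N := by
    rw [← hN, Nat.card_congr ε.toEquiv, Nat.card_pi]
    refine Finset.prod_congr rfl (fun i _ => ?_)
    rw [Nat.card_congr Multiplicative.toAdd, Nat.card_zmod]
  have hpow : ∀ i, ∃ k, n i = p ^ k := by
    intro i
    have h1 : n i ∣ p ^ N := by
      rw [← hcard]
      exact Finset.dvd_prod_of_mem n (Finset.mem_univ i)
    obtain ⟨k, -, hk⟩ := (Nat.dvd_prime_pow hp.out).mp h1
    exact ⟨k, hk⟩
  choose e he using hpow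
  obtain rfl : n = fun i => p ^ e i := funext he
  have he0 : ∀ i, 0 < e i := by
    intro i
    by_contra h
    have h0 : e i = 0 := by omega
    have h1 := hn1 i
    simp only [h0, pow_zero, lt_irrefl] at h1
  have hinj : Function.Injective e := by
    intro i j hij
    by_contra hne
    apply hdist
    have key : ∀ m : ℕ, e j = m → Nonempty (G ≃* (Multiplicative (ZMod (p ^ e i)) ×
        Multiplicative (ZMod (p ^ m))) ×
        (∀ k : {k // k ≠ i ∧ k ≠ j}, Multiplicative (ZMod (p ^ e k.1)))) := by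
      intro m hm
      subst hm
      exact ⟨ε.trans (piSplitTwo (fun k => Multiplicative (ZMod (p ^ e k))) i j hne)⟩
    obtain ⟨ψ⟩ := key (e i) hij.symm
    exact ⟨e i, _, inferInstance, he0 i, ⟨ψ⟩⟩
  have hcyc : ∀ a b, CycStep (layer p a b : Subgroup G) (layer p (a + 1) b) := fun a b =>
    cycStep_layer_of_equiv (ε.trans (MulEquiv.piMultiplicative (fun i => ZMod (p ^ e i))).symm)
      (cycStep_layer_pi p e hinj a b)
  exact pprime_abelian_of_layers p hG hcyc K hK

end Coord

end Cfsg.Agent.Lib.Helper90
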