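import Cfsg.Agent.Lib.Helper90.Centric

set_option autoImplicit false

namespace Cfsg.Agent.Lib.Helper90

open Cfsg

/-- The relative trace argument: for a finite group `G` acting on a commutative `p`-torsion group
`C` and a subgroup `T` of index prime to `p`, the `G`-fixed points are a direct factor of the
`T`-fixed points. -/
theorem trace_decomp {C : Type*} [CommGroup C] {G : Type*} [Group G] [Finite G]
    (act : G → C → C) (h1 : ∀ g c d, act g (c * d) = act g c * act g d)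
    (hmul : ∀ g h c, act (g * h) c = act g (act h c)) (T : Subgroup G) {p : ℕ}
    [hp : Fact p.Prime] (hidx : ¬ p ∣ T.index) (hC : ∀ c : C, ∃ k : ℕ, c ^ p ^ k = 1) :
    ∃ K : Subgroup C, (∀ c ∈ K, ∀ t ∈ T, act t c = c) ∧
      (∀ c ∈ K, (∀ g, act g c = c) → c = 1) ∧
      (∀ c, (∀ t ∈ T, act t c = c) → ∃ u k, (∀ g, act g u = u) ∧ k ∈ K ∧ c = u * k) := by
  classical
  have : Fintype (G ⧸ T) := Fintype.ofFinite _
  have hone : ∀ g, act g 1 = 1 := by
    intro g
    have := h1 g 1 1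
    rw [mul_one] at this
    exact (left_eq_mul.mp this)
  let actHom : G → (C →* C) := fun g => ⟨⟨act g, hone g⟩, h1 g⟩
  have hinv : ∀ g c, act g c⁻¹ = (act g c)⁻¹ := fun g c => map_inv (actHom g) c
  have hpow : ∀ g c (n : ℕ), act g (c ^ n) = (act g c) ^ n := fun g c n => map_pow (actHom g) c n
  obtain ⟨tr, htr⟩ : ∃ tr : C → C, ∀ c, tr c = ∏ q : G ⧸ T, act q.out c := ⟨_, fun _ => rfl⟩
  have htr_mul : ∀ c d, tr (c * d) = tr c * tr d := by
    intro c d
    rw [htr, htr, htr, ← Finset.prod_mul_distrib]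
    exact Finset.prod_congr rfl (fun q _ => h1 _ c d)
  have htr_one : tr 1 = 1 := by
    rw [htr]
    exact Finset.prod_eq_one (fun q _ => hone _)
  have htr_fix : ∀ c, (∀ t ∈ T, act t c = c) → ∀ g, act g (tr c) = tr c := by
    intro c hc g
    rw [htr]
    have e1 : act g (∏ q : G ⧸ T, act q.out c) = ∏ q : G ⧸ T, act g (act q.out c) :=
      map_prod (actHom g) _ _
    rw [e1]
    have e2 : ∀ q : G ⧸ T, act g (act q.out c) = act ((g • q).out) c := by
      intro q
      have hq : g • q = ((g * q.out : G) : G ⧸ T) := by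
        conv_lhs => rw [← QuotientGroup.out_eq' q]
        rfl
      obtain ⟨t, ht⟩ := QuotientGroup.mk_out_eq_mul T (g * q.out)
      rw [hq]
      have : (QuotientGroup.mk (g * q.out) : G ⧸ T).out = g * q.out * t := ht
      rw [this, hmul (g * q.out) t c, hc t t.2, hmul]
    rw [Finset.prod_congr rfl (fun q _ => e2 q)]
    exact Equiv.prod_comp (MulAction.toPerm g) (fun q : G ⧸ T => act q.out c)
  have htr_const : ∀ c, (∀ g, act g c = c) → tr c = c ^ T.index := by
    intro c hc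
    rw [htr, Finset.prod_congr rfl (fun q _ => hc q.out), Finset.prod_const, Finset.card_univ,
      Subgroup.index_eq_card, Nat.card_eq_fintype_card]
  have hcop : Nat.Coprime T.index p :=
    (Nat.Coprime.symm ((Nat.Prime.coprime_iff_not_dvd hp.out).mpr hidx))
  refine ⟨{ carrier := {c | (∀ t ∈ T, act t c = c) ∧ tr c = 1}
            mul_mem' := ?_
            one_mem' := ?_
            inv_mem' := ?_ }, ?_, ?_, ?_⟩
  · rintro a b ⟨ha, ha'⟩ ⟨hb, hb'⟩
    refine ⟨fun t ht => ?_, ?_⟩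
    · rw [h1, ha t ht, hb t ht]
    · rw [htr_mul, ha', hb', mul_one]
  · exact ⟨fun t _ => hone t, htr_one⟩
  · rintro a ⟨ha, ha'⟩
    refine ⟨fun t ht => ?_, ?_⟩
    · rw [hinv, ha t ht]
    · have := htr_mul a a⁻¹
      rw [mul_inv_cancel, htr_one, ha', one_mul] at this
      exact this.symm
  · intro c hc t ht
    exact hc.1 t ht
  · intro c hc hfix
    have h2 : c ^ T.index = 1 := by rw [← htr_const c hfix]; exact hc.2
    obtain ⟨k, hk⟩ := hC c
    have h3 : orderOf c ∣ Nat.gcd T.index (p ^ k) :=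
      Nat.dvd_gcd (orderOf_dvd_of_pow_eq_one h2) (orderOf_dvd_of_pow_eq_one hk)
    rw [Nat.Coprime.pow_right k hcop, Nat.dvd_one, orderOf_eq_one_iff] at h3
    exact h3
  · intro c hc
    obtain ⟨k, hk⟩ := hC (tr c)
    have hcop' : Nat.Coprime T.index (orderOf (tr c)) :=
      Nat.Coprime.coprime_dvd_right (orderOf_dvd_of_pow_eq_one hk) (Nat.Coprime.pow_right k hcop)
    obtain ⟨a, ha⟩ := exists_pow_eq_self_of_coprime hcop'
    have hfixtr : ∀ g, act g (tr c) = tr c := htr_fix c hc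
    have hufix : ∀ g, act g ((tr c) ^ a) = (tr c) ^ a := by
      intro g
      rw [hpow, hfixtr]
    have hum : tr ((tr c) ^ a) = tr c := by
      rw [htr_const _ hufix, ← pow_mul, mul_comm, pow_mul]
      exact ha
    have htr_inv : ∀ d, tr d⁻¹ = (tr d)⁻¹ := by
      intro d
      have := htr_mul d d⁻¹
      rw [mul_inv_cancel, htr_one] at this
      exact eq_inv_of_mul_eq_one_right this.symm
    refine ⟨(tr c) ^ a, c * ((tr c) ^ a)⁻¹, hufix, ⟨fun t ht => ?_, ?_⟩, ?_⟩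
    · rw [h1, hinv, hufix, hc t ht]
    · rw [htr_mul, htr_inv, hum, mul_inv_cancel]
    · rw [mul_comm c, mul_inv_cancel_left]


/-- `trace_decomp` for a group with a commutativity hypothesis. -/
theorem trace_decomp' {C : Type*} [Group C] (hcomm : ∀ a b : C, a * b = b * a) {G : Type*}
    [Group G] [Finite G]
    (act : G → C → C) (h1 : ∀ g c d, act g (c * d) = act g c * act g d)
    (hmul : ∀ g h c, act (g * h) c = act g (act h c)) (T : Subgroup G) {p : ℕ}
    [hp : Fact p.Prime] (hidx : ¬ p ∣ T.index) (hC : ∀ c : C, ∃ k : ℕ, c ^ p ^ k = 1) :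
    ∃ K : Subgroup C, (∀ c ∈ K, ∀ t ∈ T, act t c = c) ∧
      (∀ c ∈ K, (∀ g, act g c = c) → c = 1) ∧
      (∀ c, (∀ t ∈ T, act t c = c) → ∃ u k, (∀ g, act g u = u) ∧ k ∈ K ∧ c = u * k) := by
  let _ : CommGroup C := { (inferInstance : Group C) with mul_comm := hcomm }
  exact trace_decomp act h1 hmul T hidx hC

open Cfsg.FusionSystem

variable {Ω : Type*} [Group Ω] {S : Subgroup Ω} {F : FusionSystem S} {P Q : Subgroup Ω}
  {f : Ω → Ω}

/-- The elements of `Q` fixed by every map of the system defined on `Q`. -/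
def fixSub (F : FusionSystem S) (Q : Subgroup Ω) : Subgroup Ω where
  carrier := {v | v ∈ Q ∧ ∀ f, Mor F Q f → f v = v}
  mul_mem' := by
    rintro a b ⟨ha, ha'⟩ ⟨hb, hb'⟩
    exact ⟨Q.mul_mem ha hb, fun f hf => by rw [hf.map_mul ha hb, ha' f hf, hb' f hf]⟩
  one_mem' := ⟨Q.one_mem, fun f hf => hf.map_one⟩
  inv_mem' := by
    rintro a ⟨ha, ha'⟩
    exact ⟨Q.inv_mem ha, fun f hf => by rw [hf.map_inv ha, ha' f hf]⟩

theorem mem_fixSub {v : Ω} : v ∈ fixSub F Q ↔ v ∈ Q ∧ ∀ f, Mor F Q f → f v = v := Iff.rfl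

theorem isCentral_fixSub (hQ : F.IsNormal Q) : F.IsCentral (fixSub F Q) := by
  refine ⟨fun v hv => hQ.1 hv.1, fun P φ hφ => ?_⟩
  obtain ⟨f', hf', hf'P, hf'Q⟩ := extQ_of_isNormal hQ (mor_of_hom hφ)
  have hle : P ⊔ fixSub F Q ≤ P ⊔ Q := sup_le_sup_left (fun v hv => hv.1) P
  obtain ⟨ψ, hψ, hψf⟩ := hf'.restrict hle
  refine ⟨ψ, hψ, fun x => ?_, fun x => ?_⟩
  · rw [hψf]
    show f' x = φ x
    rw [hf'P x x.2, extFun_apply]
  · rw [hψf]
    show f' x = x
    exact x.2.2 f' (hf'.restrict le_sup_right)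

/-- When `Z(S)` lies in a subgroup `Q` normal in the system, the centre of the system is the
subgroup of fixed points of `Aut_F(Q)` on `Q`. -/
theorem center_eq_fixSub (hQ : F.IsNormal Q)
    (hZ : S ⊓ Subgroup.centralizer (S : Set Ω) ≤ Q) : F.center = fixSub F Q := by
  apply le_antisymm
  · apply sSup_le
    intro A hA v hv
    have hvS : v ∈ S := hA.1 hv
    have hvZ : v ∈ Subgroup.centralizer (S : Set Ω) := by
      rw [Subgroup.mem_centralizer_iff]
      intro s hs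
      obtain ⟨φ, hφ, hφf⟩ := mor_conj F (le_refl S) hs
      obtain ⟨ψ, hψ, hψP, hψA⟩ := hA.2 S φ hφ
      have h1 := hψP ⟨v, hvS⟩
      have h2 := hψA ⟨v, hv⟩
      have h3 : (Subgroup.inclusion le_sup_left ⟨v, hvS⟩ : (S ⊔ A : Subgroup Ω)) =
          Subgroup.inclusion le_sup_right ⟨v, hv⟩ := rfl
      rw [h3, h2, hφf] at h1
      have h4 : v = s * v * s⁻¹ := h1
      calc s * v = (s * v * s⁻¹) * s := by group
        _ = v * s := by rw [← h4]
    have hvQ : v ∈ Q := hZ ⟨hvS, hvZ⟩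
    refine ⟨hvQ, fun f hf => ?_⟩
    obtain ⟨φ, hφ, hφf⟩ := id hf
    obtain ⟨ψ, hψ, hψP, hψA⟩ := hA.2 Q φ hφ
    have h1 := hψP ⟨v, hvQ⟩
    have h2 := hψA ⟨v, hv⟩
    have h3 : (Subgroup.inclusion le_sup_left ⟨v, hvQ⟩ : (Q ⊔ A : Subgroup Ω)) =
        Subgroup.inclusion le_sup_right ⟨v, hv⟩ := rfl
    rw [h3, h2, hφf] at h1
    exact h1.symm
  · exact le_sSup (isCentral_fixSub hQ)

/-- A subgroup normal in a saturated system is fully automized. -/
theorem fullyAutomized_of_isNormal [Finite S] {p : ℕ} (hF : F.IsSaturated p) (hQ : F.IsNormal Q) :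
    F.IsFullyAutomized p Q := by
  have hQS : Q ≤ S := hQ.1
  have : Finite Q := finite_of_le hQS
  have hQsc : F.StronglyClosed Q := stronglyClosed_of_isNormal hQ
  obtain ⟨Q', hconj, hfa, -⟩ := hF Q hQS
  obtain ⟨c, hc, himg⟩ := isConj_iff.mp hconj
  have h1 : img Q c = Q := hc.img_eq_self (fun x hx => stronglyClosed_mor_mem hQsc hc le_rfl hx)
  rw [h1] at himg
  rw [himg]
  exact hfa

/-- If `Z(S)` lies in a subgroup `Q` normal in the saturated system, the fixed points of `Aut_F(Q)`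
on `Q` are a direct factor of `Z(S)`. -/
theorem exists_complement_fixSub [Finite S] {p : ℕ} [Fact p.Prime] (hS : IsPGroup p S)
    (hF : F.IsSaturated p) (hQ : F.IsNormal Q)
    (hZ : S ⊓ Subgroup.centralizer (S : Set Ω) ≤ Q) :
    ∃ K : Subgroup Ω, K ≤ S ⊓ Subgroup.centralizer (S : Set Ω) ∧ fixSub F Q ⊓ K = ⊥ ∧
      fixSub F Q ⊔ K = S ⊓ Subgroup.centralizer (S : Set Ω) := by
  have hQS : Q ≤ S := hQ.1
  have : Finite Q := finite_of_le hQS
  have hQp : IsPGroup p Q := hS.to_le hQS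
  have hQsc : F.StronglyClosed Q := stronglyClosed_of_isNormal hQ
  obtain ⟨-, R, hR⟩ := fullyAutomized_of_isNormal hF hQ
  have hidx : ¬ p ∣ ((autInducedBy S Q).subgroupOf (F.autGroup Q)).index := by
    rw [← hR]
    exact R.not_dvd_index
  have hchar : ∀ (g : MulAut Q) (c : Subgroup.center Q), g (c : Q) ∈ Subgroup.center Q :=
    fun g c => Subgroup.characteristic_iff_le_comap.mp Subgroup.centerCharacteristic g c.2
  obtain ⟨K, hK1, hK2, hK3⟩ := trace_decomp'
    (C := Subgroup.center Q) (fun a b => Subtype.ext (Subgroup.mem_center_iff.mp b.2 (a : Q)))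
    (G := F.autGroup Q)
    (fun g c => ⟨(g : MulAut Q) (c : Q), hchar g c⟩)
    (fun g c d => Subtype.ext (map_mul (g : MulAut Q) (c : Q) (d : Q)))
    (fun g h c => rfl)
    ((autInducedBy S Q).subgroupOf (F.autGroup Q)) hidx
    (fun c => by
      obtain ⟨k, hk⟩ := hQp (c : Q)
      exact ⟨k, Subtype.ext ((Subgroup.coe_pow _ _ _).trans hk)⟩)
  have hconjS : ∀ s ∈ S, ∃ α ∈ F.autGroup Q, ∀ x : Q, ((α x : Q) : Ω) = s * x * s⁻¹ :=
    fun s hs => exists_aut_of_mor (mor_conj F hQS hs)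
      (fun x hx => stronglyClosed_conj_mem hQsc hs hx)
  have hfixZ : fixSub F Q ≤ S ⊓ Subgroup.centralizer (S : Set Ω) := by
    intro v hv
    refine ⟨hQS hv.1, ?_⟩
    show v ∈ Subgroup.centralizer (S : Set Ω)
    rw [Subgroup.mem_centralizer_iff]
    intro s hs
    have h4 : s * v * s⁻¹ = v := hv.2 _ (mor_conj F hQS hs)
    calc s * v = (s * v * s⁻¹) * s := by group
      _ = v * s := by rw [h4]
  have hKZ : K.map (Q.subtype.comp (Subgroup.center Q).subtype) ≤
      S ⊓ Subgroup.centralizer (S : Set Ω) := by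
    rintro _ ⟨c, hc, rfl⟩
    refine ⟨hQS (c : Q).2, ?_⟩
    show ((c : Q) : Ω) ∈ Subgroup.centralizer (S : Set Ω)
    rw [Subgroup.mem_centralizer_iff]
    intro s hs
    obtain ⟨α, hα, hαs⟩ := hconjS s hs
    have ht : (⟨α, hα⟩ : F.autGroup Q) ∈ (autInducedBy S Q).subgroupOf (F.autGroup Q) :=
      Subgroup.mem_subgroupOf.mpr ((mem_autInducedBy_iff S Q α).mpr ⟨s, hs, hαs⟩)
    have h1 := hK1 c hc ⟨α, hα⟩ ht
    have h2 : ((α (c : Q) : Q) : Ω) = ((c : Q) : Ω) := congrArg (fun z : Subgroup.center Q => ((z : Q) : Ω)) h1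
    rw [hαs] at h2
    show s * ((c : Q) : Ω) = ((c : Q) : Ω) * s
    calc s * ((c : Q) : Ω) = (s * ((c : Q) : Ω) * s⁻¹) * s := by group
      _ = ((c : Q) : Ω) * s := by rw [h2]
  refine ⟨K.map (Q.subtype.comp (Subgroup.center Q).subtype), hKZ, ?_, ?_⟩
  · rw [eq_bot_iff]
    rintro x ⟨hx1, c, hc, rfl⟩
    have hcfix : ∀ g : F.autGroup Q,
        (⟨(g : MulAut Q) (c : Q), hchar g c⟩ : Subgroup.center Q) = c := by
      intro g
      apply Subtype.ext
      apply Subtype.ext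
      have h1 := hx1.2 _ ((mem_autGroup_iff F hQS (g : MulAut Q)).mp g.2)
      have h2 : autFun Q (g : MulAut Q) ((c : Q) : Ω) = (((g : MulAut Q) (c : Q) : Q) : Ω) :=
        autFun_apply _ _
      rw [← h2]
      exact h1
    have hc1 := hK2 c hc hcfix
    rw [hc1]
    exact Subgroup.one_mem _
  · apply le_antisymm (sup_le hfixZ hKZ)
    rintro v ⟨hvS, hvZ⟩
    have hvQ : v ∈ Q := hZ ⟨hvS, hvZ⟩
    have hvc : (⟨v, hvQ⟩ : Q) ∈ Subgroup.center Q := by
      rw [Subgroup.mem_center_iff]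
      intro y
      apply Subtype.ext
      exact Subgroup.mem_centralizer_iff.mp hvZ y (hQS y.2)
    have hT : ∀ t ∈ (autInducedBy S Q).subgroupOf (F.autGroup Q),
        (⟨(t : MulAut Q) ⟨v, hvQ⟩, hchar t ⟨⟨v, hvQ⟩, hvc⟩⟩ : Subgroup.center Q) =
          ⟨⟨v, hvQ⟩, hvc⟩ := by
      intro t ht
      obtain ⟨a, ha, hta⟩ := (mem_autInducedBy_iff S Q (t : MulAut Q)).mp
        (Subgroup.mem_subgroupOf.mp ht)
      apply Subtype.ext
      apply Subtype.ext
      show (((t : MulAut Q) ⟨v, hvQ⟩ : Q) : Ω) = v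
      rw [hta]
      have h1 : a * v = v * a := Subgroup.mem_centralizer_iff.mp hvZ a ha
      show a * v * a⁻¹ = v
      rw [h1]
      group
    obtain ⟨u, k, hu, hk, hcuk⟩ := hK3 ⟨⟨v, hvQ⟩, hvc⟩ hT
    have hv : v = ((u : Q) : Ω) * ((k : Q) : Ω) := by
      have := congrArg (fun z : Subgroup.center Q => ((z : Q) : Ω)) hcuk
      exact this
    rw [hv]
    apply Subgroup.mul_mem_sup
    · refine ⟨(u : Q).2, fun f hf => ?_⟩
      obtain ⟨α, hα, hαf⟩ := exists_aut_of_mor hf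
        (fun x hx => stronglyClosed_mor_mem hQsc hf le_rfl hx)
      rw [← hαf (u : Q)]
      have := congrArg (fun z : Subgroup.center Q => ((z : Q) : Ω)) (hu ⟨α, hα⟩)
      exact this
    · exact ⟨k, hk, rfl⟩

end Cfsg.Agent.Lib.Helper90
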